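import Cfsg.Agent.Lib.Solvable.Basic

/-!
# Building `Cfsg.IsPSolvable` (owner: helper75)

* `isPSolvable_of_ext`: `N` normal of `p`-power or `p'` order and `G ⧸ N` `p`-solvable
* `isPSolvable_of_isSolvable`
-/

set_option autoImplicit false

namespace Cfsg.Agent.ClassIndex

variable {G : Type*} [Group G] {p : ℕ}

theorem isPSolvable_of_ext [Finite G] (N : Subgroup G) [N.Normal]
    (hN : (∃ m : ℕ, Nat.card N = p ^ m) ∨ (Nat.card N).Coprime p) (h : Cfsg.IsPSolvable p (G ⧸ N)) :
    Cfsg.IsPSolvable p G := by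
  obtain ⟨n, H, h0, hlast, hmono, hnorm, hstep⟩ := h
  have hq : Function.Surjective (QuotientGroup.mk' N) := QuotientGroup.mk'_surjective N
  have hfirst : (H 0).comap (QuotientGroup.mk' N) = N := by
    rw [h0, MonoidHom.comap_bot, QuotientGroup.ker_mk']
  refine ⟨n + 1, Fin.cons ⊥ (fun i => (H i).comap (QuotientGroup.mk' N)), rfl, ?_, ?_, ?_, ?_⟩
  · rw [← Fin.succ_last, Fin.cons_succ, hlast, Subgroup.comap_top]
  · rw [Fin.monotone_iff_le_succ]
    intro i
    refine Fin.cases ?_ (fun j => ?_) i
    · exact bot_le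
    · rw [Fin.cons_succ, ← Fin.succ_castSucc, Fin.cons_succ]
      exact Subgroup.comap_mono (hmono (Fin.castSucc_le_succ j))
  · intro i
    refine Fin.cases ?_ (fun j => ?_) i
    · exact (inferInstance : (⊥ : Subgroup G).Normal)
    · rw [Fin.cons_succ]
      exact (hnorm j).comap _
  · intro i
    refine Fin.cases ?_ (fun j => ?_) i
    · simp only [Fin.castSucc_zero, Fin.cons_zero, Fin.cons_succ, hfirst, Subgroup.relIndex_bot_left]
      exact hN
    · rw [← Fin.succ_castSucc, Fin.cons_succ, Fin.cons_succ, Subgroup.relIndex_comap,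
        Subgroup.map_comap_eq_self_of_surjective hq]
      exact hstep j

theorem isPSolvable_of_subsingleton (G : Type*) [Group G] [Subsingleton G] (p : ℕ) :
    Cfsg.IsPSolvable p G :=
  ⟨0, fun _ => ⊥, rfl, Subsingleton.elim _ _, monotone_const, fun _ => inferInstance, fun i => i.elim0⟩

theorem isPSolvable_of_isSolvable {p : ℕ} [Fact p.Prime] : ∀ (G : Type*) [Group G] [Finite G],
    Group.IsSolvable G → Cfsg.IsPSolvable p G := by
  intro G _ _ hG
  suffices H : ∀ n : ℕ, ∀ (X : Type _) [Group X] [Finite X], Nat.card X = n → Group.IsSolvable X →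
      Cfsg.IsPSolvable p X from H _ G rfl hG
  intro n
  induction n using Nat.strong_induction_on with
  | _ n ih =>
    intro X _ _ hn hX
    haveI := hX
    by_cases hs : Subsingleton X
    · exact isPSolvable_of_subsingleton X p
    · haveI := not_subsingleton_iff_nontrivial.mp hs
      obtain ⟨q, hq, N, hN, hNne, hNq⟩ := Solvable.exists_normal_pGroup_ne_bot X
      haveI := hN
      haveI := Fact.mk hq
      have hlt : Nat.card (X ⧸ N) < n := by
        rw [← hn, Subgroup.card_eq_card_quotient_mul_card_subgroup N]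
        exact lt_mul_of_one_lt_right Nat.card_pos ((Subgroup.one_lt_card_iff_ne_bot N).mpr hNne)
      refine isPSolvable_of_ext N ?_ (ih _ hlt (X ⧸ N) rfl inferInstance)
      obtain ⟨m, hm⟩ := IsPGroup.iff_card.mp hNq
      by_cases hqp : q = p
      · exact Or.inl ⟨m, hqp ▸ hm⟩
      · exact Or.inr (by rw [hm]; exact ((Nat.coprime_primes hq Fact.out).mpr hqp).pow_left m)

end Cfsg.Agent.ClassIndex
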