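import Cfsg.Agent.EqLemmas

/-!
# Class sizes as centralizer indices (owner: helper75)

* `mem_cent`
* `natCard_conjSet_mul`, `index_centralizer_eq`: class size = index of the centralizer
* `index_centralizer_map_dvd`: the index can only drop in a quotient
* `index_centralizer_subgroup_dvd`: ... and in a normal subgroup
* `natCard_carrier_eq_index`: ConjClasses version
-/

set_option autoImplicit false

namespace Cfsg.Agent.ClassIndex

variable {G : Type*} [Group G]

theorem mem_cent {g x : G} : g ∈ Subgroup.centralizer ({x} : Set G) ↔ g * x = x * g :=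
  Subgroup.mem_centralizer_singleton_iff

theorem orbit_conjAct_eq (g : G) :
    MulAction.orbit (ConjAct G) g = {y : G | ∃ x : G, x * g * x⁻¹ = y} := by
  ext y
  constructor
  · rintro ⟨c, rfl⟩; exact ⟨ConjAct.ofConjAct c, by simp [ConjAct.smul_def]⟩
  · rintro ⟨x, rfl⟩; exact ⟨ConjAct.toConjAct x, by simp [ConjAct.smul_def]⟩

theorem index_centralizer_eq (g : G) :
    (Subgroup.centralizer ({g} : Set G)).index = Nat.card {y : G // ∃ x : G, x * g * x⁻¹ = y} := by
  have h1 : Nat.card {y : G // ∃ x : G, x * g * x⁻¹ = y} = Nat.card (MulAction.orbit (ConjAct G) g) := by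
    rw [orbit_conjAct_eq]; rfl
  rw [h1, Nat.card_coe_set_eq, ← MulAction.index_stabilizer,
    Subgroup.centralizer_eq_comap_stabilizer]
  exact Subgroup.index_comap_of_surjective (MulAction.stabilizer (ConjAct G) g)
    (f := ConjAct.toConjAct.toMonoidHom) ConjAct.toConjAct.surjective

theorem natCard_conjSet_mul (g : G) :
    Nat.card {y : G // ∃ x : G, x * g * x⁻¹ = y} * Nat.card (Subgroup.centralizer ({g} : Set G)) =
      Nat.card G := by
  rw [← index_centralizer_eq, Subgroup.index_mul_card]

theorem natCard_carrier_eq_index (g : G) :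
    Nat.card (ConjClasses.mk g).carrier = (Subgroup.centralizer ({g} : Set G)).index := by
  rw [index_centralizer_eq]
  refine Nat.card_congr (Equiv.subtypeEquivRight fun y => ?_)
  rw [ConjClasses.mem_carrier_iff_mk_eq, ConjClasses.mk_eq_mk_iff_isConj, isConj_comm, isConj_iff]

theorem index_centralizer_map_dvd {G' : Type*} [Group G'] {f : G →* G'} (hf : Function.Surjective f)
    (x : G) :
    (Subgroup.centralizer ({f x} : Set G')).index ∣ (Subgroup.centralizer ({x} : Set G)).index := by
  refine dvd_trans (Subgroup.index_dvd_of_le ?_) (Subgroup.index_map_dvd _ hf)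
  rintro y ⟨g, hg, rfl⟩
  rw [SetLike.mem_coe, mem_cent] at hg
  rw [mem_cent, ← map_mul, hg, map_mul]

/-- For normal `N`, the index `|N : C ∩ N|` divides `|G : C|`. -/
theorem relIndex_dvd_index_of_normal_right [Finite G] (C N : Subgroup G) [N.Normal] :
    C.relIndex N ∣ C.index := by
  have h : C.relIndex N = C.relIndex (C ⊔ N) := by
    have h1 := Subgroup.relIndex_mul_relIndex (⊥ : Subgroup G) (C ⊓ N) N bot_le inf_le_right
    have h2 := Subgroup.relIndex_mul_relIndex (⊥ : Subgroup G) (C ⊓ N) C bot_le inf_le_left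
    have h3 := Subgroup.relIndex_mul_relIndex (⊥ : Subgroup G) N (C ⊔ N) bot_le le_sup_right
    have h4 := Subgroup.relIndex_mul_relIndex (⊥ : Subgroup G) C (C ⊔ N) bot_le le_sup_left
    rw [Subgroup.inf_relIndex_right] at h1
    rw [Subgroup.inf_relIndex_left] at h2
    rw [Subgroup.relIndex_sup_right] at h3
    rw [← h1, ← h4, ← h2] at h3
    have hpos : (⊥ : Subgroup G).relIndex (C ⊓ N) * N.relIndex C ≠ 0 := by
      rw [h2, Subgroup.relIndex_bot_left]; exact Nat.card_pos.ne'
    refine Nat.eq_of_mul_eq_mul_left (Nat.pos_of_ne_zero hpos) ?_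
    rw [← h3]; ring
  rw [h]
  exact Subgroup.relIndex_dvd_index_of_le le_sup_left

theorem index_centralizer_subgroup_dvd [Finite G] (N : Subgroup G) [N.Normal] (x : N) :
    (Subgroup.centralizer ({x} : Set N)).index ∣ (Subgroup.centralizer ({(x : G)} : Set G)).index := by
  refine dvd_trans ?_ (relIndex_dvd_index_of_normal_right (Subgroup.centralizer ({(x : G)} : Set G)) N)
  refine Subgroup.index_dvd_of_le (fun y hy => ?_)
  rw [Subgroup.mem_subgroupOf, mem_cent] at hy
  rw [mem_cent]
  exact Subtype.ext hy

end Cfsg.Agent.ClassIndex
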