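import Cfsg.Agent.EqLemmas

/-!
# Thompson's P×Q lemma, element form (owner: helper75)

* `commute_of_pxq`: `R` a `p`-group, `x` a `p`-element normalizing `R`, `y` a `p'`-element commuting
  with `x`, normalizing `R` and centralizing `C_R(x)`: then `y` centralizes `R`.
* `eq_top_of_conj_cover`: a subgroup meeting every conjugacy class is everything.
-/

set_option autoImplicit false

namespace Cfsg.Agent.ClassIndex

variable {G : Type*} [Group G]

theorem eq_top_of_conj_cover [Finite G] {M : Subgroup G} (h : ∀ g : G, ∃ x : G, x⁻¹ * g * x ∈ M) :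
    M = ⊤ := by
  let F : (G ⧸ M) × M → G := fun c => c.1.out * c.2 * c.1.out⁻¹
  have hsurj : Function.Surjective F := by
    intro g
    obtain ⟨x, hx⟩ := h g
    obtain ⟨k, hk⟩ := QuotientGroup.mk_out_eq_mul M x
    refine ⟨((x : G ⧸ M), ⟨(k : G)⁻¹ * (x⁻¹ * g * x) * k, mul_mem (mul_mem (inv_mem k.2) hx) k.2⟩), ?_⟩
    simp only [F, hk]
    group
  have hcard : Nat.card ((G ⧸ M) × M) = Nat.card G := by
    rw [Nat.card_prod]; exact (Subgroup.card_eq_card_quotient_mul_card_subgroup M).symm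
  have hinj : Function.Injective F := ((Nat.bijective_iff_surjective_and_card F).2 ⟨hsurj, hcard⟩).1
  rw [eq_top_iff]
  intro g _
  have := @hinj ((g : G ⧸ M), 1) (((1 : G) : G ⧸ M), 1) (by simp [F])
  have h2 : ((g : G ⧸ M)) = ((1 : G) : G ⧸ M) := congrArg Prod.fst this
  rw [QuotientGroup.eq, mul_one] at h2
  simpa using h2

theorem commute_of_pxq [Finite G] {p : ℕ} [Fact p.Prime] {R : Subgroup G} (hR : IsPGroup p R) {x y : G}
    (hx : ∃ k : ℕ, orderOf x = p ^ k) (hxR : x ∈ Subgroup.normalizer (R : Set G))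
    (hy : ¬ p ∣ orderOf y) (hyR : y ∈ Subgroup.normalizer (R : Set G)) (hxy : Commute x y)
    (hC : ∀ c ∈ R, Commute c x → Commute c y) : ∀ r ∈ R, Commute r y := by
  obtain ⟨k, hk⟩ := hx
  have hX : IsPGroup p (Subgroup.zpowers x) := IsPGroup.of_card (p := p) (n := k) (by rw [Nat.card_zpowers, hk])
  have hle : Subgroup.zpowers x ≤ Subgroup.normalizer (R : Set G) := Subgroup.zpowers_le.mpr hxR
  set T : Subgroup G := Subgroup.zpowers x ⊔ R with hT
  have hTp : IsPGroup p T := hX.to_sup_of_normal_right' hR hle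
  set C : Subgroup T := (Subgroup.centralizer ({y} : Set G)).subgroupOf T with hC'
  have memC : ∀ t : T, t ∈ C ↔ Commute (t : G) y := fun t => Subgroup.mem_centralizer_singleton_iff
  by_contra hcon
  have hCtop : C ≠ ⊤ := by
    intro h
    apply hcon
    intro r hr
    have : (⟨r, Subgroup.mem_sup_right hr⟩ : T) ∈ C := by rw [h]; trivial
    exact (memC _).mp this
  haveI := hTp.isNilpotent
  have hlt := Group.normalizerCondition_of_isNilpotent C (lt_top_iff_ne_top.mpr hCtop)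
  obtain ⟨t, htN, htC⟩ := SetLike.exists_of_lt hlt
  -- write t = r * (power of x)
  have ht : (t : G) ∈ ((R ⊔ Subgroup.zpowers x : Subgroup G) : Set G) := by
    have := t.2
    rw [sup_comm R]
    exact this
  rw [Subgroup.coe_mul_of_right_le_normalizer_left R (Subgroup.zpowers x) hle] at ht
  obtain ⟨r, hr, z, hz, hrz⟩ := ht
  have hxT : x ∈ T := Subgroup.mem_sup_left (Subgroup.mem_zpowers x)
  have hzT : z ∈ T := (Subgroup.zpowers_le.mpr hxT) hz
  have hrT : r ∈ T := Subgroup.mem_sup_right hr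
  obtain ⟨i, rfl⟩ := hz
  have hzC : (⟨_, hzT⟩ : T) ∈ C := (memC _).mpr (hxy.zpow_left i)
  have hrt : (⟨r, hrT⟩ : T) = t * (⟨_, hzT⟩ : T)⁻¹ := by
    refine Subtype.ext ?_
    show r = (t : G) * (x ^ i)⁻¹
    rw [← hrz]; exact (mul_inv_cancel_right r (x ^ i)).symm
  have hrN : (⟨r, hrT⟩ : T) ∈ Subgroup.normalizer (C : Set T) := by
    rw [hrt]; exact Subgroup.mul_mem _ htN (Subgroup.inv_mem _ (Subgroup.le_normalizer hzC))
  have hrC : ¬ Commute r y := by
    intro h
    apply htC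
    rw [memC]
    show Commute (t : G) y
    rw [← hrz]; exact h.mul_left (hxy.zpow_left i)
  -- d = r⁻¹ (y r y⁻¹) centralizes C, in particular x
  set d := r⁻¹ * (y * r * y⁻¹) with hd
  have hxC : (⟨x, hxT⟩ : T) ∈ C := (memC _).mpr hxy
  have h1 : Commute (r * x * r⁻¹) y :=
    (memC _).mp ((Subgroup.mem_normalizer_iff.mp hrN _).mp hxC)
  have hdx : Commute d x := by
    have h2 : (y * r * y⁻¹) * x * (y * r * y⁻¹)⁻¹ = r * x * r⁻¹ := by
      calc (y * r * y⁻¹) * x * (y * r * y⁻¹)⁻¹ = y * r * (y⁻¹ * x * y) * r⁻¹ * y⁻¹ := by group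
        _ = y * (r * x * r⁻¹) * y⁻¹ := by
          rw [mul_assoc y⁻¹ x y, hxy.eq, inv_mul_cancel_left]; group
        _ = r * x * r⁻¹ := by rw [← h1.eq, mul_inv_cancel_right]
    show d * x = x * d
    calc d * x = r⁻¹ * ((y * r * y⁻¹) * x * (y * r * y⁻¹)⁻¹) * (y * r * y⁻¹) := by rw [hd]; group
      _ = x * d := by rw [h2, hd]; group
  have hdR : d ∈ R := R.mul_mem (R.inv_mem hr) ((Subgroup.mem_normalizer_iff.mp hyR r).mp hr)
  have hdy : Commute d y := hC d hdR hdx
  -- y^n r y^-n = r d^n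
  have hpow : ∀ n : ℕ, y ^ n * r * (y ^ n)⁻¹ = r * d ^ n := by
    intro n
    induction n with
    | zero => simp
    | succ n ih =>
      calc y ^ (n + 1) * r * (y ^ (n + 1))⁻¹ = y * (y ^ n * r * (y ^ n)⁻¹) * y⁻¹ := by rw [pow_succ']; group
        _ = (y * r * y⁻¹) * (y * d ^ n * y⁻¹) := by rw [ih]; group
        _ = r * d * d ^ n := by
          rw [← (hdy.pow_left n).eq, mul_inv_cancel_right, hd, mul_inv_cancel_left]
        _ = r * d ^ (n + 1) := by rw [pow_succ', mul_assoc]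
  have hd1 : d = 1 := by
    have h := hpow (orderOf y)
    rw [pow_orderOf_eq_one, one_mul, inv_one, mul_one] at h
    have h2 : orderOf d ∣ orderOf y := orderOf_dvd_of_pow_eq_one (mul_left_cancel (h.symm.trans (mul_one r).symm))
    obtain ⟨j, hj⟩ := IsPGroup.iff_orderOf.mp hR ⟨d, hdR⟩
    rw [← Subgroup.orderOf_coe (⟨d, hdR⟩ : R)] at hj
    by_contra hne
    rcases Nat.eq_zero_or_pos j with rfl | hjpos
    · exact hne (orderOf_eq_one_iff.mp (by simpa using hj))
    · exact hy ((hj ▸ dvd_pow_self p hjpos.ne').trans h2)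
  apply hrC
  have h : r = y * r * y⁻¹ := by rw [hd] at hd1; exact inv_mul_eq_one.mp hd1
  calc r * y = (y * r * y⁻¹) * y := by rw [← h]
    _ = y * r := inv_mul_cancel_right _ _

end Cfsg.Agent.ClassIndex
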