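import Cfsg.Agent.EqLemmas
import Cfsg.Agent.Lib.Frobenius.Complement

/-!
# Groups whose non-central elements have centralizers of one order (owner: helper75)

* `exists_prime_central`: some prime `p` has every `q`-element central for `q ≠ p`
* `exists_abelian_pow_mem`: such a `p`-group has an abelian normal subgroup containing all `p`-th powers
-/

namespace Cfsg.Agent.TwoSizes

variable {G : Type*} [Group G] [Finite G]

/-- All non-central elements have centralizers of the same order. -/
def EqCent (G : Type*) [Group G] : Prop :=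
  ∀ x y : G, x ∉ Subgroup.center G → y ∉ Subgroup.center G →
    Nat.card (Subgroup.centralizer ({x} : Set G)) = Nat.card (Subgroup.centralizer ({y} : Set G))

theorem mem_cent {g x : G} : g ∈ Subgroup.centralizer ({x} : Set G) ↔ g * x = x * g :=
  Subgroup.mem_centralizer_singleton_iff

theorem self_mem (x : G) : x ∈ Subgroup.centralizer ({x} : Set G) := mem_cent.2 rfl

theorem cent_eq_of_le (h : EqCent G) {x y : G} (hx : x ∉ Subgroup.center G) (hy : y ∉ Subgroup.center G)
    (hle : Subgroup.centralizer ({x} : Set G) ≤ Subgroup.centralizer ({y} : Set G)) :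
    Subgroup.centralizer ({x} : Set G) = Subgroup.centralizer ({y} : Set G) :=
  Subgroup.eq_of_le_of_card_ge hle (h y x hy hx).le

theorem center_le (x : G) : Subgroup.center G ≤ Subgroup.centralizer ({x} : Set G) := fun _ hz =>
  mem_cent.2 (Subgroup.mem_center_iff.1 hz x).symm

theorem cent_le_pow (x : G) (k : ℕ) :
    Subgroup.centralizer ({x} : Set G) ≤ Subgroup.centralizer ({x ^ k} : Set G) := fun _ hg =>
  mem_cent.2 ((show Commute _ x from mem_cent.1 hg).pow_right k).eq

/-- The two coprime parts of a product have larger centralizers. -/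
theorem cent_mul_le {x y : G} (hc : Commute x y) (hco : (orderOf x).Coprime (orderOf y)) :
    Subgroup.centralizer ({x * y} : Set G) ≤ Subgroup.centralizer ({x} : Set G) := by
  obtain ⟨m, hm⟩ := exists_pow_eq_self_of_coprime hco.symm
  intro g hg
  have : x = (x * y) ^ (orderOf y * m) := by
    rw [hc.mul_pow, pow_mul, pow_mul, pow_orderOf_eq_one, one_pow, mul_one, hm]
  rw [this]
  exact cent_le_pow _ _ hg

theorem coprime_of_pow {x y : G} {p q a b : ℕ} (hp : p.Prime) (hq : q.Prime) (hpq : p ≠ q)
    (hx : orderOf x = p ^ a) (hy : orderOf y = q ^ b) : (orderOf x).Coprime (orderOf y) := by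
  rw [hx, hy]; exact Nat.Coprime.pow a b ((Nat.coprime_primes hp hq).2 hpq)

/-- Commuting non-central elements of coprime prime power orders have the same centralizer. -/
theorem cent_eq_of_coprime (h : EqCent G) {x y : G} (hx : x ∉ Subgroup.center G)
    (hy : y ∉ Subgroup.center G) (hc : Commute x y) (hco : (orderOf x).Coprime (orderOf y)) :
    Subgroup.centralizer ({x} : Set G) = Subgroup.centralizer ({y} : Set G) := by
  have hxy : x * y ∉ Subgroup.center G := by
    intro hz
    apply hx
    have h1 := cent_mul_le hc hco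
    rw [Subgroup.mem_center_iff]
    intro g
    exact mem_cent.1 (h1 (mem_cent.2 (Subgroup.mem_center_iff.1 hz g)))
  have h1 := cent_eq_of_le h hxy hx (cent_mul_le hc hco)
  have h2 : Subgroup.centralizer ({x * y} : Set G) ≤ Subgroup.centralizer ({y} : Set G) := by
    rw [hc.eq]; exact cent_mul_le hc.symm hco.symm
  exact h1.symm.trans (cent_eq_of_le h hxy hy h2)

/-- `Sylow` subgroups generate: a subgroup containing all elements of prime power order is everything. -/
theorem eq_top_of_forall_prime_pow (C : Subgroup G)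
    (h : ∀ (q k : ℕ) (x : G), q.Prime → orderOf x = q ^ k → x ∈ C) : C = ⊤ := by
  refine Subgroup.eq_top_of_card_eq _ (Nat.dvd_antisymm C.card_subgroup_dvd_card ?_)
  rw [← Nat.factorization_prime_le_iff_dvd Nat.card_pos.ne' Nat.card_pos.ne']
  intro q hq
  haveI := Fact.mk hq
  obtain ⟨S⟩ : Nonempty (Sylow q G) := inferInstance
  rw [← hq.pow_dvd_iff_le_factorization Nat.card_pos.ne', ← S.card_eq_multiplicity]
  refine Subgroup.card_dvd_of_le fun x hx => ?_
  obtain ⟨k, hk⟩ := IsPGroup.iff_orderOf.1 S.2 ⟨x, hx⟩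
  exact h q k x hq (by rwa [← Subgroup.orderOf_coe] at hk)

theorem exists_noncentral_prime_pow {x : G} (hx : x ∉ Subgroup.center G) :
    ∃ (q k : ℕ) (y : G), q.Prime ∧ orderOf y = q ^ k ∧ y ∉ Subgroup.center G := by
  by_contra hc
  push Not at hc
  have := eq_top_of_forall_prime_pow (Subgroup.center G) fun q k y hq hy => hc q k y hq hy
  rw [this] at hx
  exact hx trivial

/-- The centralizer of a prime-power element containing a non-central element of another prime is abelian. -/
theorem comm_of_mixed (h : EqCent G) {x y : G} {p q a b : ℕ} (hp : p.Prime) (hq : q.Prime)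
    (hpq : p ≠ q) (hx : orderOf x = p ^ a) (hy : orderOf y = q ^ b) (hxZ : x ∉ Subgroup.center G)
    (hyZ : y ∉ Subgroup.center G) (hc : Commute x y) :
    ∀ u ∈ Subgroup.centralizer ({x} : Set G), ∀ v ∈ Subgroup.centralizer ({x} : Set G), u * v = v * u := by
  set C := Subgroup.centralizer ({x} : Set G) with hC
  have hxy : C = Subgroup.centralizer ({y} : Set G) :=
    cent_eq_of_coprime h hxZ hyZ hc (coprime_of_pow hp hq hpq hx hy)
  have key : ∀ (r k : ℕ) (u : G), r.Prime → u ∈ C → orderOf u = r ^ k →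
      C ≤ Subgroup.centralizer ({u} : Set G) := by
    intro r k u hr huC hu
    by_cases huZ : u ∈ Subgroup.center G
    · exact fun g _ => mem_cent.2 (Subgroup.mem_center_iff.1 huZ g)
    by_cases hrp : r = p
    · have huy : u ∈ Subgroup.centralizer ({y} : Set G) := hxy ▸ huC
      have := cent_eq_of_coprime h hyZ huZ (show Commute y u from (mem_cent.1 huy).symm)
        (coprime_of_pow hq hr (hrp ▸ hpq.symm) hy hu)
      rw [hxy, this]
    · exact (cent_eq_of_coprime h hxZ huZ (mem_cent.1 huC).symm
        (coprime_of_pow hp hr (Ne.symm hrp) hx hu)).le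
  intro u hu v hv
  have hall : Subgroup.centralizer ({(⟨v, hv⟩ : C)} : Set C) = ⊤ :=
    eq_top_of_forall_prime_pow _ fun r k w hr hw => by
      rw [mem_cent]
      refine Subtype.ext ?_
      have := mem_cent.1 (key r k (w : G) hr w.2 (by rw [Subgroup.orderOf_coe, hw]) hv)
      exact this.symm
  exact congrArg Subtype.val (show (⟨u, hu⟩ : C) * ⟨v, hv⟩ = ⟨v, hv⟩ * ⟨u, hu⟩ from
    mem_cent.1 (by rw [hall]; trivial))

section Abelian

variable (h : EqCent G)
  (hab : ∀ x : G, x ∉ Subgroup.center G → ∀ u ∈ Subgroup.centralizer ({x} : Set G),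
    ∀ v ∈ Subgroup.centralizer ({x} : Set G), u * v = v * u)

include h hab in
theorem cent_eq_of_mem {x y : G} (hx : x ∉ Subgroup.center G) (hy : y ∉ Subgroup.center G)
    (hyx : y ∈ Subgroup.centralizer ({x} : Set G)) :
    Subgroup.centralizer ({x} : Set G) = Subgroup.centralizer ({y} : Set G) :=
  cent_eq_of_le h hx hy fun g hg => mem_cent.2 (hab x hx g hg y hyx)

include h hab in
/-- Non-central elements commuting modulo the centre, in different centralizers, have equal orders there. -/
theorem orderOf_eq_of_commute_mod {x y : G} (hx : x ∉ Subgroup.center G) (hy : y ∉ Subgroup.center G)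
    (hc : Commute (x : G ⧸ Subgroup.center G) (y : G ⧸ Subgroup.center G))
    (hne : y ∉ Subgroup.centralizer ({x} : Set G)) :
    orderOf (x : G ⧸ Subgroup.center G) = orderOf (y : G ⧸ Subgroup.center G) := by
  have key : ∀ u v : G, v ∉ Subgroup.center G →
      Commute (u : G ⧸ Subgroup.center G) (v : G ⧸ Subgroup.center G) →
      u ∉ Subgroup.centralizer ({v} : Set G) →
      (v : G ⧸ Subgroup.center G) ^ orderOf (u : G ⧸ Subgroup.center G) = 1 := by
    intro u v hv huv hne'
    set o := orderOf (u : G ⧸ Subgroup.center G)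
    by_contra hvo
    have hvoZ : v ^ o ∉ Subgroup.center G := fun hz => hvo (by
      rw [← QuotientGroup.mk_pow]; exact (QuotientGroup.eq_one_iff _).2 hz)
    have e : (((u * v) ^ o : G) : G ⧸ Subgroup.center G) = ((v ^ o : G) : G ⧸ Subgroup.center G) := by
      rw [QuotientGroup.mk_pow, QuotientGroup.mk_mul, huv.mul_pow, pow_orderOf_eq_one, one_mul,
        QuotientGroup.mk_pow]
    have hz := QuotientGroup.eq.1 e
    have h1 : u * v ∈ Subgroup.centralizer ({v ^ o} : Set G) := by
      rw [mem_cent]
      have e2 : v ^ o = (u * v) ^ o * (((u * v) ^ o)⁻¹ * v ^ o) := by group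
      rw [e2]
      exact ((Commute.self_pow (u * v) o).mul_right (Subgroup.mem_center_iff.1 hz (u * v))).eq
    rw [← cent_eq_of_mem h hab hv hvoZ (Subgroup.pow_mem _ (self_mem v) o)] at h1
    apply hne'
    have := Subgroup.mul_mem _ h1 (Subgroup.inv_mem _ (self_mem v))
    rwa [mul_inv_cancel_right] at this
  refine Nat.dvd_antisymm (orderOf_dvd_of_pow_eq_one (key y x hx hc.symm hne))
    (orderOf_dvd_of_pow_eq_one (key x y hy hc fun hx' => hne (mem_cent.2 (mem_cent.1 hx').symm)))

end Abelian

open scoped IsMulCommutative in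
/-- The order of a centralizer is at most the class size, if all centralizers are abelian. -/
theorem quot_card_le (h : EqCent G)
    (hab : ∀ x : G, x ∉ Subgroup.center G → ∀ u ∈ Subgroup.centralizer ({x} : Set G),
      ∀ v ∈ Subgroup.centralizer ({x} : Set G), u * v = v * u)
    {x : G} (hx : x ∉ Subgroup.center G)
    (hnt : Subgroup.centralizer ({x} : Set G) ≠ ⊤) :
    Nat.card (Subgroup.centralizer ({x} : Set G)) ≤
      Nat.card (Subgroup.center G) * (Subgroup.centralizer ({x} : Set G)).index := by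
  classical
  have := Fintype.ofFinite G
  haveI := Fintype.ofFinite (Subgroup G)
  set a := Nat.card (Subgroup.centralizer ({x} : Set G)) with ha
  set z := Nat.card (Subgroup.center G) with hz
  let S : Finset G := Finset.univ.filter fun y => y ∉ Subgroup.center G
  have hfib : ∀ C ∈ S.image (fun y => Subgroup.centralizer ({y} : Set G)),
      (S.filter fun y => Subgroup.centralizer ({y} : Set G) = C).card + z = a := by
    intro C hC
    obtain ⟨w, hw, rfl⟩ := Finset.mem_image.1 hC
    have hw' : w ∉ Subgroup.center G := (Finset.mem_filter.1 hw).2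
    have e : (S.filter fun y => Subgroup.centralizer ({y} : Set G) = Subgroup.centralizer ({w} : Set G)) =
        (Finset.univ.filter fun y => y ∈ Subgroup.centralizer ({w} : Set G)) \
          (Finset.univ.filter fun y => y ∈ Subgroup.center G) := by
      ext y
      simp only [S, Finset.mem_filter, Finset.mem_univ, true_and, Finset.mem_sdiff]
      constructor
      · rintro ⟨hy, he⟩
        exact ⟨he ▸ self_mem y, hy⟩
      · rintro ⟨hy1, hy2⟩
        exact ⟨hy2, (cent_eq_of_mem h hab hw' hy2 hy1).symm⟩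
    have hsub : (Finset.univ.filter fun y => y ∈ Subgroup.center G) ⊆
        (Finset.univ.filter fun y => y ∈ Subgroup.centralizer ({w} : Set G)) := fun y hy => by
      simp only [Finset.mem_filter, Finset.mem_univ, true_and] at hy ⊢
      exact center_le w hy
    have c1 : (Finset.univ.filter fun y => y ∈ Subgroup.centralizer ({w} : Set G)).card = a := by
      rw [ha, h x w hx hw', Nat.card_eq_fintype_card, Fintype.card_subtype]
    have c2 : (Finset.univ.filter fun y => y ∈ Subgroup.center G).card = z := by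
      rw [hz, Nat.card_eq_fintype_card, Fintype.card_subtype]
    rw [e, ← c2, Finset.card_sdiff_add_card_eq_card hsub, c1]
  have hS : S.card = (S.image (fun y => Subgroup.centralizer ({y} : Set G))).card * (a - z) := by
    rw [Finset.card_eq_sum_card_image (fun y => Subgroup.centralizer ({y} : Set G)) S,
      Finset.sum_eq_card_nsmul fun C hC => (Nat.eq_sub_of_add_eq (hfib C hC)), smul_eq_mul]
  have htot : S.card + z = Nat.card G := by
    have c2 : (Finset.univ.filter fun y => y ∈ Subgroup.center G).card = z := by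
      rw [hz, Nat.card_eq_fintype_card, Fintype.card_subtype]
    rw [← c2, add_comm, Finset.card_filter_add_card_filter_not, Finset.card_univ,
      Nat.card_eq_fintype_card]
  obtain ⟨d, hd⟩ : z ∣ a := Subgroup.card_dvd_of_le (center_le x)
  set i := (Subgroup.centralizer ({x} : Set G)).index with hi
  have hG : a * i = Nat.card G := Subgroup.card_mul_index _
  set m := (S.image (fun y => Subgroup.centralizer ({y} : Set G))).card
  have hz0 : 0 < z := Nat.card_pos
  have hi2 : 2 ≤ i := by
    have h1 : i ≠ 1 := fun e => hnt (Subgroup.index_eq_one.1 e)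
    have h2 : i ≠ 0 := Subgroup.index_ne_zero_of_finite
    omega
  have hd0 : 0 < d := by
    have : 0 < a := Nat.card_pos
    rw [hd] at this
    exact Nat.pos_of_mul_pos_left this
  have hkey : m * (d - 1) + 1 = d * i := by
    refine Nat.eq_of_mul_eq_mul_left hz0 ?_
    rw [← mul_assoc, ← hd, hG, ← htot, hS, hd, ← Nat.mul_sub_one]
    ring
  by_contra hlt
  rw [not_le, hd] at hlt
  have hid : i < d := Nat.lt_of_mul_lt_mul_left hlt
  have h1 : (d - 1) ∣ (d * i - 1) := ⟨m, by rw [← hkey, Nat.add_sub_cancel, mul_comm]⟩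
  have h2 : (d - 1) ∣ (i - 1) := by
    have e : d * i - 1 = (d - 1) * i + (i - 1) := by
      rw [Nat.sub_one_mul]
      have : i ≤ d * i := Nat.le_mul_of_pos_left i hd0
      omega
    rw [e] at h1
    exact (Nat.dvd_add_right (dvd_mul_right _ _)).1 h1
  have := Nat.le_of_dvd (by omega) h2
  omega

open scoped IsMulCommutative in
/-- With abelian centralizers, the central quotient is a `p`-group. -/
theorem exists_prime_quotient (h : EqCent G)
    (hab : ∀ x : G, x ∉ Subgroup.center G → ∀ u ∈ Subgroup.centralizer ({x} : Set G),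
      ∀ v ∈ Subgroup.centralizer ({x} : Set G), u * v = v * u)
    {x₀ : G} (hx₀ : x₀ ∉ Subgroup.center G) :
    ∃ p : ℕ, p.Prime ∧ ∀ q : ℕ, q.Prime → q ≠ p → ¬ q ∣ Nat.card (G ⧸ Subgroup.center G) := by
  classical
  set Z := Subgroup.center G with hZ
  have hproper : ∀ x : G, x ∉ Z → Subgroup.centralizer ({x} : Set G) ≠ ⊤ := fun x hx e => hx (by
    rw [hZ, Subgroup.mem_center_iff]
    exact fun g => mem_cent.1 (e ▸ Subgroup.mem_top g))
  let A : G → Subgroup (G ⧸ Z) := fun x => (Subgroup.centralizer ({x} : Set G)).map (QuotientGroup.mk' Z)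
  have hAmem : ∀ x y : G, (y : G ⧸ Z) ∈ A x ↔ y ∈ Subgroup.centralizer ({x} : Set G) := by
    intro x y
    constructor
    · rintro ⟨w, hw, e⟩
      have := Subgroup.mul_mem _ hw (center_le x (QuotientGroup.eq.1 e))
      rwa [mul_inv_cancel_left] at this
    · exact fun hy => ⟨y, hy, rfl⟩
  have hAcard : ∀ x : G, Nat.card (A x) * Nat.card Z = Nat.card (Subgroup.centralizer ({x} : Set G)) := by
    intro x
    let f : Subgroup.centralizer ({x} : Set G) →* G ⧸ Z :=
      (QuotientGroup.mk' Z).comp (Subgroup.centralizer ({x} : Set G)).subtype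
    have h1 : f.range = A x := by
      rw [MonoidHom.range_comp, Subgroup.range_subtype]
    have h2 : f.ker = Z.subgroupOf (Subgroup.centralizer ({x} : Set G)) := by
      ext y; exact QuotientGroup.eq_one_iff _
    rw [← h1, ← Subgroup.index_ker, ← Nat.card_congr (Subgroup.subgroupOfEquivOfLe (center_le (G := G) x)).toEquiv,
      ← h2, mul_comm, Subgroup.card_mul_index]
  set d := Nat.card (A x₀) with hd
  have hdeq : ∀ x : G, x ∉ Z → Nat.card (A x) = d := fun x hx => by
    have h1 := hAcard x
    rw [h x x₀ hx hx₀, ← hAcard x₀] at h1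
    exact Nat.eq_of_mul_eq_mul_right Nat.card_pos h1
  set n := (Subgroup.centralizer ({x₀} : Set G)).index with hn
  have hQ : Nat.card (G ⧸ Z) = d * n := by
    refine Nat.eq_of_mul_eq_mul_right (Nat.card_pos (α := Z)) ?_
    rw [← Subgroup.card_eq_card_quotient_mul_card_subgroup, mul_assoc, mul_comm n, ← mul_assoc, hd,
      hAcard x₀, hn, Subgroup.card_mul_index]
  have hdn : d ≤ n := by
    have h1 := quot_card_le h hab hx₀ (hproper _ hx₀)
    rw [← hAcard x₀, mul_comm (Nat.card Z)] at h1
    exact Nat.le_of_mul_le_mul_right h1 Nat.card_pos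
  have hn0 : n ≠ 0 := Subgroup.index_ne_zero_of_finite
  by_contra hcon
  push Not at hcon
  -- every prime of the quotient divides `d`
  have hdiv : ∀ r : ℕ, r.Prime → r ∣ Nat.card (G ⧸ Z) → r ∣ d := by
    intro r hr hrQ
    haveI := Fact.mk hr
    obtain ⟨t, ht⟩ := exists_prime_orderOf_dvd_card' (G := G ⧸ Z) r hrQ
    obtain ⟨y, rfl⟩ := QuotientGroup.mk_surjective t
    have hy : y ∉ Z := fun hy => hr.ne_one (by rw [← ht, (QuotientGroup.eq_one_iff y).2 hy, orderOf_one])
    rw [← hdeq y hy, ← ht]
    exact Subgroup.orderOf_dvd_natCard _ ((hAmem y y).2 (self_mem y))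
  -- local analysis at a prime dividing `n`
  have hloc : ∀ p : ℕ, p.Prime → p ∣ n → n.factorization p ≤ 1 ∧
      ∀ r : ℕ, r.Prime → r ≠ p → r ∣ Nat.card (G ⧸ Z) → r ^ d.factorization r ≡ 1 [MOD p] := by
    intro p hp hpn
    haveI := Fact.mk hp
    obtain ⟨P⟩ : Nonempty (Sylow p (G ⧸ Z)) := inferInstance
    have hpQ : p ∣ Nat.card (G ⧸ Z) := hQ ▸ hpn.mul_left d
    haveI hPnt : Nontrivial (P : Subgroup (G ⧸ Z)) := by
      rw [← Finite.one_lt_card_iff_nontrivial, P.card_eq_multiplicity]
      exact Nat.one_lt_pow (hp.factorization_pos_of_dvd Nat.card_pos.ne' hpQ).ne' hp.one_lt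
    have := P.2.center_nontrivial
    obtain ⟨i, hi⟩ := IsPGroup.iff_card.1 (P.2.to_subgroup (Subgroup.center (P : Subgroup (G ⧸ Z))))
    have hi1 : i ≠ 0 := fun e => by
      have : 1 < Nat.card (Subgroup.center (P : Subgroup (G ⧸ Z))) := Finite.one_lt_card
      rw [hi, e, pow_zero] at this
      omega
    obtain ⟨w, hw⟩ := exists_prime_orderOf_dvd_card' (G := Subgroup.center (P : Subgroup (G ⧸ Z))) p
      (hi ▸ dvd_pow_self p hi1)
    obtain ⟨x, hx⟩ := QuotientGroup.mk_surjective ((w : (P : Subgroup (G ⧸ Z))) : G ⧸ Z)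
    have hxo : orderOf (x : G ⧸ Z) = p := by rw [hx, Subgroup.orderOf_coe, Subgroup.orderOf_coe, hw]
    have hxZ : x ∉ Z := fun hxZ => hp.ne_one (by
      rw [← hxo, (QuotientGroup.eq_one_iff x).2 hxZ, orderOf_one])
    have hPc : ∀ g ∈ (P : Subgroup (G ⧸ Z)), Commute g (x : G ⧸ Z) := by
      intro g hg
      rw [hx]
      exact congrArg Subtype.val (Subgroup.mem_center_iff.1 w.2 ⟨g, hg⟩)
    -- elements of the centralizer outside `A x` have order `p`
    have hout : ∀ g : G ⧸ Z, Commute g (x : G ⧸ Z) → g ∉ A x → orderOf g = p := by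
      intro g hg hgA
      obtain ⟨y, rfl⟩ := QuotientGroup.mk_surjective g
      rw [hAmem] at hgA
      rw [← hxo]
      exact (orderOf_eq_of_commute_mod h hab hxZ (fun hy => hgA (center_le x hy)) hg.symm hgA).symm
    haveI hAc : IsMulCommutative (A x) := ⟨⟨fun u v => by
      obtain ⟨a, ha, hau⟩ := u.2
      obtain ⟨b, hb, hbv⟩ := v.2
      apply Subtype.ext
      show (u : G ⧸ Z) * v = v * u
      rw [← hau, ← hbv, ← map_mul, ← map_mul, hab x hxZ a ha b hb]⟩⟩
    have hxA : (x : G ⧸ Z) ∈ A x := (hAmem x x).2 (self_mem x)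
    obtain ⟨r₀, hr₀, hr₀p, hr₀Q⟩ : ∃ r, r.Prime ∧ r ≠ p ∧ r ∣ Nat.card (G ⧸ Z) := by
      obtain ⟨r, hr, hrp, hrQ⟩ := hcon p hp
      exact ⟨r, hr, hrp, hrQ⟩
    -- the elements of `P` normalize `A x`
    have hnormA : ∀ g : G ⧸ Z, Commute g (x : G ⧸ Z) →
        g ∈ Subgroup.normalizer (A x : Set (G ⧸ Z)) := by
      intro g hg
      haveI := Fact.mk hr₀
      obtain ⟨t, ht⟩ := exists_prime_orderOf_dvd_card' (G := A x) r₀ (by
        rw [hdeq x hxZ]; exact hdiv r₀ hr₀ hr₀Q)
      have hto : orderOf (t : G ⧸ Z) = r₀ := by rw [Subgroup.orderOf_coe, ht]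
      have htx : Commute (t : G ⧸ Z) (x : G ⧸ Z) :=
        congrArg Subtype.val (IsMulCommutative.is_comm.comm t (⟨_, hxA⟩ : A x))
      have hconj : g * (t : G ⧸ Z) * g⁻¹ ∈ A x := by
        by_contra hn
        have hc : Commute (g * (t : G ⧸ Z) * g⁻¹) (x : G ⧸ Z) :=
          (hg.mul_left htx).mul_left hg.inv_left
        have h1 := hout _ hc hn
        rw [show orderOf (g * (t : G ⧸ Z) * g⁻¹) = r₀ by
          rw [← hto]; simpa using MulEquiv.orderOf_eq (MulAut.conj g) (t : G ⧸ Z)] at h1
        exact hr₀p h1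
      obtain ⟨g', rfl⟩ := QuotientGroup.mk_surjective g
      obtain ⟨t', ht'⟩ := QuotientGroup.mk_surjective (t : G ⧸ Z)
      have ht'Z : t' ∉ Z := fun e => hr₀.ne_one (by
        rw [← hto, ← ht', (QuotientGroup.eq_one_iff t').2 e, orderOf_one])
      have hu'Z : g' * t' * g'⁻¹ ∉ Z := fun e => ht'Z (by
        have := (Subgroup.instNormalCenter (G := G)).conj_mem _ e g'⁻¹
        simpa [mul_assoc] using! this)
      have e1 : Subgroup.centralizer ({x} : Set G) = Subgroup.centralizer ({t'} : Set G) :=
        cent_eq_of_mem h hab hxZ ht'Z ((hAmem x t').1 (ht'.symm ▸ t.2))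
      have e2 : Subgroup.centralizer ({x} : Set G) = Subgroup.centralizer ({g' * t' * g'⁻¹} : Set G) :=
        cent_eq_of_mem h hab hxZ hu'Z ((hAmem x _).1 (by
          rw [QuotientGroup.mk_mul, QuotientGroup.mk_mul, QuotientGroup.mk_inv, ht']
          exact hconj))
      refine Subgroup.mem_normalizer_fintype fun a ha => ?_
      obtain ⟨a', ha', rfl⟩ := ha
      refine (hAmem x (g' * a' * g'⁻¹)).2 ?_
      rw [e2, mem_cent]
      have h3 := mem_cent.1 (e1 ▸ ha')
      calc g' * a' * g'⁻¹ * (g' * t' * g'⁻¹) = g' * (a' * t') * g'⁻¹ := by group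
        _ = g' * (t' * a') * g'⁻¹ := by rw [h3]
        _ = _ := by group
    have hPA : (P : Subgroup (G ⧸ Z)) ≤ Subgroup.normalizer (A x : Set (G ⧸ Z)) :=
      fun g hg => hnormA g (hPc g hg)
    -- an element outside `A x` fixes no element of `A x` of prime-to-`p` order
    have hfree : ∀ g ∈ (P : Subgroup (G ⧸ Z)), g ∉ A x → ∀ v ∈ A x, v ≠ 1 → Commute g v →
        orderOf v = p := by
      intro g hg hgA v hv hv1 hgv
      obtain ⟨g', rfl⟩ := QuotientGroup.mk_surjective g
      obtain ⟨v', rfl⟩ := QuotientGroup.mk_surjective v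
      rw [hAmem] at hgA hv
      have hv'Z : v' ∉ Z := fun e => hv1 ((QuotientGroup.eq_one_iff v').2 e)
      have e := cent_eq_of_mem h hab hxZ hv'Z hv
      have := orderOf_eq_of_commute_mod h hab hv'Z (fun e => hgA (center_le x e)) hgv.symm (e ▸ hgA)
      rw [this]
      exact hout _ (hPc _ hg) (fun hh => hgA ((hAmem x g').1 hh))
    let φ : (P : Subgroup (G ⧸ Z)) →* MulAut (A x) :=
      (A x).normalizerMonoidHom.comp (Subgroup.inclusion hPA)
    constructor
    · -- `|P : P ∩ A x| ≤ p`
      let K : Subgroup (P : Subgroup (G ⧸ Z)) := (A x).subgroupOf P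
      haveI : K.Normal := Subgroup.normal_subgroupOf_of_le_normalizer hPA
      haveI := Fact.mk hr₀
      obtain ⟨R⟩ : Nonempty (Sylow r₀ (A x)) := inferInstance
      haveI hRn : (R : Subgroup (A x)).Normal := inferInstance
      haveI := Sylow.characteristic_of_normal R hRn
      have hRnt : Nontrivial (R : Subgroup (A x)) := by
        rw [← Finite.one_lt_card_iff_nontrivial, R.card_eq_multiplicity, hdeq x hxZ]
        exact Nat.one_lt_pow (hr₀.factorization_pos_of_dvd (Nat.card_pos (α := A x₀)).ne'
          (hdiv r₀ hr₀ hr₀Q)).ne' hr₀.one_lt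
      let res : MulAut (A x) →* MulAut (R : Subgroup (A x)) :=
        { toFun := fun e => (e.subgroupMap (R : Subgroup (A x))).trans
            (MulEquiv.subgroupCongr (Subgroup.characteristic_iff_map_eq.1 inferInstance e))
          map_one' := by ext v; rfl
          map_mul' := fun e e' => by ext v; rfl }
      have hker : ∀ g ∈ K, (res.comp φ) g = 1 := by
        intro g hg
        ext v
        show (g : G ⧸ Z) * ((v : A x) : G ⧸ Z) * (g : G ⧸ Z)⁻¹ = ((v : A x) : G ⧸ Z)
        rw [show (g : G ⧸ Z) * ((v : A x) : G ⧸ Z) = ((v : A x) : G ⧸ Z) * (g : G ⧸ Z) from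
          congrArg Subtype.val (IsMulCommutative.is_comm.comm (⟨_, hg⟩ : A x) (v : A x)),
          mul_inv_cancel_right]
      let ψ : (P : Subgroup (G ⧸ Z)) ⧸ K →* MulAut (R : Subgroup (A x)) :=
        QuotientGroup.lift K (res.comp φ) hker
      have hBp : IsPGroup p ((P : Subgroup (G ⧸ Z)) ⧸ K) := P.2.to_quotient K
      have hexp : ∀ b : (P : Subgroup (G ⧸ Z)) ⧸ K, b ≠ 1 → orderOf b = p := by
        intro b hb
        obtain ⟨g, rfl⟩ := QuotientGroup.mk_surjective b
        have hgA : (g : G ⧸ Z) ∉ A x := fun e => hb ((QuotientGroup.eq_one_iff g).2 e)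
        have := hout _ (hPc _ g.2) hgA
        refine orderOf_eq_prime ?_ hb
        rw [← QuotientGroup.mk_pow, show g ^ p = 1 by
          rw [← orderOf_dvd_iff_pow_eq_one, ← Subgroup.orderOf_coe, this]]
        rfl
      have hSC : Frobenius.SmallCyclic ((P : Subgroup (G ⧸ Z)) ⧸ K) := by
        intro s t hs ht B hB
        refine Frobenius.isCyclic_of_card_mul_primes (V := (R : Subgroup (A x))) (ψ.comp B.subtype)
          (fun b hb v hv => ?_) ?_ hs ht hB
        · by_contra hv1
          obtain ⟨g, hg⟩ := QuotientGroup.mk_surjective (b : (P : Subgroup (G ⧸ Z)) ⧸ K)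
          have hgA : (g : G ⧸ Z) ∉ A x := fun e => hb (Subtype.ext (by
            rw [← hg]; exact (QuotientGroup.eq_one_iff g).2 e))
          have e : (g : G ⧸ Z) * ((v : A x) : G ⧸ Z) * (g : G ⧸ Z)⁻¹ = ((v : A x) : G ⧸ Z) := by
            have h0 : ψ (g : (P : Subgroup (G ⧸ Z)) ⧸ K) v = v := by rw [hg]; exact hv
            exact congrArg Subtype.val (congrArg Subtype.val h0)
          have h1 := hfree _ g.2 hgA _ (v : A x).2
            (fun e' => hv1 (Subtype.ext (Subtype.ext e'))) (mul_inv_eq_iff_eq_mul.1 e)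
          obtain ⟨j, hj⟩ := IsPGroup.iff_orderOf.1 R.2 v
          rw [Subgroup.orderOf_coe, Subgroup.orderOf_coe, hj] at h1
          exact hr₀p ((Nat.prime_dvd_prime_iff_eq hp hr₀).1 (hp.dvd_of_dvd_pow h1.symm.dvd)).symm
        · obtain ⟨a, ha⟩ := IsPGroup.iff_card.1 (hBp.to_subgroup B)
          rw [ha, R.card_eq_multiplicity]
          exact Nat.Coprime.pow _ _ ((Nat.coprime_primes hp hr₀).2 hr₀p.symm)
      have hle : Nat.card ((P : Subgroup (G ⧸ Z)) ⧸ K) ≤ p := by
        by_cases hall : ∀ b : (P : Subgroup (G ⧸ Z)) ⧸ K, b = 1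
        · have : Subsingleton ((P : Subgroup (G ⧸ Z)) ⧸ K) := ⟨fun a b => by rw [hall a, hall b]⟩
          rw [Nat.card_unique]
          exact hp.one_lt.le
        push Not at hall
        obtain ⟨y, hy⟩ := hall
        have htop : Subgroup.zpowers y = ⊤ := by
          rw [Subgroup.eq_top_iff']
          intro b
          by_cases hb : b = 1
          · rw [hb]; exact one_mem _
          · exact hSC.mem_zpowers_of_orderOf_eq (P := ⊤) (hBp.of_equiv Subgroup.topEquiv.symm)
              trivial trivial (hexp b hb) (hexp y hy)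
        rw [← Subgroup.card_top (G := (P : Subgroup (G ⧸ Z)) ⧸ K), ← htop, Nat.card_zpowers, hexp y hy]
      have hle2 : Nat.card (P : Subgroup (G ⧸ Z)) ∣ p ^ d.factorization p * Nat.card ((P : Subgroup (G ⧸ Z)) ⧸ K) := by
        rw [Subgroup.card_eq_card_quotient_mul_card_subgroup K, mul_comm]
        refine mul_dvd_mul_right ?_ _
        obtain ⟨k, hk⟩ := IsPGroup.iff_card.1 (P.2.to_subgroup K)
        rw [hk]
        refine pow_dvd_pow p ((hp.pow_dvd_iff_le_factorization (Nat.card_pos (α := A x₀)).ne').1 ?_)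
        rw [← hk, ← hd, ← hdeq x hxZ, ← Subgroup.card_map_of_injective (P : Subgroup (G ⧸ Z)).subtype_injective,
          Subgroup.subgroupOf_map_subtype]
        exact Subgroup.card_dvd_of_le inf_le_left
      rw [P.card_eq_multiplicity, hQ, Nat.factorization_mul (Nat.card_pos (α := A x₀)).ne' hn0,
        Finsupp.add_apply, pow_add] at hle2
      have h3 := Nat.le_of_dvd Nat.card_pos (Nat.dvd_of_mul_dvd_mul_left (pow_pos hp.pos _) hle2)
      by_contra hgt
      have h4 := Nat.pow_le_pow_right hp.pos (show 2 ≤ n.factorization p by omega)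
      have h5 : p < p ^ 2 := by rw [pow_two]; exact lt_mul_of_one_lt_left hp.pos hp.one_lt
      omega
    · -- congruences
      intro r hr hrp hrQ
      haveI := Fact.mk hr
      obtain ⟨g, hg, hgA⟩ : ∃ g ∈ (P : Subgroup (G ⧸ Z)), g ∉ A x := by
        by_contra hall
        push Not at hall
        have h1 := Subgroup.card_dvd_of_le (show (P : Subgroup (G ⧸ Z)) ≤ A x from hall)
        rw [hdeq x hxZ, P.card_eq_multiplicity, hQ,
          Nat.factorization_mul (Nat.card_pos (α := A x₀)).ne' hn0, Finsupp.add_apply,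
          hp.pow_dvd_iff_le_factorization (Nat.card_pos (α := A x₀)).ne'] at h1
        have := hp.factorization_pos_of_dvd hn0 hpn
        omega
      obtain ⟨R⟩ : Nonempty (Sylow r (A x)) := inferInstance
      haveI hRn : (R : Subgroup (A x)).Normal := inferInstance
      haveI := Sylow.characteristic_of_normal R hRn
      let res : MulAut (A x) →* MulAut (R : Subgroup (A x)) :=
        { toFun := fun e => (e.subgroupMap (R : Subgroup (A x))).trans
            (MulEquiv.subgroupCongr (Subgroup.characteristic_iff_map_eq.1 inferInstance e))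
          map_one' := by ext v; rfl
          map_mul' := fun e e' => by ext v; rfl }
      let Zg : Subgroup (P : Subgroup (G ⧸ Z)) := Subgroup.zpowers ⟨g, hg⟩
      letI := MulAction.compHom (R : Subgroup (A x)) ((res.comp φ).comp Zg.subtype)
      have hgp : IsPGroup p Zg := P.2.to_subgroup Zg
      have hmod := hgp.card_modEq_card_fixedPoints (R : Subgroup (A x))
      haveI : Unique (MulAction.fixedPoints Zg (R : Subgroup (A x))) :=
        { default := ⟨1, fun a => map_one ((res.comp φ) (a : (P : Subgroup (G ⧸ Z))))⟩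
          uniq := fun ⟨v, hv⟩ => Subtype.ext (by
            by_contra hv1
            have e : g * ((v : A x) : G ⧸ Z) * g⁻¹ = ((v : A x) : G ⧸ Z) :=
              congrArg Subtype.val (congrArg Subtype.val (hv ⟨⟨g, hg⟩, Subgroup.mem_zpowers _⟩))
            have h1 := hfree _ hg hgA _ (v : A x).2
              (fun e' => hv1 (Subtype.ext (Subtype.ext e'))) (mul_inv_eq_iff_eq_mul.1 e)
            obtain ⟨j, hj⟩ := IsPGroup.iff_orderOf.1 R.2 v
            rw [Subgroup.orderOf_coe, Subgroup.orderOf_coe, hj] at h1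
            exact hrp ((Nat.prime_dvd_prime_iff_eq hp hr).1 (hp.dvd_of_dvd_pow h1.symm.dvd)).symm) }
      rw [R.card_eq_multiplicity, hdeq x hxZ, Nat.card_unique] at hmod
      exact hmod
  -- arithmetic
  have hd0 : d ≠ 0 := (Nat.card_pos (α := A x₀)).ne'
  have hnd : n ∣ d := by
    rw [← Nat.factorization_prime_le_iff_dvd hn0 hd0]
    intro p hp
    by_cases hpn : p ∣ n
    · exact ((hloc p hp hpn).1).trans
        (hp.factorization_pos_of_dvd hd0 (hdiv p hp (hQ ▸ hpn.mul_left d)))
    · rw [Nat.factorization_eq_zero_of_not_dvd hpn]; exact Nat.zero_le _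
  have hde : d = n := le_antisymm hdn (Nat.le_of_dvd (Nat.pos_of_ne_zero hd0) hnd)
  have hn1 : n ≠ 1 := fun e => hproper x₀ hx₀ (Subgroup.index_eq_one.1 e)
  set r := n.minFac with hr
  have hrp : r.Prime := Nat.minFac_prime hn1
  have hrn : r ∣ n := Nat.minFac_dvd n
  obtain ⟨p, hp, hpr, hpQ⟩ := hcon r hrp
  have hpn : p ∣ n := by
    rcases (Nat.Prime.dvd_mul hp).1 (hQ ▸ hpQ) with h1 | h1
    · exact hde ▸ h1
    · exact h1
  have h1 := (hloc p hp hpn).2 r hrp (Ne.symm hpr) (hQ ▸ hrn.mul_left d)
  rw [hde] at h1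
  have h2 : n.factorization r = 1 :=
    le_antisymm (hloc r hrp hrn).1 (hrp.factorization_pos_of_dvd hn0 hrn)
  rw [h2, pow_one] at h1
  have h3 : r ≤ p := Nat.minFac_le_of_dvd hp.two_le hpn
  rw [Nat.ModEq, Nat.mod_eq_of_lt (lt_of_le_of_ne h3 (Ne.symm hpr)), Nat.mod_eq_of_lt hp.one_lt] at h1
  exact hrp.ne_one h1

/-- Some prime `p` has all elements of other prime power orders central. -/
theorem exists_prime_central (h : EqCent G) {x₀ : G} (hx₀ : x₀ ∉ Subgroup.center G) :
    ∃ p : ℕ, p.Prime ∧ ∀ (q k : ℕ) (y : G), q.Prime → q ≠ p → orderOf y = q ^ k → y ∈ Subgroup.center G := by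
  classical
  by_cases hab : ∀ x : G, x ∉ Subgroup.center G → ∀ u ∈ Subgroup.centralizer ({x} : Set G),
      ∀ v ∈ Subgroup.centralizer ({x} : Set G), u * v = v * u
  · obtain ⟨p, hp, hq⟩ := exists_prime_quotient h hab hx₀
    refine ⟨p, hp, fun q k y hqp hne hy => ?_⟩
    by_contra hyZ
    have h1 : orderOf (y : G ⧸ Subgroup.center G) ∣ q ^ k :=
      hy ▸ orderOf_map_dvd (QuotientGroup.mk' (Subgroup.center G)) y
    obtain ⟨j, -, hj⟩ := (Nat.dvd_prime_pow hqp).1 h1
    rcases Nat.eq_zero_or_pos j with rfl | hj1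
    · rw [pow_zero, orderOf_eq_one_iff] at hj
      exact hyZ ((QuotientGroup.eq_one_iff y).1 hj)
    · exact hq q hqp hne ((dvd_pow_self q hj1.ne').trans (hj ▸ orderOf_dvd_natCard _))
  push Not at hab
  obtain ⟨w, hwZ, hw⟩ := hab
  obtain ⟨p, a, x, hp, hx, hxZ, hxc⟩ : ∃ (p a : ℕ) (x : G), p.Prime ∧ orderOf x = p ^ a ∧
      x ∉ Subgroup.center G ∧ ∃ u ∈ Subgroup.centralizer ({x} : Set G),
        ∃ v ∈ Subgroup.centralizer ({x} : Set G), u * v ≠ v * u := by
    -- a prime power part of `w`
    by_contra hno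
    push Not at hno
    obtain ⟨q, hq, hqw⟩ : ∃ q : ℕ, q.Prime ∧
        w ^ (orderOf w / q ^ (orderOf w).factorization q) ∉ Subgroup.center G := by
      by_contra hall
      push Not at hall
      apply hwZ
      set C := Subgroup.comap (Subgroup.zpowers w).subtype (Subgroup.center G) with hC
      have : C = ⊤ := eq_top_of_forall_prime_pow _ fun q k y hq hy => by
        haveI := Fact.mk hq
        set e := (orderOf w).factorization q
        set W : Subgroup.zpowers w := ⟨w, Subgroup.mem_zpowers w⟩
        have hW : ∀ z : Subgroup.zpowers w, ∃ i : ℤ, W ^ i = z := fun z => by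
          obtain ⟨i, hi⟩ := Subgroup.mem_zpowers_iff.1 z.2
          exact ⟨i, Subtype.ext (by simpa [W] using hi)⟩
        have hcyc : IsCyclic (Subgroup.zpowers w) := inferInstance
        let Q : Subgroup (Subgroup.zpowers w) := Subgroup.zpowers (W ^ (orderOf w / q ^ e))
        have hQ : Nat.card Q = q ^ e := by
          have hWo : orderOf W = orderOf w := by rw [← Subgroup.orderOf_coe]
          rw [Nat.card_zpowers, orderOf_pow_of_dvd (Nat.div_pos (Nat.le_of_dvd (orderOf_pos w)
            (Nat.ordProj_dvd _ q)) (pow_pos hq.pos _)).ne' (hWo ▸ Nat.div_dvd_of_dvd (Nat.ordProj_dvd _ q)),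
            hWo, Nat.div_div_self (Nat.ordProj_dvd _ q) (orderOf_pos w).ne']
        let S : Sylow q (Subgroup.zpowers w) := Sylow.ofCard Q (by rw [hQ, Nat.card_zpowers])
        obtain ⟨T, hT⟩ := (IsPGroup.of_card (n := k) (by rw [Nat.card_zpowers, hy]) :
          IsPGroup q (Subgroup.zpowers y)).exists_le_sylow
        haveI hSn : (S : Subgroup (Subgroup.zpowers w)).Normal := inferInstance
        haveI := Sylow.unique_of_normal S hSn
        have hTS : T = S := Subsingleton.elim _ _
        have hyQ : y ∈ Q := by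
          have h0 := hT (Subgroup.mem_zpowers y)
          rw [hTS] at h0
          exact h0
        obtain ⟨i, rfl⟩ := Subgroup.mem_zpowers_iff.1 hyQ
        refine C.zpow_mem ?_ i
        show (W ^ (orderOf w / q ^ e) : Subgroup.zpowers w).1 ∈ Subgroup.center G
        exact hall q hq
      exact (this ▸ Subgroup.mem_top (⟨w, Subgroup.mem_zpowers w⟩ : Subgroup.zpowers w) : _ ∈ C)
    obtain ⟨u, hu, v, hv, huv⟩ := hw
    set w' := w ^ (orderOf w / q ^ (orderOf w).factorization q) with hw'
    have e := cent_eq_of_le h hwZ hqw (cent_le_pow w _)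
    have hord : orderOf w' = q ^ (orderOf w).factorization q := by
      rw [hw', orderOf_pow_of_dvd (Nat.div_pos (Nat.le_of_dvd (orderOf_pos w)
        (Nat.ordProj_dvd _ q)) (pow_pos hq.pos _)).ne' (Nat.div_dvd_of_dvd (Nat.ordProj_dvd _ q)),
        Nat.div_div_self (Nat.ordProj_dvd _ q) (orderOf_pos w).ne']
    exact huv (hno q _ w' hq hord hqw u (e ▸ hu) v (e ▸ hv))
  obtain ⟨u, hu, v, hv, huv⟩ := hxc
  refine ⟨p, hp, fun q k y hq hqp hy => ?_⟩
  by_contra hyZ
  haveI := Fact.mk hq
  -- a Sylow `q`-subgroup of `C(x)` is central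
  set C := Subgroup.centralizer ({x} : Set G) with hC
  obtain ⟨S⟩ : Nonempty (Sylow q C) := inferInstance
  have hSZ : (S : Subgroup C).map C.subtype ≤ Subgroup.center G := by
    rintro _ ⟨s, hs, rfl⟩
    by_contra hsZ
    obtain ⟨j, hj⟩ := IsPGroup.iff_orderOf.1 S.2 ⟨s, hs⟩
    rw [← Subgroup.orderOf_coe, ← Subgroup.orderOf_coe] at hj
    exact huv (comm_of_mixed h hp hq (Ne.symm hqp) hx hj hxZ hsZ
      (mem_cent.1 s.2).symm u hu v hv)
  -- hence `C(y)` has the same `q`-part
  set D := Subgroup.centralizer ({y} : Set G) with hD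
  have hlt : Subgroup.zpowers y ⊔ (S : Subgroup C).map C.subtype ≤ D := sup_le
    (Subgroup.zpowers_le.2 (self_mem y)) (hSZ.trans (center_le y))
  have hq2 : IsPGroup q (Subgroup.zpowers y ⊔ (S : Subgroup C).map C.subtype : Subgroup G) := by
    refine IsPGroup.to_sup_of_normal_right'
      (IsPGroup.of_card (n := k) (by rw [Nat.card_zpowers, hy])) (S.2.map C.subtype) ?_
    refine fun g _ => Subgroup.mem_normalizer_fintype fun z hz => ?_
    rw [Subgroup.mem_center_iff.1 (hSZ hz) g, mul_inv_cancel_right]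
    exact hz
  obtain ⟨j, hj⟩ := IsPGroup.iff_card.1 hq2
  have h1 : q ^ j ∣ Nat.card C := by
    rw [← hj, show Nat.card C = Nat.card D from h x y hxZ hyZ]
    exact Subgroup.card_dvd_of_le hlt
  have h2 : Nat.card (Subgroup.zpowers y ⊔ (S : Subgroup C).map C.subtype : Subgroup G) ≤
      Nat.card ((S : Subgroup C).map C.subtype) := by
    rw [hj, Subgroup.card_map_of_injective C.subtype_injective, S.card_eq_multiplicity]
    exact Nat.pow_le_pow_right hq.pos ((hq.pow_dvd_iff_le_factorization Nat.card_pos.ne').1 h1)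
  have h3 := Subgroup.eq_of_le_of_card_ge le_sup_right h2
  have h4 : y ∈ (S : Subgroup C).map C.subtype := by
    rw [h3]; exact le_sup_left (a := Subgroup.zpowers y) (Subgroup.mem_zpowers y)
  exact hyZ (hSZ h4)

/-- The `p`-th powers of a `p`-group with one non-trivial class size lie in an abelian normal subgroup. -/
theorem exists_abelian_pow_mem {p : ℕ} [hp : Fact p.Prime] (h : EqCent G) (P : Subgroup G)
    (hP : IsPGroup p P) :
    ∃ A : Subgroup P, A.Normal ∧ IsMulCommutative A ∧ ∀ y : P, y ^ p ∈ A := by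
  let T : Set P := {y | (y : G) ^ p ∉ Subgroup.center G} ∪ {y | (y : G) ∈ Subgroup.center G}
  have hcomm : ∀ a ∈ T, ∀ b ∈ T, a * b = b * a := by
    rintro a (ha | ha) b (hb | hb)
    rotate_left
    · exact Subtype.ext (Subgroup.mem_center_iff.1 hb (a : G))
    · exact Subtype.ext (Subgroup.mem_center_iff.1 ha (b : G)).symm
    · exact Subtype.ext (Subgroup.mem_center_iff.1 hb (a : G))
    by_contra hne
    set Q : Subgroup P := Subgroup.closure {a, b} with hQ
    haveI : Group.IsNilpotent Q := (hP.to_subgroup Q).isNilpotent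
    have hQnc : Subgroup.center Q ≠ ⊤ := by
      intro e
      refine hne (congrArg Subtype.val (Subgroup.mem_center_iff.1 (e ▸ Subgroup.mem_top
        (⟨b, Subgroup.subset_closure (by simp)⟩ : Q)) ⟨a, Subgroup.subset_closure (by simp)⟩))
    haveI : Nontrivial (Q ⧸ Subgroup.center Q) := QuotientGroup.nontrivial_iff.2 hQnc
    have hQp : IsPGroup p (Q ⧸ Subgroup.center Q) := (hP.to_subgroup Q).to_quotient _
    have := hQp.center_nontrivial
    obtain ⟨i, hi⟩ := IsPGroup.iff_card.1 (hQp.to_subgroup (Subgroup.center (Q ⧸ Subgroup.center Q)))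
    have hi1 : i ≠ 0 := fun e => by
      have : 1 < Nat.card (Subgroup.center (Q ⧸ Subgroup.center Q)) := Finite.one_lt_card
      rw [hi, e, pow_zero] at this
      omega
    obtain ⟨w, hw⟩ := exists_prime_orderOf_dvd_card' (G := Subgroup.center (Q ⧸ Subgroup.center Q)) p
      (hi ▸ dvd_pow_self p hi1)
    obtain ⟨x, hx⟩ := QuotientGroup.mk_surjective (w : Q ⧸ Subgroup.center Q)
    have hxo : orderOf (x : Q ⧸ Subgroup.center Q) = p := by rw [hx, Subgroup.orderOf_coe, hw]
    have hxp : x ^ p ∈ Subgroup.center Q := by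
      rw [← QuotientGroup.eq_one_iff (N := Subgroup.center Q), QuotientGroup.mk_pow, ← hxo,
        pow_orderOf_eq_one]
    -- `x` commutes with both generators
    have key : ∀ g : Q, ((g : P) : G) ^ p ∉ Subgroup.center G → g * x = x * g := by
      intro g hg
      have hz : x * g * x⁻¹ * g⁻¹ ∈ Subgroup.center Q := by
        rw [← QuotientGroup.eq_one_iff (N := Subgroup.center Q)]
        simp only [QuotientGroup.mk_mul, QuotientGroup.mk_inv]
        rw [hx, ← Subgroup.mem_center_iff.1 w.2 (g : Q ⧸ Subgroup.center Q), mul_inv_cancel_right,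
          mul_inv_cancel]
      set z := x * g * x⁻¹ * g⁻¹ with hzdef
      have hzc : ∀ y : Q, Commute y z := fun y => Subgroup.mem_center_iff.1 hz y
      have e1 : x * g * x⁻¹ = g * z := by rw [(hzc g).eq, hzdef, inv_mul_cancel_right]
      have hpow : ∀ i : ℕ, x ^ i * g * (x ^ i)⁻¹ = g * z ^ i := by
        intro i
        induction i with
        | zero => simp
        | succ i ih =>
          rw [pow_succ' x, mul_inv_rev, show x * x ^ i * g * ((x ^ i)⁻¹ * x⁻¹) =
            x * (x ^ i * g * (x ^ i)⁻¹) * x⁻¹ by group, ih, show x * (g * z ^ i) * x⁻¹ =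
            x * g * (z ^ i * x⁻¹) by group, (((hzc x⁻¹).pow_right i).symm).eq, ← mul_assoc, e1,
            mul_assoc, ← pow_succ']
      have hzp : z ^ p = 1 := by
        have := hpow p
        rw [(Subgroup.mem_center_iff.1 hxp g).symm, mul_inv_cancel_right] at this
        exact mul_left_cancel (a := g) (by rw [← this, mul_one])
      have hgp : Commute (g ^ p) x := by
        have e2 : x * g ^ p * x⁻¹ = g ^ p := by
          rw [← conj_pow, e1, (hzc g).mul_pow, hzp, mul_one]
        exact (mul_inv_eq_iff_eq_mul.1 e2).symm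
      have hgZ : ((g : P) : G) ∉ Subgroup.center G := fun e => hg (Subgroup.pow_mem _ e p)
      have e3 := cent_eq_of_le h hgZ hg (cent_le_pow _ p)
      have hxG : ((x : P) : G) ∈ Subgroup.centralizer ({((g : P) : G)} : Set G) := by
        rw [e3, mem_cent]
        exact (congrArg (fun y : Q => ((y : P) : G)) hgp.eq).symm
      exact Subtype.ext (Subtype.ext (mem_cent.1 hxG).symm)
    have hxc : x ∈ Subgroup.center Q := by
      rw [Subgroup.mem_center_iff]
      intro g
      have hall : g ∈ Subgroup.centralizer ({x} : Set Q) := by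
        have hgen : Subgroup.closure ({(⟨a, Subgroup.subset_closure (by simp)⟩ : Q),
            ⟨b, Subgroup.subset_closure (by simp)⟩} : Set Q) = ⊤ := by
          apply Subgroup.map_injective Q.subtype_injective
          rw [MonoidHom.map_closure, Set.image_pair, ← MonoidHom.range_eq_map, Subgroup.range_subtype]
          exact hQ.symm
        have hle : Subgroup.closure ({(⟨a, Subgroup.subset_closure (by simp)⟩ : Q),
            ⟨b, Subgroup.subset_closure (by simp)⟩} : Set Q) ≤ Subgroup.centralizer ({x} : Set Q) := by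
          rw [Subgroup.closure_le]
          rintro _ (rfl | rfl)
          · exact Subgroup.mem_centralizer_singleton_iff.2 (key _ ha)
          · exact Subgroup.mem_centralizer_singleton_iff.2 (key _ hb)
        exact hle (hgen ▸ Subgroup.mem_top g)
      exact Subgroup.mem_centralizer_singleton_iff.1 hall
    have : (x : Q ⧸ Subgroup.center Q) = 1 := (QuotientGroup.eq_one_iff x).2 hxc
    rw [this, orderOf_one] at hxo
    exact hp.out.ne_one hxo.symm
  refine ⟨Subgroup.closure T, ⟨fun y hy g => ?_⟩, Subgroup.isMulCommutative_closure hcomm, fun y => ?_⟩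
  · have hTg : (Subgroup.closure T).map (MulAut.conj g).toMonoidHom ≤ Subgroup.closure T := by
      rw [MonoidHom.map_closure]
      refine Subgroup.closure_mono ?_
      rintro _ ⟨a, ha, rfl⟩
      rcases ha with ha | ha
      · refine Or.inl fun hz => ha ?_
        have hz' : ((g : G) * (a : G) * (g : G)⁻¹) ^ p ∈ Subgroup.center G := hz
        rw [conj_pow] at hz'
        have := (Subgroup.instNormalCenter (G := G)).conj_mem _ hz' (g : G)⁻¹
        simpa [mul_assoc] using this
      · exact Or.inr ((Subgroup.instNormalCenter (G := G)).conj_mem _ ha (g : G))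
    exact hTg ⟨y, hy, rfl⟩
  · by_cases hy : (y : G) ^ p ∈ Subgroup.center G
    · exact Subgroup.subset_closure (show y ^ p ∈ T from Or.inr hy)
    · exact Subgroup.pow_mem _ (Subgroup.subset_closure (show y ∈ T from Or.inl hy)) p

end Cfsg.Agent.TwoSizes
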