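import Cfsg.Agent.Lib.ClassIndex.FourSizesCross
import Cfsg.Agent.S4134

/-!
# Class sizes `{1, n, m, nm}`: primary elements have class size `n` or `m` (owner: helper75)

* `Four.prime_dvd_of_noncentral`, `Four.sz_of_dvd_n`: sizes of primary elements
* `Four.cent_structure`: the centralizer of a primary element of size `m`, if a primary `u` has size `nm`
* `Four.sz_ne_nm`: there is no such `u`
-/

set_option autoImplicit false
set_option linter.unusedSectionVars false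
set_option linter.style.haveILetI false

open Subgroup
open scoped Pointwise

namespace Cfsg.Agent.FourSizes

open Cfsg.Agent.ClassGraph (sz cls)

variable {G : Type*} [Group G] [Finite G] {n m : ℕ}

local notation "cent" x:max => Subgroup.centralizer ({x} : Set _)

theorem exists_conj_commuting_sylow {p : ℕ} [Fact p.Prime] (P : Sylow p G) {u w : G} (hu : Prim p u)
    (hc : Commute u w) (hw : ¬ p ∣ sz w) :
    ∃ c : G, c⁻¹ * u * c ∈ (P : Subgroup G) ∧ ∀ s ∈ (P : Subgroup G), Commute (c⁻¹ * w * c) s := by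
  obtain ⟨k, hk⟩ := hu.2
  set C : Subgroup G := cent w with hC
  have hU : IsPGroup p (zpowers (⟨u, mem_cent_iff_commute.2 hc⟩ : C)) :=
    IsPGroup.of_card (n := k) (by rw [Nat.card_zpowers, orderOf_mk, hk])
  obtain ⟨T, hT⟩ := hU.exists_le_sylow
  have hQ : ¬ p ∣ ((T : Subgroup C).map C.subtype).index := by
    rw [Subgroup.index_map_subtype]
    exact fun h => ((Fact.out : p.Prime).dvd_mul.1 h).elim T.not_dvd_index hw
  obtain ⟨x, hx⟩ := MulAction.exists_smul_eq G P ((T.2.map C.subtype).toSylow hQ)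
  have hiff : ∀ y, y ∈ (T : Subgroup C).map C.subtype ↔ x⁻¹ * y * x ∈ (P : Subgroup G) := by
    intro y
    show y ∈ (((T.2.map C.subtype).toSylow hQ : Sylow p G) : Subgroup G) ↔ _
    rw [← hx, Sylow.coe_subgroup_smul, Subgroup.mem_pointwise_smul_iff_inv_smul_mem, ← map_inv,
      MulAut.smul_def, MulAut.conj_apply, inv_inv]
  refine ⟨x, (hiff u).1 ⟨_, hT (mem_zpowers _), rfl⟩, fun s hs => ?_⟩
  obtain ⟨c, -, hc'⟩ := (hiff (x * s * x⁻¹)).2 (by
    rw [show x⁻¹ * (x * s * x⁻¹) * x = s by group]; exact hs)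
  have h1 : Commute (x * s * x⁻¹) w := hc' ▸ mem_cent_iff_commute.1 c.2
  show x⁻¹ * w * x * s = s * (x⁻¹ * w * x)
  calc x⁻¹ * w * x * s = x⁻¹ * (w * (x * s * x⁻¹)) * x := by group
    _ = x⁻¹ * (x * s * x⁻¹ * w) * x := by rw [h1.eq]
    _ = s * (x⁻¹ * w * x) := by group

/-- `p`-elements are central if the `p`-subgroups are abelian and `p'`-elements have class size prime to `p` -/
theorem mem_center_of_pgroups_comm {p : ℕ} [Fact p.Prime]
    (hR : ∀ R : Subgroup G, IsPGroup p R → ∀ x ∈ R, ∀ y ∈ R, Commute x y)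
    (hw : ∀ w : G, ¬ p ∣ orderOf w → ¬ p ∣ sz w) {y : G} (hy : Prim p y) : y ∈ center G := by
  by_contra hyZ
  obtain ⟨g, hav⟩ := exists_avoids hyZ
  obtain ⟨P⟩ : Nonempty (Sylow p G) := inferInstance
  obtain ⟨u, w, rfl, huw, -, -, hu, hwo, -⟩ := exists_part g hy.1
  obtain ⟨c, hcu, hcw⟩ := exists_conj_commuting_sylow P hu huw (hw w hwo)
  obtain ⟨d, hd⟩ := exists_conj_mem hy.2 (P : Subgroup G) P.not_dvd_index
  have h1 : Commute (d⁻¹ * y * d) (c⁻¹ * (u * w) * c) := by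
    rw [show c⁻¹ * (u * w) * c = c⁻¹ * u * c * (c⁻¹ * w * c) by group]
    exact (hR _ P.2 _ hd _ hcu).mul_right (hcw _ hd).symm
  refine hav (c * (d⁻¹ * y * d) * c⁻¹) ⟨c * d⁻¹, by group⟩ ?_
  show c * (d⁻¹ * y * d) * c⁻¹ * (u * w) = u * w * (c * (d⁻¹ * y * d) * c⁻¹)
  calc c * (d⁻¹ * y * d) * c⁻¹ * (u * w) = c * (d⁻¹ * y * d * (c⁻¹ * (u * w) * c)) * c⁻¹ := by group
    _ = c * (c⁻¹ * (u * w) * c * (d⁻¹ * y * d)) * c⁻¹ := by rw [h1.eq]
    _ = u * w * (c * (d⁻¹ * y * d) * c⁻¹) := by group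

theorem index_cent_coe (H : Subgroup G) (x : H) :
    (cent x : Subgroup H).index = (cent (x : G) : Subgroup G).relIndex H := by
  have e : (cent x : Subgroup H) = (cent (x : G) : Subgroup G).subgroupOf H := by
    ext y
    rw [mem_subgroupOf, mem_cent, mem_cent, Subtype.ext_iff]
    rfl
  rw [e]; rfl

theorem relIndex_eq_index {C H : Subgroup G} [H.Normal] (h : C ⊔ H = ⊤) : C.relIndex H = C.index := by
  have e1 := relIndex_mul_index (inf_le_right : C ⊓ H ≤ H)
  have e2 := relIndex_mul_index (inf_le_left : C ⊓ H ≤ C)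
  rw [inf_relIndex_right] at e1
  rw [inf_relIndex_left, ← relIndex_sup_right, h, relIndex_top_right] at e2
  rw [← e2, mul_comm H.index] at e1
  exact Nat.eq_of_mul_eq_mul_right (Nat.pos_of_ne_zero index_ne_zero_of_finite) e1

theorem Four.prime_dvd_of_noncentral (F : Four G n m) {p : ℕ} {y : G} (hy : Prim p y)
    (hyZ : y ∉ center G) : p ∣ n ∨ p ∣ m := by
  by_contra h
  obtain ⟨g, hav⟩ := exists_avoids hyZ
  obtain ⟨y', hy', hc⟩ := exists_cls_commute (y := g) hy (by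
    intro hd
    rcases F.sizes g with h1 | h1 | h1 | h1 <;> rw [h1] at hd
    · exact hy.1.ne_one (Nat.dvd_one.1 hd)
    · exact h (Or.inl hd)
    · exact h (Or.inr hd)
    · exact h (hy.1.dvd_mul.1 hd))
  exact hav y' hy' hc

theorem Four.sz_of_dvd_n (F : Four G n m) {p : ℕ} {y : G} (hy : Prim p y) (hyZ : y ∉ center G)
    (hpn : p ∣ n) : sz y = n ∨ sz y = n * m := by
  rcases F.sizes y with h | h | h | h
  · exact absurd (sz_eq_one.1 h) hyZ
  · exact Or.inl h
  · exact absurd hpn (F.symm.not_dvd_prim hy h)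
  · exact Or.inr h

theorem Four.dvd_prim (F : Four G n m) {p : ℕ} {a : G} (hap : Prim p a) (ha : sz a = n) : p ∣ n :=
  (F.prime_dvd_of_noncentral hap (F.noncentral ha)).resolve_right (F.not_dvd_prim hap ha)

theorem Four.cent_structure (F : Four G n m) {p r : ℕ} [Fact p.Prime] {u t : G} (hu : Prim p u)
    (hpn : p ∣ n) (hsz : sz u = n * m) (htr : Prim r t) (ht : sz t = m) :
    (∃ α, n = p ^ α) ∧
    (∃ P : Sylow p G, (P : Subgroup G) ≤ cent t ∧ ∀ y, Prim p y → Commute y t → y ∈ (P : Subgroup G)) ∧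
    ∀ (q : ℕ) (y : G), q ≠ p → Prim q y → Commute y t → (cent t : Subgroup G) ≤ cent y := by
  have hrm : r ∣ m := F.symm.dvd_prim htr ht
  have hrn : ¬ r ∣ n := F.symm.not_dvd_prim htr ht
  have hpr : p ≠ r := fun h => hrn (h ▸ hpn)
  have hpm : ¬ p ∣ m := fun h => hu.1.ne_one (Nat.eq_one_of_dvd_coprimes F.hcop hpn h)
  obtain ⟨u', hu', hc⟩ := exists_cls_commute hu (ht ▸ hpm : ¬ p ∣ sz t)
  have hup := hu.of_mem_cls hu'
  have husz : sz u' = n * m := Four.sz_of_cls hsz hu'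
  haveI := Fact.mk htr.1
  have hn1 := F.hn
  have hm1 := F.hm
  set H : Subgroup G := cent t with hH
  have hle : cent u' ≤ H := F.cent_le husz hc (hup.coprime htr hpr)
  have hrel : ∀ w : G, Commute t w → ¬ r ∣ orderOf w →
      (cent w : Subgroup G).relIndex H = 1 ∨ (cent w : Subgroup G).relIndex H = n := by
    intro w htw hw
    obtain ⟨-, k, hk⟩ := htr
    have hco : (orderOf t).Coprime (orderOf w) :=
      hk ▸ Nat.Coprime.pow_left k ((Fact.out : r.Prime).coprime_iff_not_dvd.2 hw)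
    have h1 : (cent w : Subgroup G).relIndex H * m = sz (t * w) := by
      show _ = (cent (t * w) : Subgroup G).index
      rw [cent_mul_eq htw hco, ← relIndex_mul_index (inf_le_left : H ⊓ cent w ≤ H), inf_relIndex_left,
        show H.index = m from ht]
    rcases F.sizes (t * w) with h | h | h | h <;> rw [h] at h1
    · exact absurd (Nat.eq_one_of_mul_eq_one_left h1) (by omega)
    · exact absurd (dvd_mul_left m _) (h1 ▸ F.symm.not_dvd)
    · exact Or.inl (Nat.eq_of_mul_eq_mul_right (by omega) (h1.trans (one_mul m).symm))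
    · exact Or.inr (Nat.eq_of_mul_eq_mul_right (by omega) h1)
  have hprim : ∀ {s : ℕ} {y : H}, Prim s y → Prim s (y : G) := fun {s y} hy =>
    ⟨hy.1, by obtain ⟨k, hk⟩ := hy.2; exact ⟨k, by rw [orderOf_coe]; exact hk⟩⟩
  have hrcent : ∀ y : H, Prim r y → y ∈ center H := fun y hy =>
    mem_center_of_pgroups_comm (p := r)
      (fun R hR a ha b hb => Subtype.ext (F.pgroup_comm hup hpr hrn husz ht hc (hR.map H.subtype)
        (map_subtype_le R) _ ⟨a, ha, rfl⟩ _ ⟨b, hb, rfl⟩).eq)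
      (fun w hw => by
        show ¬ r ∣ (cent w : Subgroup H).index
        rw [index_cent_coe]
        rcases hrel (w : G) (mem_cent_iff_commute.1 w.2).symm (by rwa [orderOf_coe]) with h | h <;> rw [h]
        · exact htr.1.not_dvd_one
        · exact hrn) hy
  have hall : ∀ x : H, (cent x : Subgroup H).index = 1 ∨ (cent x : Subgroup H).index = n := by
    intro x
    obtain ⟨z, w, hx, hzw, -, -, hz, hw, -⟩ := exists_part x htr.1
    rw [hx, hzw.eq, TwoLargest.cent_mul_central (hrcent z hz), index_cent_coe]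
    exact hrel (w : G) (mem_cent_iff_commute.1 w.2).symm (by rwa [orderOf_coe])
  have hex : ∃ x : H, (cent x : Subgroup H).index = n := by
    refine ⟨⟨u', mem_cent_iff_commute.2 hc⟩, ?_⟩
    rw [index_cent_coe]
    refine Nat.eq_of_mul_eq_mul_right (show 0 < m by omega) ?_
    have := relIndex_mul_index hle
    rw [show H.index = m from ht] at this
    exact this.trans husz
  obtain ⟨p₀, hp₀, α, hnα, hP⟩ := Cfsg.Agent.S4134.result (G := H) n hn1 hall hex
  obtain rfl : p = p₀ := (Nat.prime_dvd_prime_iff_eq hu.1 hp₀.out).1 (hu.1.dvd_of_dvd_pow (hnα ▸ hpn))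
  obtain ⟨P₀⟩ : Nonempty (Sylow p H) := inferInstance
  obtain ⟨hPn, ⟨N, hNn, hcompl, hNc, hNP⟩, -⟩ := hP P₀
  refine ⟨⟨α, hnα⟩, ⟨(P₀.2.map H.subtype).toSylow ?_, map_subtype_le _, fun y hy hyt => ?_⟩,
    fun q y hq hy hyt => ?_⟩
  · rw [Subgroup.index_map_subtype]
    exact fun h => (hu.1.dvd_mul.1 h).elim P₀.not_dvd_index (by rw [show H.index = m from ht]; exact hpm)
  · obtain ⟨k, hk⟩ := hy.2
    obtain ⟨c, hc'⟩ := exists_conj_mem (p := p) (x := (⟨y, mem_cent_iff_commute.2 hyt⟩ : H))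
      ⟨k, by rw [orderOf_mk, hk]⟩ (P₀ : Subgroup H) P₀.not_dvd_index
    have := hPn.conj_mem _ hc' c
    rw [show c * (c⁻¹ * ⟨y, mem_cent_iff_commute.2 hyt⟩ * c) * c⁻¹
      = (⟨y, mem_cent_iff_commute.2 hyt⟩ : H) by group] at this
    exact ⟨_, this, rfl⟩
  · have hNZ : ∀ a ∈ N, a ∈ center H := fun a ha => mem_center_iff.2 fun g => by
      obtain ⟨⟨⟨b, hb⟩, ⟨c, hc'⟩⟩, rfl⟩ := hcompl.2 g
      show b * c * a = a * (b * c)
      have h1 : b * a = a * b := congrArg Subtype.val (hNc.is_comm.comm (⟨b, hb⟩ : N) ⟨a, ha⟩)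
      have h2 : a * c = c * a := hNP a ha c hc'
      rw [mul_assoc, ← h2, ← mul_assoc, h1, mul_assoc]
    set y' : H := ⟨y, mem_cent_iff_commute.2 hyt⟩
    obtain ⟨⟨⟨a, ha⟩, ⟨z, hz⟩⟩, hy'⟩ := hcompl.2 y'
    change a * z = y' at hy'
    obtain ⟨k, hk⟩ := IsPGroup.iff_orderOf.1 P₀.2 ⟨z, hz⟩
    rw [orderOf_mk] at hk
    have hmem : y' ∈ N := by
      obtain ⟨hqp, l, hl⟩ := hy
      refine Transfer.mem_of_pow_mem_of_coprime (H := N) (a := p ^ k) (b := orderOf y') ?_ ?_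
        (by rw [pow_orderOf_eq_one]; exact one_mem _)
      · rw [show orderOf y' = q ^ l from (orderOf_mk y _).trans hl]
        exact Nat.Coprime.pow k l ((Nat.coprime_primes hu.1 hqp).2 (Ne.symm hq))
      · rw [← hy', (show Commute a z from hNP a ha z hz).mul_pow, ← hk, pow_orderOf_eq_one, mul_one]
        exact N.pow_mem ha _
    exact fun g hg => mem_cent.2 (congrArg Subtype.val (mem_center_iff.1 (hNZ y' hmem) ⟨g, hg⟩))

theorem Four.false_both (F : Four G n m) {p q : ℕ} {u v : G} (hu : Prim p u) (hpn : p ∣ n)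
    (hsz : sz u = n * m) (hv : Prim q v) (hqm : q ∣ m) (hvsz : sz v = n * m) : False := by
  haveI := Fact.mk hu.1
  haveI := Fact.mk hv.1
  have hpm : ¬ p ∣ m := fun h => hu.1.ne_one (Nat.eq_one_of_dvd_coprimes F.hcop hpn h)
  have hpq : p ≠ q := fun h => hpm (h ▸ hqm)
  obtain ⟨r, t, htr, ht⟩ := F.symm.exists_prim
  obtain ⟨s, a, has, ha⟩ := F.exists_prim
  obtain ⟨⟨α, hα⟩, ⟨P, hPt, hPall⟩, hH⟩ := F.cent_structure hu hpn hsz htr ht
  obtain ⟨⟨β, hβ⟩, ⟨Q, hQa, hQall⟩, hK⟩ :=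
    F.symm.cent_structure hv hqm (hvsz.trans (mul_comm n m)) has ha
  obtain rfl : r = q := (Nat.prime_dvd_prime_iff_eq htr.1 hv.1).1
    (htr.1.dvd_of_dvd_pow (hβ ▸ F.symm.dvd_prim htr ht))
  obtain rfl : s = p := (Nat.prime_dvd_prime_iff_eq has.1 hu.1).1
    (has.1.dvd_of_dvd_pow (hα ▸ F.dvd_prim has ha))
  have hat : Commute a t := F.commute_of_sizes has htr ha ht
  have haP := hPall a has hat
  obtain ⟨u', hu', hc⟩ := exists_cls_commute hu (ht ▸ hpm : ¬ _ ∣ sz t)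
  have hu'P := hPall u' (hu.of_mem_cls hu') hc
  have hAQ : ∀ y, Prim _ y → Commute y t → y ∈ (Q : Subgroup G) := fun y hy hyt =>
    hQall y hy (mem_cent_iff_commute.1 (hH _ y hpq.symm hy hyt (mem_cent_iff_commute.2 hat))).symm
  have hQp : ∀ y ∈ (Q : Subgroup G), Prim r y := fun y hy => by
    obtain ⟨k, hk⟩ := IsPGroup.iff_orderOf.1 Q.2 ⟨y, hy⟩
    rw [orderOf_mk] at hk
    exact ⟨hv.1, k, hk⟩
  have hPp : ∀ y ∈ (P : Subgroup G), Prim s y := fun y hy => by
    obtain ⟨k, hk⟩ := IsPGroup.iff_orderOf.1 P.2 ⟨y, hy⟩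
    rw [orderOf_mk] at hk
    exact ⟨hu.1, k, hk⟩
  have hne : ((cent t : Subgroup G).subgroupOf (Q : Subgroup G)) ≠ ⊤ := by
    intro h
    have hle : (Q : Subgroup G) ≤ cent t := subgroupOf_eq_top.1 h
    exact Q.not_dvd_index (hqm.trans (ht ▸ index_dvd_of_le hle))
  haveI := Q.2.isNilpotent
  obtain ⟨g, hgN, hgA⟩ := SetLike.exists_of_lt
    (Group.normalizerCondition_of_isNilpotent _ (lt_top_iff_ne_top.2 hne))
  have hnorm : ∀ h : (Q : Subgroup G),
      h ∈ Subgroup.normalizer (((cent t : Subgroup G).subgroupOf (Q : Subgroup G) : Set (Q : Subgroup G))) →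
      ∀ y ∈ (P : Subgroup G), (h : G) * y * (h : G)⁻¹ ∈ (P : Subgroup G) := by
    intro h hh y hy
    have htQ := hAQ t htr (Commute.refl t)
    have h1 := (mem_normalizer_iff.1 (inv_mem hh) ⟨t, htQ⟩).1 (mem_subgroupOf.2 (mem_cent.2 rfl))
    rw [mem_subgroupOf] at h1
    push_cast at h1
    rw [inv_inv] at h1
    set t' : G := (h : G)⁻¹ * t * (h : G)
    have h2 := hH _ t' hpq.symm (hQp t' (mul_mem (mul_mem (inv_mem h.2) htQ) h.2))
      (mem_cent_iff_commute.1 h1) (hPt hy)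
    have h3 : Commute y t' := mem_cent_iff_commute.1 h2
    refine hPall _ ((hPp y hy).conj _) ?_
    show (h : G) * y * (h : G)⁻¹ * t = t * ((h : G) * y * (h : G)⁻¹)
    calc (h : G) * y * (h : G)⁻¹ * t = h * (y * t') * (h : G)⁻¹ := by simp only [t']; group
      _ = h * (t' * y) * (h : G)⁻¹ := by rw [h3.eq]
      _ = t * ((h : G) * y * (h : G)⁻¹) := by simp only [t']; group
  have hgnorm : (g : G) ∈ Subgroup.normalizer ((P : Subgroup G) : Set G) :=
    mem_normalizer_iff.2 fun y => ⟨hnorm g hgN y, fun hy => by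
      have := hnorm g⁻¹ (inv_mem hgN) _ hy
      push_cast at this
      rwa [show (g : G)⁻¹ * ((g : G) * y * (g : G)⁻¹) * (g : G)⁻¹⁻¹ = y by group] at this⟩
  have hga : Commute (g : G) a := mem_cent_iff_commute.1 (hQa g.2)
  have hgo : ¬ s ∣ orderOf (g : G) := by
    obtain ⟨hrp, k, hk⟩ := hQp g g.2
    rw [hk]
    exact fun h => hpq ((Nat.prime_dvd_prime_iff_eq hu.1 hrp).1 (hu.1.dvd_of_dvd_pow h))
  have hgu : Commute u' (g : G) := ClassIndex.commute_of_pxq P.2 has.2 (le_normalizer haP) hgo hgnorm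
    hga.symm (fun c hc' hca => (mem_cent_iff_commute.1 (hK s c hpq (hPp c hc') hca (hQa g.2))).symm)
    u' hu'P
  exact hgA (mem_subgroupOf.2 (F.cent_le (Four.sz_of_cls hsz hu') hc
    ((hu.of_mem_cls hu').coprime htr hpq) (mem_cent_iff_commute.2 hgu.symm)))

theorem Four.sz_ne_nm_of_dvd (F : Four G n m) {p : ℕ} {u : G} (hu : Prim p u) (hpn : p ∣ n) :
    sz u ≠ n * m := by
  intro hsz
  by_cases hv : ∃ (q : ℕ) (v : G), Prim q v ∧ q ∣ m ∧ sz v = n * m
  · obtain ⟨q, v, hv, hqm, hvsz⟩ := hv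
    exact F.false_both hu hpn hsz hv hqm hvsz
  haveI := Fact.mk hu.1
  have hpm : ¬ p ∣ m := fun h => hu.1.ne_one (Nat.eq_one_of_dvd_coprimes F.hcop hpn h)
  obtain ⟨r, t, htr, ht⟩ := F.symm.exists_prim
  obtain ⟨⟨α, hα⟩, -, -⟩ := F.cent_structure hu hpn hsz htr ht
  have hw : ∀ w : G, ¬ p ∣ orderOf w → ¬ p ∣ sz w := by
    intro w hwo
    by_cases hwZ : w ∈ center G
    · rw [sz_eq_one.2 hwZ]; exact hu.1.not_dvd_one
    obtain ⟨q, t₁, ht₁, hmem, ht₁Z⟩ := exists_noncentral_part hwZ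
    have hne : ∀ (q' : ℕ) (y : G), Prim q' y → y ∈ zpowers w → y ≠ 1 → q' ≠ p := by
      intro q' y hy hymem hy1 h
      obtain ⟨-, k, hk⟩ := hy
      rcases Nat.eq_zero_or_pos k with rfl | hk0
      · exact hy1 (orderOf_eq_one_iff.1 (by simpa using hk))
      · exact hwo (h ▸ (dvd_pow_self q' hk0.ne').trans (hk ▸ orderOf_dvd_of_mem_zpowers hymem))
    have hqp : q ≠ p := hne q t₁ ht₁ hmem fun h => ht₁Z (h ▸ one_mem _)
    have hqm : q ∣ m := (F.prime_dvd_of_noncentral ht₁ ht₁Z).resolve_left fun h =>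
      hqp ((Nat.prime_dvd_prime_iff_eq ht₁.1 hu.1).1 (ht₁.1.dvd_of_dvd_pow (hα ▸ h)))
    have ht₁m : sz t₁ = m := (F.symm.sz_of_dvd_n ht₁ ht₁Z hqm).resolve_right fun h =>
      hv ⟨q, t₁, ht₁, hqm, h.trans (mul_comm m n)⟩
    obtain ⟨-, -, hH⟩ := F.cent_structure hu hpn hsz ht₁ ht₁m
    have hle : cent t₁ ≤ cent w := fun g hg =>
      mem_cent_iff_commute.2 (commute_of_parts fun q' y hy hymem => by
        by_cases hy1 : y = 1
        · rw [hy1]; exact Commute.one_right g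
        exact mem_cent_iff_commute.1 (hH q' y (hne q' y hy hymem hy1) hy
          ((Commute_of_mem_zpowers (Commute_of_mem_zpowers (Commute.refl w) hmem).symm hymem).symm) hg))
    exact fun h => hpm (ht₁m ▸ h.trans (index_dvd_of_le hle))
  obtain ⟨P⟩ : Nonempty (Sylow p G) := inferInstance
  set C : Subgroup G := centralizer ((P : Subgroup G) : Set G) with hC
  have htop : (P : Subgroup G) ⊔ C = ⊤ := ClassIndex.eq_top_of_conj_cover fun x => by
    obtain ⟨z, w, rfl, hzw, -, -, hz, hwo, -⟩ := exists_part x hu.1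
    obtain ⟨c, hcz, hcw⟩ := exists_conj_commuting_sylow P hz hzw (hw w hwo)
    refine ⟨c, ?_⟩
    rw [show c⁻¹ * (z * w) * c = c⁻¹ * z * c * (c⁻¹ * w * c) by group]
    exact mul_mem (mem_sup_left hcz) (mem_sup_right (mem_centralizer_iff.2 fun s hs => (hcw s hs).symm.eq))
  have hPn : (P : Subgroup G).Normal := by
    rw [← normalizer_eq_top_iff, eq_top_iff, ← htop, sup_le_iff]
    exact ⟨le_normalizer, fun c hc => mem_normalizer_iff.2 fun y => ⟨fun hy => by
      rwa [← (mem_centralizer_iff.1 hc y hy), mul_inv_cancel_right], fun hy => by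
      have h1 : c * y * c⁻¹ * c = c * (c * y * c⁻¹) := mem_centralizer_iff.1 hc _ hy
      rw [inv_mul_cancel_right] at h1
      rwa [mul_left_cancel h1]⟩⟩
  obtain ⟨d, hd⟩ := exists_conj_mem hu.2 (P : Subgroup G) P.not_dvd_index
  set u₀ := d⁻¹ * u * d
  have hu₀ : sz u₀ = n * m := Four.sz_of_cls hsz ⟨d⁻¹, by simp only [u₀]; group⟩
  have hCu : C ≤ cent u₀ := fun c hc => mem_cent.2 (mem_centralizer_iff.1 hc u₀ hd).symm
  have htop' : cent u₀ ⊔ (P : Subgroup G) = ⊤ := by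
    rw [eq_top_iff, ← htop]
    exact sup_le le_sup_right (hCu.trans le_sup_left)
  obtain ⟨j, hj⟩ := IsPGroup.iff_card.1 P.2
  have hdvd : n * m ∣ p ^ j := by
    rw [← hu₀, ← hj, show sz u₀ = (cent u₀ : Subgroup G).index from rfl, ← relIndex_eq_index htop']
    exact ((cent u₀).subgroupOf (P : Subgroup G)).index_dvd_card
  have hm1 := F.hm
  obtain ⟨q, hq, hqm⟩ := Nat.exists_prime_and_dvd (show m ≠ 1 by omega)
  exact hpm ((Nat.prime_dvd_prime_iff_eq hq hu.1).1
    (hq.dvd_of_dvd_pow ((hqm.trans (dvd_mul_left m n)).trans hdvd)) ▸ hqm)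

theorem Four.sz_ne_nm (F : Four G n m) {p : ℕ} {u : G} (hu : Prim p u) : sz u ≠ n * m := fun h => by
  rcases F.prime_dvd_of_noncentral hu (F.noncentral_nm h) with hd | hd
  · exact F.sz_ne_nm_of_dvd hu hd h
  · exact F.symm.sz_ne_nm_of_dvd hu hd (h.trans (mul_comm n m))

end Cfsg.Agent.FourSizes
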