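import Cfsg.Agent.EqLemmas
import Cfsg.Agent.Lib.ClassIndex.Basic

/-!
# Class size frequencies detect nilpotency (owner: helper75)

The theorem of Cossey, Hawkes and Mann.  Key point: if `q` does not divide the class size of `x`,
then translation by a central `q`-element fixes no class of `x`; counting the elements of class
size prime to `q` modulo `q` shows that the centre of a Sylow `q`-subgroup is central.
-/

set_option autoImplicit false

open Subgroup

namespace Cfsg.Agent.Frequencies

open Cfsg.Agent.ClassIndex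

variable {G : Type*} [Group G] [Finite G]

/-- elements whose class size satisfies `P` -/
def sel (G : Type*) [Group G] (P : ℕ → Prop) : Set G :=
  {x | P (centralizer ({x} : Set G)).index}

theorem card_sel (P : ℕ → Prop) : ∃ _ : Fintype {C : ConjClasses G // P (Nat.card C.carrier)},
    Nat.card (sel G P) = ∑ C : {C : ConjClasses G // P (Nat.card C.carrier)}, Nat.card C.1.carrier := by
  classical
  haveI := Fintype.ofFinite G
  haveI := Fintype.ofFinite {C : ConjClasses G // P (Nat.card C.carrier)}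
  refine ⟨inferInstance, ?_⟩
  rw [← Nat.card_sigma]
  refine Nat.card_congr
    { toFun := fun x => ⟨⟨ConjClasses.mk x.1, by rw [natCard_carrier_eq_index]; exact x.2⟩,
        ⟨x.1, ConjClasses.mem_carrier_mk⟩⟩
      invFun := fun t => ⟨t.2.1, by
        show P _
        rw [← natCard_carrier_eq_index, ConjClasses.mem_carrier_iff_mk_eq.1 t.2.2]
        exact t.1.2⟩
      left_inv := fun x => rfl
      right_inv := fun t => by
        obtain ⟨⟨C, hC⟩, ⟨y, hy⟩⟩ := t
        have e : ConjClasses.mk y = C := ConjClasses.mem_carrier_iff_mk_eq.1 hy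
        subst e
        rfl }

theorem card_sel_eq {H : Type*} [Group H] [Finite H]
    (h : ∀ k : ℕ, Nat.card {C : ConjClasses G // Nat.card C.carrier = k} =
      Nat.card {C : ConjClasses H // Nat.card C.carrier = k}) (P : ℕ → Prop) :
    Nat.card (sel G P) = Nat.card (sel H P) := by
  classical
  let fG : ConjClasses G → ℕ := fun C => Nat.card C.carrier
  let fH : ConjClasses H → ℕ := fun C => Nat.card C.carrier
  let e : ConjClasses G ≃ ConjClasses H :=
    Equiv.ofFiberEquiv (f := fG) (g := fH) fun k =>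
      (Finite.card_eq.1 (h k)).some
  have he : ∀ C, fH (e C) = fG C := fun C => Equiv.ofFiberEquiv_map _ C
  obtain ⟨iG, hG⟩ := card_sel (G := G) P
  obtain ⟨iH, hH⟩ := card_sel (G := H) P
  rw [hG, hH]
  refine Fintype.sum_equiv (e.subtypeEquiv fun C => ?_) _ _ fun C => (he C.1).symm
  show P (fG C) ↔ P (fH (e C))
  rw [he]

theorem sel_one : sel G (fun k => k = 1) = (center G : Set G) := by
  ext x
  show (centralizer ({x} : Set G)).index = 1 ↔ x ∈ center G
  rw [index_eq_one, centralizer_eq_top_iff_subset, Set.singleton_subset_iff, SetLike.mem_coe]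

theorem centralizer_mul_central {x z : G} (hz : z ∈ center G) :
    centralizer ({x * z} : Set G) = centralizer ({x} : Set G) := by
  ext g
  rw [mem_cent, mem_cent, ← mul_assoc, mul_assoc x z g, ← mem_center_iff.1 hz g, ← mul_assoc]
  exact mul_left_inj z

/-- translation by a central element of order prime to the class size moves the class -/
theorem eq_one_of_conj {q : ℕ} [hq : Fact q.Prime] {x z g : G}
    (hx : ¬ q ∣ (centralizer ({x} : Set G)).index) (hz : z ∈ center G) (hzq : ∃ k, orderOf z = q ^ k)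
    (hg : g * x * g⁻¹ = x * z) : z = 1 := by
  let X := {y : G // ∃ a : G, a * x * a⁻¹ = y}
  letI : MulAction (zpowers z) X :=
    { smul := fun c y => ⟨y.1 * c.1, by
        obtain ⟨i, hi⟩ := mem_zpowers_iff.1 c.2
        obtain ⟨a, ha⟩ := y.2
        rw [← hi]
        clear hi
        induction i with
        | zero => exact ⟨a, by rw [zpow_zero, mul_one, ha]⟩
        | succ n ih =>
          obtain ⟨b, hb⟩ := ih
          refine ⟨b * g, ?_⟩
          rw [zpow_add_one, ← mul_assoc y.1, ← hb]
          calc b * g * x * (b * g)⁻¹ = b * (g * x * g⁻¹) * b⁻¹ := by group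
            _ = b * x * (z * b⁻¹) := by rw [hg]; group
            _ = b * x * b⁻¹ * z := by rw [← mem_center_iff.1 hz b⁻¹, ← mul_assoc]
        | pred n ih =>
          obtain ⟨b, hb⟩ := ih
          refine ⟨b * g⁻¹, ?_⟩
          have e : g⁻¹ * x * g = x * z⁻¹ := by
            have h2 : x = g⁻¹ * x * g * z := by
              calc x = g⁻¹ * (g * x * g⁻¹) * g := by group
                _ = g⁻¹ * x * (z * g) := by rw [hg]; group
                _ = g⁻¹ * x * g * z := by rw [← mem_center_iff.1 hz g, ← mul_assoc]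
            exact (mul_inv_eq_of_eq_mul h2).symm
          rw [zpow_sub_one, ← mul_assoc y.1, ← hb]
          calc b * g⁻¹ * x * (b * g⁻¹)⁻¹ = b * (g⁻¹ * x * g) * b⁻¹ := by group
            _ = b * x * (z⁻¹ * b⁻¹) := by rw [e]; group
            _ = b * x * b⁻¹ * z⁻¹ := by
              rw [← mem_center_iff.1 (inv_mem hz) b⁻¹, ← mul_assoc]⟩
      one_smul := fun y => Subtype.ext (mul_one _)
      mul_smul := fun c d y => Subtype.ext (by
        show y.1 * (c.1 * d.1) = y.1 * d.1 * c.1
        rw [mul_assoc]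
        congr 1
        obtain ⟨i, hi⟩ := mem_zpowers_iff.1 c.2
        obtain ⟨j, hj⟩ := mem_zpowers_iff.1 d.2
        rw [← hi, ← hj, ← zpow_add, ← zpow_add, add_comm]) }
  have hfree : ∀ y : X, MulAction.stabilizer (zpowers z) y = ⊥ := fun y => by
    refine eq_bot_iff.2 fun c hc => ?_
    have h : y.1 * c.1 = y.1 := congrArg Subtype.val hc
    exact mem_bot.2 (Subtype.ext (mul_eq_left.1 h))
  have hcard : ∀ y : X, Nat.card (MulAction.orbit (zpowers z) y) = orderOf z := fun y => by
    rw [Nat.card_coe_set_eq, ← MulAction.index_stabilizer, hfree, index_bot, Nat.card_zpowers]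
  have hdvd : orderOf z ∣ Nat.card X := by
    rw [Nat.card_congr (MulAction.selfEquivSigmaOrbits (zpowers z) X)]
    haveI := Fintype.ofFinite (MulAction.orbitRel.Quotient (zpowers z) X)
    rw [Nat.card_sigma]
    exact Finset.dvd_sum fun ω _ => (hcard _).symm.dvd
  obtain ⟨k, hk⟩ := hzq
  rw [← index_centralizer_eq, hk] at hdvd
  rcases Nat.eq_zero_or_pos k with rfl | hpos
  · exact orderOf_eq_one_iff.1 (by simpa using hk)
  · exact absurd ((dvd_pow_self q hpos.ne').trans hdvd) hx

variable {q : ℕ} [hq : Fact q.Prime]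

omit [Finite G] hq in
theorem isPGroup_inf {Q : Subgroup G} (hQ : IsPGroup q Q) (K : Subgroup G) :
    IsPGroup q (Q ⊓ K : Subgroup G) := hQ.to_le inf_le_left

theorem not_dvd_relIndex (Q : Sylow q G) (K : Subgroup G) [K.Normal] :
    ¬ q ∣ (Q : Subgroup G).relIndex K := fun h =>
  Q.not_dvd_index (h.trans (relIndex_dvd_index_of_normal_right _ K))

/-- If the elements of class size prime to `q` number `|Z(G)_q|` times a number prime to `q`,
then the centre of every Sylow `q`-subgroup is central. -/
theorem sylow_center_le (Q : Sylow q G)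
    (h : ∀ t, Nat.card (sel G (fun k => ¬ q ∣ k)) = Nat.card ((Q : Subgroup G) ⊓ center G : Subgroup G) * t →
      ¬ q ∣ t) :
    (Q : Subgroup G) ⊓ centralizer ((Q : Subgroup G) : Set G) ≤ center G := by
  classical
  set Zq := (Q : Subgroup G) ⊓ center G with hZq
  have hZc : Zq ≤ center G := inf_le_right
  have hZp : IsPGroup q Zq := isPGroup_inf Q.isPGroup' _
  haveI hZn : Zq.Normal := ⟨fun n hn g => by
    rw [mem_center_iff.1 (hZc hn) g, mul_inv_cancel_right]; exact hn⟩
  set A := sel G (fun k => ¬ q ∣ k) with hA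
  have hAinv : ∀ x z : G, z ∈ center G → x ∈ A → x * z ∈ A := fun x z hz hx => by
    show ¬ q ∣ _
    rw [centralizer_mul_central hz]; exact hx
  let S : Set (G ⧸ Zq) := QuotientGroup.mk '' A
  have hpre : QuotientGroup.mk ⁻¹' S = A := by
    refine Set.Subset.antisymm ?_ (Set.subset_preimage_image _ _)
    rintro y ⟨x, hx, hxy⟩
    have := QuotientGroup.eq.1 hxy
    have := hAinv x _ (hZc this) hx
    rwa [mul_inv_cancel_left] at this
  have hcardA : Nat.card A = Nat.card Zq * Nat.card S := by
    rw [← hpre, Nat.card_congr (QuotientGroup.preimageMkEquivSubgroupProdSet Zq S), Nat.card_prod]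
  have hS : ¬ q ∣ Nat.card S := h _ hcardA
  have hAconj : ∀ (g x : G), x ∈ A → g * x * g⁻¹ ∈ A := fun g x hx => by
    show ¬ q ∣ _
    rw [index_centralizer_eq]
    have hx' : ¬ q ∣ (centralizer ({x} : Set G)).index := hx
    rw [index_centralizer_eq] at hx'
    have e : Nat.card {y : G // ∃ a : G, a * (g * x * g⁻¹) * a⁻¹ = y} =
        Nat.card {y : G // ∃ a : G, a * x * a⁻¹ = y} :=
      Nat.card_congr (Equiv.subtypeEquivRight fun y =>
        ⟨fun ⟨a, ha⟩ => ⟨a * g, by rw [← ha]; group⟩, fun ⟨a, ha⟩ => ⟨a * g⁻¹, by rw [← ha]; group⟩⟩)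
    rw [e]; exact hx'
  letI : MulAction (Q : Subgroup G) S :=
    { smul := fun g s => ⟨((g : G) : G ⧸ Zq) * s.1 * ((g : G) : G ⧸ Zq)⁻¹, by
        obtain ⟨x, hx, hxs⟩ := s.2
        exact ⟨g * x * (g : G)⁻¹, hAconj g x hx, by
          rw [QuotientGroup.mk_mul, QuotientGroup.mk_mul, QuotientGroup.mk_inv, hxs]⟩⟩
      one_smul := fun s => Subtype.ext (by
        show (((1 : (Q : Subgroup G)) : G) : G ⧸ Zq) * s.1 * (((1 : (Q : Subgroup G)) : G) : G ⧸ Zq)⁻¹ = s.1
        simp)
      mul_smul := fun a b s => Subtype.ext (by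
        show (((a * b : (Q : Subgroup G)) : G) : G ⧸ Zq) * s.1 * _ = _ * (_ * s.1 * _) * _
        rw [Subgroup.coe_mul, QuotientGroup.mk_mul, mul_inv_rev]
        simp only [mul_assoc]) }
  have hmod := Q.isPGroup'.card_modEq_card_fixedPoints (α := S)
  set C := centralizer ((Q : Subgroup G) : Set G) with hC
  have hCA : ∀ x ∈ C, x ∈ A := fun x hx hd => by
    refine Q.not_dvd_index (hd.trans (index_dvd_of_le fun g hg => ?_))
    exact mem_cent.2 (mem_centralizer_iff.1 hx g hg)
  have hfix : (Subtype.val '' MulAction.fixedPoints (Q : Subgroup G) S) =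
      ((C.map (QuotientGroup.mk' Zq) : Subgroup (G ⧸ Zq)) : Set (G ⧸ Zq)) := by
    ext s
    constructor
    · rintro ⟨⟨_, x, hx, rfl⟩, hfix, rfl⟩
      refine ⟨x, mem_centralizer_iff.2 fun g hg => ?_, rfl⟩
      have := congrArg Subtype.val (hfix ⟨g, hg⟩)
      change (g : G ⧸ Zq) * (x : G ⧸ Zq) * (g : G ⧸ Zq)⁻¹ = (x : G ⧸ Zq) at this
      rw [← QuotientGroup.mk_inv, ← QuotientGroup.mk_mul, ← QuotientGroup.mk_mul] at this
      have hz := QuotientGroup.eq.1 this.symm
      have := eq_one_of_conj (q := q) (g := g) hx (hZc hz)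
        (by
          obtain ⟨k, hk⟩ := (IsPGroup.iff_orderOf).1 hZp ⟨_, hz⟩
          exact ⟨k, by rw [← hk, Subgroup.orderOf_mk]⟩)
        (by rw [mul_inv_cancel_left])
      exact mul_inv_eq_iff_eq_mul.1 (inv_mul_eq_one.1 this).symm
    · rintro ⟨x, hx, rfl⟩
      refine ⟨⟨_, x, hCA x hx, rfl⟩, fun g => Subtype.ext ?_, rfl⟩
      show ((g : G) : G ⧸ Zq) * (x : G ⧸ Zq) * ((g : G) : G ⧸ Zq)⁻¹ = (x : G ⧸ Zq)
      rw [← QuotientGroup.mk_inv, ← QuotientGroup.mk_mul, ← QuotientGroup.mk_mul,
        mem_centralizer_iff.1 hx g g.2, mul_inv_cancel_right]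
  have hcardfix : Nat.card (MulAction.fixedPoints (Q : Subgroup G) S) =
      Nat.card (C.map (QuotientGroup.mk' Zq)) := by
    rw [← Nat.card_image_of_injective Subtype.val_injective, hfix]; rfl
  have hf : ¬ q ∣ Nat.card (C.map (QuotientGroup.mk' Zq)) := fun hd => hS <| by
    rw [← hcardfix] at hd
    exact (hmod.dvd_iff (dvd_refl q)).2 hd
  have hZC : Zq ≤ C := hZc.trans (center_le_centralizer _)
  have hCcard : Nat.card C = Nat.card Zq * Nat.card (C.map (QuotientGroup.mk' Zq)) := by
    have h := card_eq_card_quotient_mul_card_subgroup (Zq.subgroupOf C)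
    rw [Nat.card_congr (subgroupOfEquivOfLe hZC).toEquiv] at h
    rw [h, mul_comm]
    congr 1
    refine Nat.card_congr ((QuotientGroup.quotientMulEquivOfEq ?_).trans
      (QuotientGroup.quotientKerEquivRange ((QuotientGroup.mk' Zq).comp C.subtype))).toEquiv |>.trans ?_
    · rw [← MonoidHom.comap_ker, QuotientGroup.ker_mk']; rfl
    · rw [MonoidHom.range_comp, range_subtype]
  have hle : Zq ≤ (Q : Subgroup G) ⊓ C := le_inf inf_le_left hZC
  have heq : Zq = (Q : Subgroup G) ⊓ C := by
    refine Subgroup.eq_of_le_of_card_ge hle (Nat.le_of_dvd Nat.card_pos ?_)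
    have hd : Nat.card ((Q : Subgroup G) ⊓ C : Subgroup G) ∣
        Nat.card Zq * Nat.card (C.map (QuotientGroup.mk' Zq)) :=
      hCcard ▸ card_dvd_of_le inf_le_right
    refine Nat.Coprime.dvd_of_dvd_mul_right ?_ hd
    obtain ⟨k, hk⟩ := (isPGroup_inf Q.isPGroup' C).exists_card_eq
    rw [hk]
    exact Nat.Coprime.pow_left _ (hq.out.coprime_iff_not_dvd.2 hf)
  exact heq ▸ hZc

/-- In a nilpotent group the hypothesis of `sylow_center_le` holds. -/
theorem sel_of_nilpotent [Group.IsNilpotent G] (Q : Sylow q G) :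
    ∀ t, Nat.card (sel G (fun k => ¬ q ∣ k)) = Nat.card ((Q : Subgroup G) ⊓ center G : Subgroup G) * t →
      ¬ q ∣ t := by
  haveI hQn : (Q : Subgroup G).Normal := inferInstance
  set C := centralizer ((Q : Subgroup G) : Set G) with hC
  have hsel : sel G (fun k => ¬ q ∣ k) = (C : Set G) := by
    ext x
    show ¬ q ∣ (centralizer ({x} : Set G)).index ↔ x ∈ C
    constructor
    · intro hx
      have h1 := relIndex_dvd_index_of_normal_right (centralizer ({x} : Set G)) (Q : Subgroup G)
      obtain ⟨k, hk⟩ := Q.isPGroup'.index ((centralizer ({x} : Set G)).subgroupOf (Q : Subgroup G))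
      change (centralizer ({x} : Set G)).relIndex (Q : Subgroup G) = _ at hk
      have hk0 : k = 0 := by
        by_contra hk0
        exact hx ((hk ▸ dvd_pow_self q hk0).trans h1)
      rw [hk0, pow_zero, relIndex_eq_one] at hk
      exact mem_centralizer_iff.2 fun g hg => mem_cent.1 (hk hg)
    · intro hx hd
      exact Q.not_dvd_index (hd.trans (index_dvd_of_le fun g hg =>
        mem_cent.2 (mem_centralizer_iff.1 hx g hg)))
  have hQC : (Q : Subgroup G) ⊓ C = (Q : Subgroup G) ⊓ center G := by
    refine le_antisymm (le_inf inf_le_left fun y hy => ?_)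
      (inf_le_inf_left _ (center_le_centralizer _))
    have htop : centralizer ({y} : Set G) = ⊤ := by
      rw [← index_eq_one]
      by_contra hne
      obtain ⟨r, hr, hrd⟩ := Nat.exists_prime_and_dvd hne
      haveI := Fact.mk hr
      obtain ⟨P⟩ : Nonempty (Sylow r G) := inferInstance
      refine P.not_dvd_index (hrd.trans (index_dvd_of_le fun g hg => mem_cent.2 ?_))
      by_cases hrq : r = q
      · subst hrq
        haveI := Q.unique_of_normal hQn
        rw [Subsingleton.elim P Q] at hg
        exact mem_centralizer_iff.1 hy.2 g hg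
      · haveI hPn : (P : Subgroup G).Normal := inferInstance
        exact commute_of_normal_of_disjoint _ _ hPn hQn
          (IsPGroup.disjoint_of_ne _ _ hrq _ _ P.isPGroup' Q.isPGroup') g y hg hy.1
    exact mem_center_iff.2 fun g => mem_cent.1 (htop ▸ mem_top g)
  intro t ht hdt
  rw [hsel, Nat.card_coe_set_eq, ← Nat.card_coe_set_eq] at ht
  change Nat.card C = _ at ht
  have h := relIndex_mul_index (le_refl C)
  have hrel := not_dvd_relIndex Q C
  refine hrel ?_
  have e : (Q : Subgroup G).relIndex C = t := by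
    rw [← inf_relIndex_right, hQC]
    refine Nat.eq_of_mul_eq_mul_left (Nat.card_pos (α := ((Q : Subgroup G) ⊓ center G : Subgroup G))) ?_
    rw [← ht, mul_comm]
    show (((Q : Subgroup G) ⊓ center G).subgroupOf C).index * _ = _
    rw [← Nat.card_congr (subgroupOfEquivOfLe (hQC ▸ inf_le_right : (Q : Subgroup G) ⊓ center G ≤ C)).toEquiv,
      index_mul_card]
  rwa [e]

theorem eq_of_pow_mul {a b u v : ℕ} (ha : ∃ i, a = q ^ i) (hb : ∃ i, b = q ^ i) (hu : ¬ q ∣ u)
    (hv : ¬ q ∣ v) (h : a * u = b * v) : a = b := by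
  obtain ⟨i, rfl⟩ := ha
  obtain ⟨j, rfl⟩ := hb
  refine Nat.dvd_antisymm ?_ ?_
  · exact (Nat.Coprime.pow_left _ (hq.out.coprime_iff_not_dvd.2 hv)).dvd_of_dvd_mul_right (h ▸ dvd_mul_right _ _)
  · exact (Nat.Coprime.pow_left _ (hq.out.coprime_iff_not_dvd.2 hu)).dvd_of_dvd_mul_right (h ▸ dvd_mul_right _ _)

theorem card_inf_center_mul (Q : Sylow q G) :
    Nat.card ((Q : Subgroup G) ⊓ center G : Subgroup G) * (Q : Subgroup G).relIndex (center G) =
      Nat.card (center G) := by
  rw [← inf_relIndex_right, mul_comm]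
  show (((Q : Subgroup G) ⊓ center G).subgroupOf (center G)).index * _ = _
  rw [← Nat.card_congr (subgroupOfEquivOfLe (inf_le_right : (Q : Subgroup G) ⊓ center G ≤ center G)).toEquiv,
    index_mul_card]

theorem center_data {H : Type*} [Group H] [Finite H] (Q : Sylow q G) (R : Sylow q H)
    (hz : Nat.card (center G) = Nat.card (center H)) :
    Nat.card ((Q : Subgroup G) ⊓ center G : Subgroup G) = Nat.card ((R : Subgroup H) ⊓ center H : Subgroup H) ∧
      (Q : Subgroup G).relIndex (center G) = (R : Subgroup H).relIndex (center H) := by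
  have e := (card_inf_center_mul Q).trans (hz.trans (card_inf_center_mul R).symm)
  have e1 := eq_of_pow_mul (isPGroup_inf Q.isPGroup' _).exists_card_eq (isPGroup_inf R.isPGroup' _).exists_card_eq
    (not_dvd_relIndex Q _) (not_dvd_relIndex R _) e
  exact ⟨e1, Nat.eq_of_mul_eq_mul_left Nat.card_pos (e1 ▸ e)⟩

/-- elements of `p`-power class size in a nilpotent group -/
theorem sel_pow_ge [Group.IsNilpotent G] {p : ℕ} [hp : Fact p.Prime] (P : Sylow p G) :
    Nat.card (P : Subgroup G) * (P : Subgroup G).relIndex (center G) ≤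
      Nat.card (sel G (fun k => ∃ j, k = p ^ j)) := by
  haveI hPn : (P : Subgroup G).Normal := inferInstance
  have hsub : (((P : Subgroup G) ⊔ center G : Subgroup G) : Set G) ⊆ sel G (fun k => ∃ j, k = p ^ j) := by
    intro x hx
    obtain ⟨u, hu, z, hz, rfl⟩ := mem_sup_of_normal_right.1 hx
    show ∃ j, _ = p ^ j
    rw [centralizer_mul_central hz]
    refine ⟨_, Nat.eq_prime_pow_of_unique_prime_dvd index_ne_zero_of_finite fun {d} hd hdd => ?_⟩
    by_contra hne
    haveI := Fact.mk hd
    obtain ⟨R⟩ : Nonempty (Sylow d G) := inferInstance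
    haveI hRn : (R : Subgroup G).Normal := inferInstance
    exact R.not_dvd_index (hdd.trans (index_dvd_of_le fun g hg => mem_cent.2
      (commute_of_normal_of_disjoint _ _ hRn hPn
        (IsPGroup.disjoint_of_ne _ _ hne _ _ R.isPGroup' P.isPGroup') g u hg hu)))
  refine le_trans (le_of_eq ?_) (Nat.card_mono (Set.toFinite _) hsub)
  show _ = Nat.card ((P : Subgroup G) ⊔ center G : Subgroup G)
  have h := relIndex_mul_relIndex (⊥ : Subgroup G) (P : Subgroup G) ((P : Subgroup G) ⊔ center G) bot_le le_sup_left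
  rw [relIndex_bot_left, relIndex_bot_left, relIndex_sup_left] at h
  exact h

/-- The theorem of Cossey, Hawkes and Mann. -/
theorem nilpotent_of_frequencies {H : Type*} [Group H] [Finite H] (hH : Group.IsNilpotent H)
    (h : ∀ k : ℕ, Nat.card {C : ConjClasses G // Nat.card C.carrier = k} =
      Nat.card {C : ConjClasses H // Nat.card C.carrier = k}) :
    Group.IsNilpotent G := by
  classical
  haveI := hH
  have hord : Nat.card G = Nat.card H := by
    have := card_sel_eq h (fun _ => True)
    rwa [show sel G (fun _ => True) = Set.univ from Set.eq_univ_of_forall fun _ => trivial,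
      show sel H (fun _ => True) = Set.univ from Set.eq_univ_of_forall fun _ => trivial,
      Nat.card_univ, Nat.card_univ] at this
  have hz : Nat.card (center G) = Nat.card (center H) := by
    have := card_sel_eq h (fun k => k = 1)
    rwa [sel_one, sel_one] at this
  -- central Sylow centres
  have hcen : ∀ (r : ℕ) [Fact r.Prime] (Q : Sylow r G),
      (Q : Subgroup G) ⊓ centralizer ((Q : Subgroup G) : Set G) ≤ center G := by
    intro r _ Q
    obtain ⟨R⟩ : Nonempty (Sylow r H) := inferInstance
    refine sylow_center_le Q fun t ht => sel_of_nilpotent R t ?_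
    rw [← card_sel_eq h, ht, (center_data Q R hz).1]
  refine (Group.isNilpotent_of_finite_tfae.out 0 3 rfl rfl).2 fun p hp P => ?_
  haveI := hp
  set N := (P : Subgroup G).normalCore with hN
  have hPc : (P : Subgroup G) ⊓ center G ≤ N := by
    haveI : ((P : Subgroup G) ⊓ center G).Normal := ⟨fun n hn g => by
      rw [mem_center_iff.1 hn.2 g, mul_inv_cancel_right]; exact hn⟩
    exact Subgroup.normal_le_normalCore.2 inf_le_left
  -- `p`-elements of `p`-power class size lie in every Sylow `p`-subgroup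
  have hu : ∀ u : G, (∃ k, orderOf u = p ^ k) → (∃ j, (centralizer ({u} : Set G)).index = p ^ j) → u ∈ N := by
    intro u ⟨k, hk⟩ ⟨j, hj⟩
    set C := centralizer ({u} : Set G)
    obtain ⟨P₀⟩ : Nonempty (Sylow p C) := inferInstance
    have hu₀ : (⟨u, mem_cent.2 rfl⟩ : C) ∈ (P₀ : Subgroup C) := by
      refine sup_eq_left.1 (P₀.is_maximal' (Q := (P₀ : Subgroup C) ⊔ zpowers _) ?_ le_sup_left) (mem_zpowers _)
      haveI : (zpowers (⟨u, mem_cent.2 rfl⟩ : C)).Normal := ⟨fun n hn g => by
        obtain ⟨i, rfl⟩ := mem_zpowers_iff.1 hn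
        have hc : Commute g (⟨u, mem_cent.2 rfl⟩ : C) := Subtype.ext (mem_cent.1 g.2)
        rw [(hc.zpow_right i).eq, mul_inv_cancel_right]
        exact hn⟩
      refine P₀.isPGroup'.to_sup_of_normal_right (IsPGroup.of_card (n := k) ?_)
      rw [Nat.card_zpowers, Subgroup.orderOf_mk, hk]
    obtain ⟨P₁, hP₁⟩ := (P₀.isPGroup'.map C.subtype).exists_le_sylow
    -- `G = C P₁`
    have hsurj : ∀ g : G, ∃ x ∈ (P₁ : Subgroup G), x⁻¹ * g ∈ C := by
      let f : (P₁ : Subgroup G) ⧸ C.subgroupOf P₁ → G ⧸ C :=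
        Quotient.map' Subtype.val fun a b hab => by
          rw [QuotientGroup.leftRel_apply] at hab ⊢
          exact hab
      have hinj : Function.Injective f := by
        intro a b
        induction a using Quotient.inductionOn'
        induction b using Quotient.inductionOn'
        intro hab
        exact QuotientGroup.eq.2 (QuotientGroup.eq.1 hab : _ ∈ C)
      have hcard : Nat.card ((P₁ : Subgroup G) ⧸ C.subgroupOf P₁) = Nat.card (G ⧸ C) := by
        refine le_antisymm (Nat.card_le_card_of_injective f hinj) ?_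
        rw [← index_eq_card, ← index_eq_card]
        show C.index ≤ C.relIndex (P₁ : Subgroup G)
        have h0 : Nat.card ((C ⊓ P₁ : Subgroup G)) ∣ Nat.card (P₀ : Subgroup C) := by
          have hp' : IsPGroup p ((C ⊓ P₁ : Subgroup G).subgroupOf C) :=
            (P₁.isPGroup'.to_le inf_le_right).comap_of_injective C.subtype C.subtype_injective
          obtain ⟨P₂, hP₂⟩ := hp'.exists_le_sylow
          rw [P₀.card_eq_multiplicity, ← P₂.card_eq_multiplicity,
            ← Nat.card_congr (subgroupOfEquivOfLe (inf_le_left : C ⊓ (P₁ : Subgroup G) ≤ C)).toEquiv]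
          exact card_dvd_of_le hP₂
        have h1 : Nat.card (C ⊓ P₁ : Subgroup G) * C.relIndex (P₁ : Subgroup G) = Nat.card (P₁ : Subgroup G) := by
          have := relIndex_mul_relIndex (⊥ : Subgroup G) (C ⊓ P₁) (P₁ : Subgroup G) bot_le inf_le_right
          rwa [relIndex_bot_left, relIndex_bot_left, inf_relIndex_right] at this
        have h2 : Nat.card (P₁ : Subgroup G) = Nat.card (P₀ : Subgroup C) * C.index := by
          rw [P₁.card_eq_multiplicity, P₀.card_eq_multiplicity, ← C.card_mul_index,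
            Nat.factorization_mul Nat.card_pos.ne' index_ne_zero_of_finite, Finsupp.add_apply, pow_add, hj,
            Nat.Prime.factorization_pow hp.out, Finsupp.single_eq_same]
        refine Nat.le_of_mul_le_mul_left ?_ (Nat.card_pos (α := (P₀ : Subgroup C)))
        rw [← h2, ← h1]
        exact Nat.mul_le_mul_right _ (Nat.le_of_dvd Nat.card_pos h0)
      intro g
      obtain ⟨q', hq'⟩ := ((Nat.bijective_iff_injective_and_card f).2 ⟨hinj, hcard⟩).2 g
      induction q' using Quotient.inductionOn' with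
      | h x => exact ⟨x, x.2, QuotientGroup.eq.1 hq'⟩
    have huP₁ : u ∈ (P₁ : Subgroup G) := hP₁ ⟨⟨u, mem_cent.2 rfl⟩, hu₀, rfl⟩
    have hcore1 : u ∈ (P₁ : Subgroup G).normalCore := by
      intro b
      obtain ⟨x, hx, hxC⟩ := hsurj b
      have e : b * u * b⁻¹ = x * u * x⁻¹ := by
        calc b * u * b⁻¹ = x * (x⁻¹ * b * u) * (x⁻¹ * b)⁻¹ * x⁻¹ := by group
          _ = x * (u * (x⁻¹ * b)) * (x⁻¹ * b)⁻¹ * x⁻¹ := by rw [mem_cent.1 hxC]
          _ = x * u * x⁻¹ := by group
      rw [e]
      exact mul_mem (mul_mem hx huP₁) (inv_mem hx)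
    obtain ⟨g, hg⟩ := MulAction.exists_smul_eq G P₁ P
    rw [hN]
    refine (Subgroup.normal_le_normalCore (H := (P : Subgroup G)) (N := (P₁ : Subgroup G).normalCore)).2
      (fun y hy => ?_) hcore1
    rw [← hg, Sylow.coe_subgroup_smul, mem_pointwise_smul_iff_inv_smul_mem]
    show (MulAut.conj g)⁻¹ • y ∈ _
    rw [← map_inv, MulAut.smul_def, MulAut.conj_apply]
    exact hy g⁻¹
  -- elements of `p`-power class size
  have hsub : sel G (fun k => ∃ j, k = p ^ j) ⊆ ((N ⊔ center G : Subgroup G) : Set G) := by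
    intro x ⟨j, hj⟩
    obtain ⟨e, m, hm, hxo⟩ := Nat.exists_eq_pow_mul_and_not_dvd (orderOf_pos x).ne' p hp.out.ne_one
    have hdvd : ∀ i : ℕ, (centralizer ({x ^ i} : Set G)).index ∣ p ^ j := fun i => hj ▸ index_dvd_of_le
      fun g hg => mem_cent.2 (((show Commute g x from mem_cent.1 hg)).pow_right i).eq
    have h1 : x ^ m ∈ N := by
      obtain ⟨i, -, hi⟩ := (Nat.dvd_prime_pow hp.out).1 (hdvd m)
      refine hu _ ?_ ⟨i, hi⟩
      obtain ⟨l, -, hl⟩ := (Nat.dvd_prime_pow hp.out).1 (orderOf_dvd_of_pow_eq_one (x := x ^ m) (n := p ^ e)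
        (by rw [← pow_mul, mul_comm, ← hxo, pow_orderOf_eq_one]))
      exact ⟨l, hl⟩
    have h2 : x ^ p ^ e ∈ center G := by
      set w := x ^ p ^ e with hw
      rw [← QuotientGroup.eq_one_iff, ← orderOf_eq_one_iff]
      by_contra hne
      obtain ⟨r, hr, hrd⟩ := Nat.exists_prime_and_dvd hne
      haveI := Fact.mk hr
      have hwm : orderOf w ∣ m := orderOf_dvd_of_pow_eq_one (by
        rw [hw, ← pow_mul, ← hxo, pow_orderOf_eq_one])
      have hrw : orderOf (w : G ⧸ center G) ∣ orderOf w :=
        orderOf_map_dvd (QuotientGroup.mk' (center G)) w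
      have hrp : r ≠ p := fun he => hm (he ▸ (hrd.trans (hrw.trans hwm)))
      obtain ⟨a, b, hb, hwo⟩ := Nat.exists_eq_pow_mul_and_not_dvd (orderOf_pos w).ne' r hr.ne_one
      set v := w ^ b with hv
      obtain ⟨i, -, hi⟩ := (Nat.dvd_prime_pow hp.out).1 (hv ▸ hw ▸ (pow_mul x (p ^ e) b).symm ▸ hdvd (p ^ e * b))
      -- a Sylow subgroup centralizing `v`
      obtain ⟨R₀⟩ : Nonempty (Sylow r (centralizer ({v} : Set G))) := inferInstance
      obtain ⟨R, hR⟩ := (R₀.isPGroup'.map (centralizer ({v} : Set G)).subtype).exists_le_sylow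
      have hReq : (R₀ : Subgroup _).map (centralizer ({v} : Set G)).subtype = R := by
        refine Subgroup.eq_of_le_of_card_ge hR (le_of_eq ?_)
        rw [card_map_of_injective (Subgroup.subtype_injective _), R.card_eq_multiplicity,
          R₀.card_eq_multiplicity, ← (centralizer ({v} : Set G)).card_mul_index,
          Nat.factorization_mul Nat.card_pos.ne' index_ne_zero_of_finite, Finsupp.add_apply, hi,
          Nat.Prime.factorization_pow hp.out, Finsupp.single_eq_of_ne hrp, add_zero]
      have hvR : v ∈ centralizer ((R : Subgroup G) : Set G) := mem_centralizer_iff.2 fun g hg => by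
        rw [← hReq] at hg
        obtain ⟨g', -, rfl⟩ := hg
        exact mem_cent.1 g'.2
      have hvr : IsPGroup r (zpowers v) := by
        obtain ⟨l, -, hl⟩ := (Nat.dvd_prime_pow hr).1 (orderOf_dvd_of_pow_eq_one (x := v) (n := r ^ a)
          (by rw [hv, ← pow_mul, mul_comm, ← hwo, pow_orderOf_eq_one]))
        exact IsPGroup.of_card (n := l) (by rw [Nat.card_zpowers, hl])
      have hvmem : v ∈ (R : Subgroup G) := by
        refine sup_eq_left.1 (R.is_maximal' (Q := (R : Subgroup G) ⊔ zpowers v) ?_ le_sup_left) (mem_zpowers _)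
        refine R.isPGroup'.to_sup_of_normal_left' hvr ?_
        exact zpowers_le.2 (centralizer_le_normalizer _ hvR)
      have hvz : v ∈ center G := hcen r R ⟨hvmem, hvR⟩
      have : orderOf (w : G ⧸ center G) ∣ b := orderOf_dvd_of_pow_eq_one (by
        rw [← QuotientGroup.mk_pow, QuotientGroup.eq_one_iff]; exact hvz)
      exact hb (hrd.trans this)
    obtain ⟨s, t, hst⟩ : IsCoprime ((p ^ e : ℕ) : ℤ) (m : ℤ) :=
      Nat.isCoprime_iff_coprime.2 (Nat.Coprime.pow_left _ (hp.out.coprime_iff_not_dvd.2 hm))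
    have : x = (x ^ p ^ e) ^ s * (x ^ m) ^ t := by
      rw [← zpow_natCast x (p ^ e), ← zpow_natCast x m, ← zpow_mul, ← zpow_mul, ← zpow_add, mul_comm,
        mul_comm (m : ℤ), hst, zpow_one]
    rw [this]
    exact mul_mem (mem_sup_right (zpow_mem h2 s)) (mem_sup_left (zpow_mem h1 t))
  obtain ⟨P'⟩ : Nonempty (Sylow p H) := inferInstance
  have hge := sel_pow_ge P'
  rw [← card_sel_eq h, ← (center_data P P' hz).2] at hge
  have hPP : Nat.card (P' : Subgroup H) = Nat.card (P : Subgroup G) := by
    rw [P.card_eq_multiplicity, P'.card_eq_multiplicity, hord]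
  rw [hPP] at hge
  have hle := hge.trans (Nat.card_mono (Set.toFinite _) hsub)
  have hcardN : Nat.card (N ⊔ center G : Subgroup G) = Nat.card N * (P : Subgroup G).relIndex (center G) := by
    have h := relIndex_mul_relIndex (⊥ : Subgroup G) N (N ⊔ center G) bot_le le_sup_left
    rw [relIndex_bot_left, relIndex_bot_left, relIndex_sup_left] at h
    rw [← h]
    congr 1
    rw [← inf_relIndex_right N, ← inf_relIndex_right (P : Subgroup G)]
    congr 1
    exact le_antisymm (inf_le_inf_right _ (normalCore_le _)) (le_inf hPc inf_le_right)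
  change _ ≤ Nat.card (N ⊔ center G : Subgroup G) at hle
  rw [hcardN] at hle
  have hpos : 0 < (P : Subgroup G).relIndex (center G) :=
    Nat.pos_of_ne_zero fun h0 => not_dvd_relIndex P (center G) (h0 ▸ dvd_zero p)
  rw [← Subgroup.eq_of_le_of_card_ge (normalCore_le _) (Nat.le_of_mul_le_mul_right hle hpos)]
  exact normalCore_normal _

end Cfsg.Agent.Frequencies
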