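import Cfsg.Agent.EqLemmas
import Cfsg.Agent.Lib.ClassGraph.MaxClass
import Cfsg.Agent.Lib.ClassGraph.Disconnected
import Cfsg.Agent.Lib.ClassIndex.Frequencies
import Cfsg.Agent.Lib.Transfer.Criteria
import Cfsg.Agent.Lib.Solvable.SylowSystem

/-!
# The two largest class sizes are coprime (owner: helper75)

If the two largest class sizes `m > n > 1` are coprime, attained at `y` and `x`, then the two
centralizers are abelian and `G / Z(G)` is Frobenius with kernel from `C(x)` and complement from `C(y)`.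
-/

set_option autoImplicit false

open Subgroup
open scoped commutatorElement Pointwise

namespace Cfsg.Agent.TwoLargest

open Cfsg.Agent.ClassGraph (sz stab sgen cls mem_stab stab_le_centralizer comm_mem_stab)

variable {G : Type*} [Group G] [Finite G]

local notation "cent" x:max => Subgroup.centralizer ({x} : Set _)

omit [Finite G] in
theorem mem_cent {g x : G} : g ∈ cent x ↔ g * x = x * g := mem_centralizer_singleton_iff

omit [Finite G] in
theorem sz_eq_one_iff {g : G} : sz g = 1 ↔ g ∈ center G := by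
  rw [sz, index_eq_one, centralizer_eq_top_iff_subset, Set.singleton_subset_iff, SetLike.mem_coe]

omit [Finite G] in
theorem sz_dvd_of_le {a b : G} (h : cent a ≤ cent b) : sz b ∣ sz a := index_dvd_of_le h

theorem cent_eq_of_le {a b : G} (h : cent a ≤ cent b) (hs : sz a ≤ sz b) : cent a = cent b := by
  refine Subgroup.eq_of_le_of_card_ge h ?_
  have e1 := (cent a).card_mul_index
  have e2 := (cent b).card_mul_index
  have hpos : 0 < (cent a).index := Nat.pos_of_ne_zero index_ne_zero_of_finite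
  refine Nat.le_of_mul_le_mul_right ?_ hpos
  calc Nat.card (cent b) * (cent a).index ≤ Nat.card (cent b) * (cent b).index := Nat.mul_le_mul_left _ hs
    _ = Nat.card (cent a) * (cent a).index := e2.trans e1.symm

theorem cent_mul_central {a z : G} (hz : z ∈ center G) : cent (a * z) = cent a :=
  Frequencies.centralizer_mul_central hz

omit [Finite G] in
theorem cent_le_of_mem {a b : G} (h : b ∈ zpowers a) : cent a ≤ cent b := by
  obtain ⟨i, rfl⟩ := mem_zpowers_iff.1 h
  exact fun g hg => mem_cent.2 ((show Commute g a from mem_cent.1 hg).zpow_right i).eq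

theorem cent_mul_coprime {a b : G} (h : Commute a b) (hco : (orderOf a).Coprime (orderOf b)) :
    cent (a * b) ≤ cent a ∧ cent (a * b) ≤ cent b := by
  refine ⟨cent_le_of_mem ?_, cent_le_of_mem ?_⟩
  · rw [h.eq]; exact Disconnected_mem_zpowers h.symm hco.symm
  · exact Disconnected_mem_zpowers h hco
where
  Disconnected_mem_zpowers {v y : G} (h : Commute v y) (hco : (orderOf v).Coprime (orderOf y)) :
      y ∈ zpowers (v * y) := by
    refine Transfer.mem_of_pow_mem_of_coprime hco ?_ (by rw [pow_orderOf_eq_one]; exact one_mem _)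
    have h2 : (v * y) ^ orderOf v ∈ zpowers (v * y) := pow_mem (mem_zpowers _) _
    rwa [h.mul_pow, pow_orderOf_eq_one, one_mul] at h2

omit [Finite G] in
theorem mem_cls_self (a : G) : a ∈ cls a := ⟨1, by group⟩

theorem sz_of_mem_cls {a b : G} (h : b ∈ cls a) : sz b = sz a := by
  obtain ⟨c, rfl⟩ := h; exact ClassGraph.sz_conj c a

/-- the product of two classes of coprime sizes is one class -/
theorem conj_prod {g h : G} (hco : (sz g).Coprime (sz h)) (a b : G) :
    a * g * a⁻¹ * (b * h * b⁻¹) ∈ cls (g * h) := by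
  obtain ⟨k, hk, c, hc, hkc⟩ := Solvable.exists_mul_of_coprime_index
    (H := cent h) (K := cent g) hco.symm (a⁻¹ * b)
  refine ⟨a * k, ?_⟩
  have e1 : k * g * k⁻¹ = g := by rw [mem_cent.1 hk, mul_inv_cancel_right]
  have e2 : a * k = b * c⁻¹ := by
    rw [← mul_inv_cancel_left a b, hkc]; group
  have e3 : c⁻¹ * h * c = h := by rw [mul_assoc, ← mem_cent.1 hc, inv_mul_cancel_left]
  calc a * k * (g * h) * (a * k)⁻¹ = a * (k * g * k⁻¹) * a⁻¹ * (a * k * h * (a * k)⁻¹) := by group
    _ = a * g * a⁻¹ * (b * (c⁻¹ * h * c) * b⁻¹) := by rw [e1, e2]; group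
    _ = a * g * a⁻¹ * (b * h * b⁻¹) := by rw [e3]

theorem le_sz_mul_right {g h : G} (hco : (sz g).Coprime (sz h)) : sz h ≤ sz (g * h) := by
  rw [← ClassGraph.ncard_cls, ← ClassGraph.ncard_cls]
  refine Set.ncard_le_ncard_of_injOn (fun y => g * y) ?_ (fun y _ y' _ e => mul_left_cancel e) (Set.toFinite _)
  rintro - ⟨b, rfl⟩
  simpa using conj_prod hco 1 b

theorem le_sz_mul_left {g h : G} (hco : (sz g).Coprime (sz h)) : sz g ≤ sz (g * h) := by
  rw [← ClassGraph.ncard_cls, ← ClassGraph.ncard_cls]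
  refine Set.ncard_le_ncard_of_injOn (fun y => y * h) ?_ (fun y _ y' _ e => mul_right_cancel e) (Set.toFinite _)
  rintro - ⟨a, rfl⟩
  simpa using conj_prod hco a 1

/-- if the product class is no larger than that of `h`, commutators of `g` translate the class of `h` -/
theorem trans_mem {g h : G} (hco : (sz g).Coprime (sz h)) (hle : sz (g * h) ≤ sz h) (a : G) :
    g⁻¹ * (a * g * a⁻¹) ∈ stab h := by
  have himg : (fun y => g * y) '' cls h = cls (g * h) := by
    refine Set.eq_of_subset_of_ncard_le ?_ ?_ (Set.toFinite _)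
    · rintro - ⟨y, ⟨b, rfl⟩, rfl⟩
      simpa using conj_prod hco 1 b
    · rw [Set.ncard_image_of_injective _ (mul_right_injective g), ClassGraph.ncard_cls, ClassGraph.ncard_cls]
      exact hle
  rw [mem_stab]
  rintro - ⟨b, rfl⟩
  obtain ⟨y, hy, hye⟩ := himg.ge (conj_prod hco a b)
  have e : g⁻¹ * (a * g * a⁻¹) * (b * h * b⁻¹) = y := by
    rw [mul_assoc g⁻¹, ← hye]; exact inv_mul_cancel_left g y
  rw [e]; exact hy

/-- an element with commutators in `stab a`, of class size prime to that of `a` -/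
theorem pow_card_stab_mem_center {g a : G} (hco : (sz g).Coprime (sz a))
    (h : ∀ c, g⁻¹ * (c * g * c⁻¹) ∈ stab a) : g ^ Nat.card (stab a) ∈ center G := by
  rw [mem_center_iff]
  intro c
  set t := g⁻¹ * (c * g * c⁻¹) with ht
  have hgt : Commute g t := (mem_cent.1 (stab_le_centralizer hco (h c))).symm
  have e : c * g * c⁻¹ = g * t := by rw [ht, mul_inv_cancel_left]
  have e2 : (c * g * c⁻¹) ^ Nat.card (stab a) = g ^ Nat.card (stab a) := by
    rw [e, hgt.mul_pow]
    have : t ^ Nat.card (stab a) = 1 :=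
      orderOf_dvd_iff_pow_eq_one.1 (Subgroup.orderOf_dvd_natCard _ (h c))
    rw [this, mul_one]
  rw [conj_pow] at e2
  exact mul_inv_eq_iff_eq_mul.1 e2

theorem eq_one_of_mem_coprime {A B : Subgroup G} {t : G} (hA : t ∈ A) (hB : t ∈ B)
    (hco : (Nat.card A).Coprime (Nat.card B)) : t = 1 :=
  orderOf_eq_one_iff.1 (Nat.eq_one_of_dvd_coprimes hco (Subgroup.orderOf_dvd_natCard _ hA)
    (Subgroup.orderOf_dvd_natCard _ hB))

theorem mem_center_of_pow {g : G} {a : ℕ} (ha : g ^ a ∈ center G) (hco : a.Coprime (orderOf g)) :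
    g ∈ center G :=
  Transfer.mem_of_pow_mem_of_coprime hco ha (by rw [pow_orderOf_eq_one]; exact one_mem _)

/-- The hypotheses. -/
structure Data (n m : ℕ) (x y : G) : Prop where
  hn : 1 < n
  hmn : n < m
  hcop : m.Coprime n
  top : ∀ z : G, sz z ≤ m
  second : ∀ z : G, sz z < m → sz z ≤ n
  hx : sz x = n
  hy : sz y = m

variable {n m : ℕ} {x y : G}

theorem Data.hmax (hD : Data n m x y) : ∀ g : G, sz g ≤ sz y := fun g => hD.hy.symm ▸ hD.top g

theorem Data.not_dvd (hD : Data n m x y) : ¬ n ∣ m := fun h =>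
  absurd (Nat.eq_one_of_dvd_coprimes hD.hcop h dvd_rfl) (by have := hD.hn; omega)

theorem Data.x_noncentral (hD : Data n m x y) : x ∉ center G := fun h => by
  have h1 := sz_eq_one_iff.2 h
  have h2 := hD.hn
  rw [hD.hx] at h1
  omega

/-- an abelian normal subgroup translating every class of size `m` -/
def coreM (m : ℕ) (y : G) : Subgroup G := sgen y ⊓ ⨅ g : {g : G // sz g = m}, stab g.1

instance coreM_normal : (coreM m y).Normal := by
  haveI : (⨅ g : {g : G // sz g = m}, stab g.1).Normal := normal_iInf_normal fun g => inferInstance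
  exact inferInstanceAs (sgen y ⊓ _).Normal

theorem coreM_comm (hD : Data n m x y) {a b : G} (ha : a ∈ coreM m y) (hb : b ∈ sgen y) : a * b = b * a :=
  ClassGraph.sgen_abelian hD.hmax ha.1 hb

theorem card_coreM (hD : Data n m x y) : Nat.card (coreM m y) ∣ m := by
  refine dvd_trans (card_dvd_of_le ?_) (hD.hy ▸ ClassGraph.card_stab_dvd y)
  exact inf_le_right.trans (iInf_le (fun g : {g : G // sz g = m} => stab g.1) ⟨y, hD.hy⟩)

theorem coreM_translate {g t : G} (hg : sz g = m) (ht : t ∈ coreM m y) : t * g ∈ cls g :=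
  mem_stab.1 (((iInf_le (fun g : {g : G // sz g = m} => stab g.1) ⟨g, hg⟩)) ht.2) g (mem_cls_self g)

theorem Data.commutator_mem (hD : Data n m x y) (a : G) : x⁻¹ * (a * x * a⁻¹) ∈ coreM m y := by
  have hco : (sz x).Coprime (sz y) := by rw [hD.hx, hD.hy]; exact hD.hcop.symm
  have hxs : x ∈ sgen y := ClassGraph.mem_sgen hco
  refine ⟨(sgen y).mul_mem ((sgen y).inv_mem hxs) ((ClassGraph.sgen_normal y).conj_mem x hxs a),
    Subgroup.mem_iInf.2 ?_⟩
  rintro ⟨g, hg⟩
  exact comm_mem_stab (fun z => hg.symm ▸ hD.top z) (by rw [hD.hx, hg]; exact hD.hcop.symm) a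

/-- Up to the centre, `x` lies in `coreM`. -/
theorem Data.exists_u (hD : Data n m x y) :
    ∃ u ∈ coreM m y, sz u = n ∧ cent u = cent x ∧ u ∉ center G := by
  classical
  have hco : (sz x).Coprime (sz y) := by rw [hD.hx, hD.hy]; exact hD.hcop.symm
  have hxs : x ∈ sgen y := ClassGraph.mem_sgen hco
  set M := coreM m y with hM
  set S := sgen y with hS
  letI : CommGroup S := { (inferInstance : Group S) with
    mul_comm := fun g h => Subtype.ext (ClassGraph.sgen_abelian hD.hmax g.2 h.2) }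
  haveI : Fintype (cls x) := Fintype.ofFinite _
  have hmemS : ∀ w ∈ cls x, w ∈ S := by
    rintro - ⟨a, rfl⟩; exact (ClassGraph.sgen_normal y).conj_mem x hxs a
  let P : S := ∏ w : cls x, ⟨w.1, hmemS w.1 w.2⟩
  have hPc : (P : G) ∈ center G := by
    rw [mem_center_iff]
    intro a
    let c : S →* S :=
      { toFun := fun s => ⟨a * s * a⁻¹, (ClassGraph.sgen_normal y).conj_mem s s.2 a⟩
        map_one' := Subtype.ext (by simp)
        map_mul' := fun s t => Subtype.ext (by
          show a * (s * t : G) * a⁻¹ = a * s * a⁻¹ * (a * t * a⁻¹)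
          group) }
    let e : cls x ≃ cls x :=
      { toFun := fun w => ⟨a * w.1 * a⁻¹, ClassGraph.cls_conj w.2 a⟩
        invFun := fun w => ⟨a⁻¹ * w.1 * a, by simpa using ClassGraph.cls_conj w.2 a⁻¹⟩
        left_inv := fun w => Subtype.ext (by simp [mul_assoc])
        right_inv := fun w => Subtype.ext (by simp [mul_assoc]) }
    have h : c P = P := by
      show c (∏ w : cls x, _) = _
      rw [map_prod]
      exact Fintype.prod_equiv e _ _ fun w => rfl
    exact mul_inv_eq_iff_eq_mul.1 (congrArg Subtype.val h)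
  have hPn : (P : G)⁻¹ * x ^ n ∈ M := by
    let f : S →* S ⧸ M.subgroupOf S := QuotientGroup.mk' (M.subgroupOf S)
    have hf : f P = f (⟨x, hxs⟩ ^ n) := by
      show f (∏ w : cls x, _) = _
      rw [map_prod, map_pow, show n = Fintype.card (cls x) by
        rw [← Nat.card_eq_fintype_card, Nat.card_coe_set_eq, ClassGraph.ncard_cls, hD.hx],
        ← Finset.card_univ, ← Finset.prod_const]
      refine Finset.prod_congr rfl fun w _ => ?_
      obtain ⟨a, ha⟩ := w.2
      rw [eq_comm]
      refine QuotientGroup.eq.2 ?_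
      show x⁻¹ * w.1 ∈ M
      rw [← ha]
      exact hD.commutator_mem a
    have h3 := QuotientGroup.eq.1 (show ((P : S) : S ⧸ M.subgroupOf S) = ((⟨x, hxs⟩ ^ n : S) : S ⧸ M.subgroupOf S) from hf)
    simpa [mem_subgroupOf] using h3
  have h1 : x ^ n ∈ M ⊔ center G := by
    have := mul_mem (mem_sup_right (S := M) hPc) (mem_sup_left (T := center G) hPn)
    rwa [mul_inv_cancel_left] at this
  have h2 : x ^ Nat.card M ∈ M ⊔ center G := by
    refine mem_sup_right ?_
    rw [mem_center_iff]
    intro a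
    set t := x⁻¹ * (a * x * a⁻¹) with ht
    have htM : t ∈ M := hD.commutator_mem a
    have hxt : Commute x t := (coreM_comm hD htM hxs).symm
    have e2 : (a * x * a⁻¹) ^ Nat.card M = x ^ Nat.card M := by
      rw [show a * x * a⁻¹ = x * t by rw [ht, mul_inv_cancel_left], hxt.mul_pow,
        orderOf_dvd_iff_pow_eq_one.1 (Subgroup.orderOf_dvd_natCard _ htM), mul_one]
    rw [conj_pow] at e2
    exact mul_inv_eq_iff_eq_mul.1 e2
  have hx' : x ∈ M ⊔ center G := Transfer.mem_of_pow_mem_of_coprime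
    (Nat.Coprime.coprime_dvd_right (card_coreM hD) hD.hcop.symm) h1 h2
  obtain ⟨u, hu, z, hz, hxz⟩ := mem_sup_of_normal_right.1 hx'
  have hc : cent u = cent x := by rw [← hxz, cent_mul_central hz]
  have hsu : sz u = n := by
    rw [← hD.hx]; show (cent u).index = (cent x).index; rw [hc]
  exact ⟨u, hu, hsu, hc, fun h => by
    have := sz_eq_one_iff.2 h
    have := hD.hn
    omega⟩

/-- the same, with `u` fixed -/
structure DataU (n m : ℕ) (x y u : G) : Prop extends Data n m x y where
  hu : u ∈ coreM m y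
  hsu : sz u = n
  hcu : Subgroup.centralizer ({u} : Set G) = Subgroup.centralizer ({x} : Set G)
  hunc : u ∉ center G

variable {u : G}

theorem DataU.orderOf_u (hD : DataU n m x y u) : orderOf u ∣ m :=
  (Subgroup.orderOf_dvd_natCard _ hD.hu).trans (card_coreM hD.toData)

/-- no class size strictly between `1` and `m` is prime to `n` -/
theorem DataU.eq_m (hD : DataU n m x y u) {h : G} (hco : (sz h).Coprime n) (h1 : sz h ≠ 1) : sz h = m := by
  by_contra hm
  have hlt : sz h < m := lt_of_le_of_ne (hD.top h) hm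
  have hco' : (sz u).Coprime (sz h) := by rw [hD.hsu]; exact hco.symm
  have hL : sz (u * h) ≠ m := fun hL => by
    refine hm ?_
    have := coreM_translate (y := y) hL (inv_mem hD.hu)
    rw [inv_mul_cancel_left] at this
    rw [sz_of_mem_cls this, hL]
  have hLn : sz (u * h) = n := by
    refine le_antisymm (hD.second _ (lt_of_le_of_ne (hD.top _) hL)) ?_
    rw [← hD.hsu]; exact le_sz_mul_left hco'
  have hhu : sz (h * u) = n := by
    rw [← hLn, show u * h = u * (h * u) * u⁻¹ by group, ClassGraph.sz_conj]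
  have hst : ∀ c, h⁻¹ * (c * h * c⁻¹) ∈ stab u := trans_mem hco'.symm (by rw [hhu, hD.hsu])
  have hdn : Nat.card (stab u) ∣ n := hD.hsu ▸ ClassGraph.card_stab_dvd u
  have hcop : (Nat.card (stab u)).Coprime (Nat.card (coreM m y)) :=
    (hD.hcop.symm.coprime_dvd_left hdn).coprime_dvd_right (card_coreM hD.toData)
  have hcomm : Commute h u := by
    have h2 : h⁻¹ * (u * h * u⁻¹) ∈ coreM m y := by
      rw [show h⁻¹ * (u * h * u⁻¹) = h⁻¹ * u * h * u⁻¹ by group]
      exact mul_mem (by simpa using coreM_normal.conj_mem u hD.hu h⁻¹) (inv_mem hD.hu)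
    have e := eq_one_of_mem_coprime (hst u) h2 hcop
    rw [inv_mul_eq_one, eq_comm, mul_inv_eq_iff_eq_mul] at e
    exact e.symm
  set k := Nat.card (stab u)
  have hk : h ^ k ∈ center G := pow_card_stab_mem_center hco'.symm hst
  have hle : cent (u * h) ≤ cent u := by
    have h3 : u ∈ zpowers (u ^ k) := Transfer.mem_of_pow_mem_of_coprime
      (a := k) (b := orderOf u) ((hD.hcop.symm.coprime_dvd_left hdn).coprime_dvd_right hD.orderOf_u)
      (mem_zpowers _) (by rw [pow_orderOf_eq_one]; exact one_mem _)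
    refine le_trans ?_ (cent_le_of_mem h3)
    rw [← cent_mul_central (a := u ^ k) hk, ← hcomm.symm.mul_pow]
    exact cent_le_of_mem (pow_mem (mem_zpowers _) k)
  have heq := cent_eq_of_le hle (by rw [hLn, hD.hsu])
  have hle2 : cent u ≤ cent h := fun g hg => by
    have h2 := heq.ge hg
    refine mem_cent.2 ?_
    have e1 : Commute g (u * h) := mem_cent.1 h2
    have e2 : Commute g u := mem_cent.1 hg
    have := e2.inv_right.mul_right e1
    rwa [inv_mul_cancel_left] at this
  exact h1 (Nat.eq_one_of_dvd_coprimes hco dvd_rfl (hD.hsu ▸ sz_dvd_of_le hle2))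

theorem DataU.eq_m_of_dvd (hD : DataU n m x y u) {h : G} (hd : sz h ∣ m) (hz : h ∉ center G) : sz h = m :=
  hD.eq_m (hD.hcop.coprime_dvd_left hd) fun h1 => hz (sz_eq_one_iff.1 h1)

/-- Commuting elements of coprime orders, one of class size `m`. -/
theorem DataU.le_of_m (hD : DataU n m x y u) {g h : G} (hg : sz g = m) (hgh : Commute g h)
    (hco : (orderOf g).Coprime (orderOf h)) : cent g ≤ cent h := by
  obtain ⟨h1, h2⟩ := cent_mul_coprime hgh hco
  rw [← cent_eq_of_le h1 (by rw [hg]; exact hD.top _)]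
  exact h2

/-- A prime power element with prime not dividing `m` commuting with `u` is central. -/
theorem DataU.central_of_commute_u (hD : DataU n m x y u) {d : G} {q j : ℕ} (hq : q.Prime) (hqm : ¬ q ∣ m)
    (hd : orderOf d = q ^ j) (hdu : Commute d u) : d ∈ center G := by
  have hcou : (orderOf u).Coprime (orderOf d) := by
    rw [hd]
    exact (((hq.coprime_iff_not_dvd).2 hqm).symm.coprime_dvd_left hD.orderOf_u).pow_right j
  obtain ⟨h1, h2⟩ := cent_mul_coprime hdu.symm hcou
  have hdn : n ∣ sz (u * d) := hD.hsu ▸ sz_dvd_of_le h1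
  have hne : sz (u * d) ≠ m := fun h => hD.not_dvd (h ▸ hdn)
  have heq := cent_eq_of_le h1 (by rw [hD.hsu]; exact hD.second _ (lt_of_le_of_ne (hD.top _) hne))
  have hsd : sz d ∣ n := hD.hsu ▸ sz_dvd_of_le (heq ▸ h2)
  have hco : (sz d).Coprime (sz y) := by rw [hD.hy]; exact hD.hcop.symm.coprime_dvd_left hsd
  refine mem_center_of_pow (pow_card_stab_mem_center hco (comm_mem_stab hD.hmax hco)) ?_
  rw [hd]
  exact (((hq.coprime_iff_not_dvd).2 hqm).symm.coprime_dvd_left
    (hD.hy ▸ ClassGraph.card_stab_dvd y)).pow_right j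

/-- A `p`-element of class size `m`, `p` prime to `m`. -/
structure Spec (m : ℕ) (v : G) (p : ℕ) : Prop where
  prime : p.Prime
  ndvd : ¬ p ∣ m
  order : ∃ k, orderOf v = p ^ k
  size : sz v = m

omit [Finite G] in
theorem exists_part {g : G} {K : Subgroup G} [Finite G] (hg : g ∉ K) :
    ∃ q v k, q.Prime ∧ v ∈ zpowers g ∧ orderOf v = q ^ k ∧ v ∉ K := by
  by_contra h
  push Not at h
  exact hg (Transfer.mem_of_forall_primePow fun q hq w hw ⟨k, hk⟩ => h q w k hq hw hk)

theorem DataU.exists_spec (hD : DataU n m x y u) : ∃ (v : G) (p : ℕ), Spec m v p := by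
  have hync : y ∉ center G := fun h => by
    have := sz_eq_one_iff.2 h
    have := hD.hy; have := hD.hn; have := hD.hmn; omega
  obtain ⟨q, v, k, hq, hv, hvo, hvz⟩ := exists_part hync
  have hvm : sz v = m := hD.eq_m_of_dvd (hD.hy ▸ sz_dvd_of_le (cent_le_of_mem hv)) hvz
  by_cases hqm : q ∣ m
  swap
  · exact ⟨v, q, hq, hqm, ⟨k, hvo⟩, hvm⟩
  obtain ⟨p, hp, hpn⟩ := Nat.exists_prime_and_dvd (show n ≠ 1 by have := hD.hn; omega)
  haveI := Fact.mk hp
  have hpm : ¬ p ∣ m := fun h => hp.ne_one (Nat.eq_one_of_dvd_coprimes hD.hcop h hpn)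
  obtain ⟨P, hP⟩ := ClassGraph.exists_sylow_le_cent (p := p) (y := v) (by
    show ¬ p ∣ sz v
    rw [hvm]; exact hpm)
  obtain ⟨h, hhP, hhz⟩ : ∃ h ∈ (P : Subgroup G), h ∉ center G := by
    by_contra hcon
    push Not at hcon
    refine P.not_dvd_index (hpn.trans (hD.hx ▸ index_dvd_of_le ?_))
    exact fun g hg => mem_cent.2 (mem_center_iff.1 (hcon g hg) x).symm
  obtain ⟨j, hj⟩ := SylowTwoSizes_order P hhP
  have hle := hD.le_of_m hvm (mem_cent.1 (hP hhP) : Commute h v).symm (by
    rw [hvo, hj]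
    exact ((Nat.coprime_primes hq hp).2 fun e => hpm (e ▸ hqm)).pow k j)
  exact ⟨h, p, hp, hpm, ⟨j, hj⟩, hD.eq_m_of_dvd (hvm ▸ sz_dvd_of_le hle) hhz⟩
where
  SylowTwoSizes_order {p : ℕ} [Fact p.Prime] (P : Sylow p G) {h : G} (hh : h ∈ (P : Subgroup G)) :
      ∃ j, orderOf h = p ^ j := by
    obtain ⟨j, hj⟩ := IsPGroup.iff_orderOf.1 P.isPGroup' ⟨h, hh⟩
    exact ⟨j, by rw [← hj, Subgroup.orderOf_mk]⟩

variable {v : G} {p : ℕ}

/-- No non-trivial element of `coreM` commutes with a special element. -/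
theorem DataU.eq_one_of_commute (hD : DataU n m x y u) (hv : Spec m v p) {t : G} (ht : t ∈ coreM m y)
    (hc : Commute t v) : t = 1 := by
  obtain ⟨c, hc'⟩ := coreM_translate hv.size ht
  obtain ⟨k, hk⟩ := hv.order
  have hco : (orderOf t).Coprime (orderOf v) := by
    rw [hk]
    exact (((hv.prime.coprime_iff_not_dvd).2 hv.ndvd).symm.coprime_dvd_left
      ((Subgroup.orderOf_dvd_natCard _ ht).trans (card_coreM hD.toData))).pow_right k
  have e := hc.orderOf_mul_eq_mul_orderOf_of_coprime hco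
  rw [← hc', ← MulAut.conj_apply, MulEquiv.orderOf_eq] at e
  exact orderOf_eq_one_iff.1 (by
    have := orderOf_pos v
    exact Nat.eq_of_mul_eq_mul_right this (by rw [← e, one_mul]))

theorem DataU.inf_eq_center (hD : DataU n m x y u) (hv : Spec m v p) : cent u ⊓ cent v = center G := by
  refine le_antisymm (fun d hd => ?_) (le_inf (center_le_centralizer _) (center_le_centralizer _))
  refine Transfer.mem_of_forall_primePow fun q hq w hw ⟨j, hj⟩ => ?_
  have hwu : w ∈ cent u := (zpowers_le.2 hd.1) hw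
  have hwv : w ∈ cent v := (zpowers_le.2 hd.2) hw
  by_cases hqm : q ∣ m
  swap
  · exact hD.central_of_commute_u hq hqm hj (mem_cent.1 hwu)
  by_contra hwz
  obtain ⟨k, hk⟩ := hv.order
  have hle := hD.le_of_m hv.size (show Commute w v from mem_cent.1 hwv).symm (by
    rw [hk, hj]; exact ((Nat.coprime_primes hv.prime hq).2 fun e => hv.ndvd (e ▸ hqm)).pow k j)
  have hwm := hD.eq_m_of_dvd (hv.size ▸ sz_dvd_of_le hle) hwz
  have huv : u ∈ cent v := (cent_eq_of_le hle (by rw [hwm]; exact hD.top _)).ge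
    (mem_cent.2 (mem_cent.1 hwu).symm)
  exact hD.hunc ((hD.eq_one_of_commute hv hD.hu (mem_cent.1 huv)).symm ▸ one_mem _)

theorem DataU.card_G (hD : DataU n m x y u) (hv : Spec m v p) :
    Nat.card G = Nat.card (center G) * (n * m) := by
  have hco : (cent u).index.Coprime (cent v).index := by
    show (sz u).Coprime (sz v)
    rw [hD.hsu, hv.size]; exact hD.hcop.symm
  rw [← (center G).card_mul_index, ← hD.inf_eq_center hv, Solvable.index_inf_eq_mul hco]
  show _ * (sz u * sz v) = _
  rw [hD.hsu, hv.size]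

theorem DataU.card_cent_m (hD : DataU n m x y u) (hv : Spec m v p) {g : G} (hg : sz g = m) :
    Nat.card (cent g) = Nat.card (center G) * n := by
  have h := (cent g).card_mul_index
  rw [show (cent g).index = m from hg, hD.card_G hv, ← mul_assoc] at h
  exact Nat.eq_of_mul_eq_mul_right (by have := hD.hmn; omega) h

/-- prime power elements with prime dividing `m` in a centralizer of index `m` are central -/
theorem DataU.central_of_mem_cent_m (hD : DataU n m x y u) (hv : Spec m v p) {g f : G} (hg : sz g = m)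
    {q j : ℕ} (hq : q.Prime) (hqm : q ∣ m) (hf : orderOf f = q ^ j) (hfg : f ∈ cent g) : f ∈ center G := by
  set B := (cent g).map (QuotientGroup.mk' (center G)) with hB
  have hcard : Nat.card B * Nat.card (center G) = Nat.card (cent g) := by
    have e := relIndex_ker (f := QuotientGroup.mk' (center G)) (K := cent g)
    rw [QuotientGroup.ker_mk'] at e
    have h2 := relIndex_mul_relIndex (⊥ : Subgroup G) (center G) (cent g) bot_le (center_le_centralizer _)
    rw [relIndex_bot_left, relIndex_bot_left, e, mul_comm] at h2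
    exact h2
  rw [hD.card_cent_m hv hg, mul_comm] at hcard
  have hBn : Nat.card B = n := Nat.eq_of_mul_eq_mul_left Nat.card_pos hcard
  have h1 : orderOf (f : G ⧸ center G) ∣ n := hBn ▸ Subgroup.orderOf_dvd_natCard B (mem_map_of_mem _ hfg)
  have h2 : orderOf (f : G ⧸ center G) ∣ q ^ j := hf ▸ orderOf_map_dvd (QuotientGroup.mk' (center G)) f
  have hco : n.Coprime (q ^ j) :=
    (hq.coprime_iff_not_dvd.2 fun h => hq.ne_one (Nat.eq_one_of_dvd_coprimes hD.hcop hqm h)).symm.pow_right j
  rw [← QuotientGroup.eq_one_iff, ← orderOf_eq_one_iff]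
  exact Nat.eq_one_of_dvd_coprimes hco h1 h2

/-- Elements of `cent v` of prime power order prime to `m` have class size `1` or `m`. -/
theorem DataU.semiregular (hD : DataU n m x y u) (hv : Spec m v p) {r : G} {q j : ℕ} (hq : q.Prime)
    (hqm : ¬ q ∣ m) (hr : orderOf r = q ^ j) (hrv : r ∈ cent v) (hrz : r ∉ center G) : sz r = m := by
  classical
  by_contra hne
  set M := coreM m y with hM
  have hMc : ∀ a ∈ M, ∀ b ∈ M, a * b = b * a := fun a ha b hb => coreM_comm hD.toData ha hb.1
  letI : CommGroup M := { (inferInstance : Group M) with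
    mul_comm := fun g h => Subtype.ext (hMc g g.2 h h.2) }
  let cj : G → (M →* M) := fun a =>
    { toFun := fun t => ⟨a * t * a⁻¹, (coreM_normal (G := G) (m := m) (y := y)).conj_mem t t.2 a⟩
      map_one' := Subtype.ext (by simp)
      map_mul' := fun s t => Subtype.ext (by
        show a * (s * t : G) * a⁻¹ = a * s * a⁻¹ * (a * t * a⁻¹)
        group) }
  let ψ : M →* M := cj r / MonoidHom.id M
  have hψ : ∀ t : M, ψ t = cj r t / t := fun t => rfl
  let o := orderOf r
  have ho : o = orderOf r := rfl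
  let Nm : M →* M := ∏ i ∈ Finset.range o, cj (r ^ i)
  have hNm : ∀ t : M, Nm t = ∏ i ∈ Finset.range o, cj (r ^ i) t := fun t => by
    simp [Nm, MonoidHom.finset_prod_apply]
  have hcjmul : ∀ (a b : G) (t : M), cj a (cj b t) = cj (a * b) t := fun a b t => Subtype.ext (by
    show a * (b * (t : G) * b⁻¹) * a⁻¹ = a * b * (t : G) * (a * b)⁻¹
    group)
  have hNfix : ∀ t : M, cj r (Nm t) = Nm t := fun t => by
    rw [hNm, map_prod]
    have h1 := Finset.prod_range_succ (fun i => cj (r ^ i) t) o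
    have h2 := Finset.prod_range_succ' (fun i => cj (r ^ i) t) o
    rw [h1, ho, pow_orderOf_eq_one, ← ho, pow_zero] at h2
    rw [mul_right_cancel h2]
    exact Finset.prod_congr rfl fun i _ => by rw [hcjmul, pow_succ']
  set u₀ : M := ⟨u, hD.hu⟩ with hu₀
  set u₁ : G := ((Nm u₀ : M) : G) with hu₁
  set T := cent v ⊓ cent r ⊓ cent u₁ with hT
  have hψu : ψ u₀ ≠ 1 := by
    rw [hψ, Ne, div_eq_one]
    intro h
    apply hrz
    rw [← hD.inf_eq_center hv]
    exact ⟨mem_cent.2 (mul_inv_eq_iff_eq_mul.1 (congrArg Subtype.val h)), hrv⟩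
  have hcjψ : ∀ a ∈ cent r, ∀ t : M, ψ (cj a t) = cj a (ψ t) := fun a ha t => by
    rw [hψ, hψ, map_div, hcjmul, hcjmul, mem_cent.1 ha]
  have hcjN : ∀ a ∈ cent r, ∀ t : M, Nm (cj a t) = cj a (Nm t) := fun a ha t => by
    rw [hNm, hNm, map_prod]
    refine Finset.prod_congr rfl fun i _ => ?_
    rw [hcjmul, hcjmul, ((show Commute a r from mem_cent.1 ha).pow_right i).eq]
  -- the stabilizer is small
  have hTle : Nat.card T ≤ (Nat.card ψ.range - 1) * Nat.card (center G) := by
    let f : T → {w : ψ.range // w ≠ 1} := fun t => ⟨⟨cj t (ψ u₀), cj t u₀, hcjψ t t.2.1.2 u₀⟩, fun h => hψu (by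
      have h' : cj t (ψ u₀) = 1 := congrArg Subtype.val h
      have h'' := congrArg (cj (t : G)⁻¹) h'
      rw [hcjmul, inv_mul_cancel, map_one] at h''
      rw [← h'']
      exact Subtype.ext (by show _ = (1 : G) * _ * (1 : G)⁻¹; simp))⟩
    let pick : {w : ψ.range // w ≠ 1} → T := fun w => if h : ∃ t, f t = w then h.choose else 1
    have hpick : ∀ t, f (pick (f t)) = f t := fun t => by
      have h : ∃ s, f s = f t := ⟨t, rfl⟩
      simp only [pick, dif_pos h]
      exact h.choose_spec
    have hz : ∀ t : T, ((pick (f t) : T) : G)⁻¹ * t ∈ center G := fun t => by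
      set s := pick (f t)
      set w : G := (s : G)⁻¹ * t with hw
      have hwT : w ∈ T := mul_mem (inv_mem s.2) t.2
      have hwψ : cj w (ψ u₀) = ψ u₀ := by
        have h1 : cj (s : G) (ψ u₀) = cj (t : G) (ψ u₀) :=
          congrArg (fun z : {w : ψ.range // w ≠ 1} => (z.1 : M)) (hpick t)
        rw [hw, ← hcjmul, ← h1, hcjmul, inv_mul_cancel]
        exact Subtype.ext (by show (1 : G) * _ * (1 : G)⁻¹ = _; simp)
      have hwN : cj w (Nm u₀) = Nm u₀ := Subtype.ext (by
        show w * u₁ * w⁻¹ = u₁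
        rw [mem_cent.1 hwT.2, mul_inv_cancel_right])
      set d := cj w u₀ / u₀ with hd
      have hdfix : cj r d = d := by
        rw [← div_eq_one, ← hψ, hd, map_div, hcjψ w hwT.1.2, hwψ, div_self']
      have hdN : Nm d = 1 := by rw [hd, map_div, hcjN w hwT.1.2, hwN, div_self']
      have hpow : ∀ i : ℕ, cj (r ^ i) d = d := by
        intro i
        induction i with
        | zero => exact Subtype.ext (by show r ^ 0 * _ * (r ^ 0)⁻¹ = _; simp)
        | succ i ih => rw [pow_succ', ← hcjmul, ih, hdfix]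
      rw [hNm, Finset.prod_congr rfl (fun i _ => hpow i), Finset.prod_const, Finset.card_range] at hdN
      have hd1 : d = 1 := by
        refine orderOf_eq_one_iff.1 (Nat.eq_one_of_dvd_coprimes ?_ (orderOf_dvd_natCard d)
          (orderOf_dvd_of_pow_eq_one hdN))
        rw [ho, hr]
        exact (((hq.coprime_iff_not_dvd).2 hqm).symm.coprime_dvd_left (card_coreM hD.toData)).pow_right j
      rw [← hD.inf_eq_center hv]
      refine ⟨mem_cent.2 ?_, hwT.1.1⟩
      rw [hd, div_eq_one] at hd1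
      exact mul_inv_eq_iff_eq_mul.1 (congrArg Subtype.val hd1)
    let g : T → {w : ψ.range // w ≠ 1} × center G := fun t => (f t, ⟨_, hz t⟩)
    have hg : Function.Injective g := fun a b h => by
      have h1 : f a = f b := congrArg Prod.fst h
      have h2 : ((pick (f a) : T) : G)⁻¹ * (a : G) = ((pick (f b) : T) : G)⁻¹ * (b : G) :=
        congrArg (fun z : {w : ψ.range // w ≠ 1} × center G => (z.2 : G)) h
      rw [h1] at h2
      exact Subtype.ext (mul_left_cancel h2)
    refine (Nat.card_le_card_of_injective g hg).trans (le_of_eq ?_)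
    rw [Nat.card_prod]
    congr 1
    haveI := Fintype.ofFinite ψ.range
    rw [Nat.card_eq_fintype_card, Nat.card_eq_fintype_card, Fintype.card_subtype_compl, Fintype.card_subtype_eq]
  -- the class of `r u₁` is large
  have hru : Commute r u₁ := mul_inv_eq_iff_eq_mul.1 (congrArg Subtype.val (hNfix u₀))
  have hu₁M : u₁ ∈ M := (Nm u₀).2
  have hcou : (orderOf r).Coprime (orderOf u₁) := by
    rw [hr]
    exact ((((hq.coprime_iff_not_dvd).2 hqm)).coprime_dvd_right
      ((Subgroup.orderOf_dvd_natCard _ hu₁M).trans (card_coreM hD.toData))).pow_left j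
  have hbig : Nat.card M * Nat.card (cent v) ≤ sz (r * u₁) * (Nat.card ψ.ker * Nat.card T) := by
    let f : M × (cent v) → cls (r * u₁) := fun a =>
      ⟨(a.1 : G) * a.2 * (r * u₁) * ((a.1 : G) * a.2)⁻¹, _, rfl⟩
    let pick : cls (r * u₁) → M × (cent v) := fun c => if h : ∃ a, f a = c then h.choose else 1
    have hpick : ∀ a, f (pick (f a)) = f a := fun a => by
      have h : ∃ b, f b = f a := ⟨a, rfl⟩
      simp only [pick, dif_pos h]
      exact h.choose_spec
    have hfib : ∀ a : M × (cent v),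
        cj ((pick (f a)).2 : G)⁻¹ ((pick (f a)).1⁻¹ * a.1) ∈ ψ.ker ∧
        ((pick (f a)).2 : G)⁻¹ * a.2 ∈ T := by
      intro a
      set b := pick (f a)
      set t : M := cj (b.2 : G)⁻¹ (b.1⁻¹ * a.1) with ht
      set h : G := (b.2 : G)⁻¹ * a.2 with hh
      have hth : (t : G) * h = ((b.1 : G) * b.2)⁻¹ * ((a.1 : G) * a.2) := by
        show (b.2 : G)⁻¹ * ((b.1 : G)⁻¹ * a.1) * ((b.2 : G)⁻¹)⁻¹ * h = _
        rw [hh]; group
      have hcen : Commute ((t : G) * h) (r * u₁) := by
        rw [hth]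
        have h1 : (b.1 : G) * b.2 * (r * u₁) * ((b.1 : G) * b.2)⁻¹ =
            (a.1 : G) * a.2 * (r * u₁) * ((a.1 : G) * a.2)⁻¹ := congrArg Subtype.val (hpick a)
        show ((b.1 : G) * b.2)⁻¹ * ((a.1 : G) * a.2) * (r * u₁) = r * u₁ * (((b.1 : G) * b.2)⁻¹ * ((a.1 : G) * a.2))
        calc ((b.1 : G) * b.2)⁻¹ * ((a.1 : G) * a.2) * (r * u₁)
            = ((b.1 : G) * b.2)⁻¹ * ((a.1 : G) * a.2 * (r * u₁) * ((a.1 : G) * a.2)⁻¹) * ((a.1 : G) * a.2) := by
              group
          _ = _ := by rw [← h1]; group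
      obtain ⟨h1, h2⟩ := cent_mul_coprime hru hcou
      have hcr : Commute ((t : G) * h) r := mem_cent.1 (h1 (mem_cent.2 hcen.eq))
      have hcu : Commute ((t : G) * h) u₁ := mem_cent.1 (h2 (mem_cent.2 hcen.eq))
      have hhv : h ∈ cent v := mul_mem (inv_mem b.2.2) a.2.2
      have e1 : h * r * h⁻¹ = (t : G)⁻¹ * r * t := by
        calc h * r * h⁻¹ = (t : G)⁻¹ * ((t : G) * h * r) * ((t : G) * h)⁻¹ * t := by group
          _ = _ := by rw [hcr.eq]; group
      have hcomm1 : Commute (t : G) r := by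
        have hmem : (t : G)⁻¹ * r * t * r⁻¹ ∈ M := by
          rw [show (t : G)⁻¹ * r * t * r⁻¹ = (t : G)⁻¹ * (r * t * r⁻¹) by group]
          exact mul_mem (inv_mem t.2) ((coreM_normal (G := G) (m := m) (y := y)).conj_mem t t.2 r)
        have hv' : (t : G)⁻¹ * r * t * r⁻¹ ∈ cent v := by
          rw [← e1]; exact mul_mem (mul_mem (mul_mem hhv hrv) (inv_mem hhv)) (inv_mem hrv)
        have := hD.eq_one_of_commute hv hmem (mem_cent.1 hv')
        rw [mul_inv_eq_one, mul_assoc, inv_mul_eq_iff_eq_mul] at this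
        exact this.symm
      refine ⟨?_, ⟨hhv, mem_cent.2 ?_⟩, mem_cent.2 ?_⟩
      · rw [MonoidHom.mem_ker, hψ, div_eq_one]
        exact Subtype.ext (by
          show r * (t : G) * r⁻¹ = t
          rw [← hcomm1.eq, mul_inv_cancel_right])
      · have := hcomm1.inv_left.mul_left hcr
        rwa [inv_mul_cancel_left] at this
      · have hc : Commute (t : G) u₁ := hMc _ t.2 _ hu₁M
        have := hc.inv_left.mul_left hcu
        rwa [inv_mul_cancel_left] at this
    let g : M × (cent v) → cls (r * u₁) × (ψ.ker × T) := fun a =>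
      (f a, (⟨_, (hfib a).1⟩, ⟨_, (hfib a).2⟩))
    have hg : Function.Injective g := fun a b h => by
      have h1 : f a = f b := congrArg Prod.fst h
      have h2 : cj ((pick (f a)).2 : G)⁻¹ ((pick (f a)).1⁻¹ * a.1) =
          cj ((pick (f b)).2 : G)⁻¹ ((pick (f b)).1⁻¹ * b.1) :=
        congrArg (fun z : cls (r * u₁) × (ψ.ker × T) => (z.2.1 : M)) h
      have h3 : ((pick (f a)).2 : G)⁻¹ * a.2 = ((pick (f b)).2 : G)⁻¹ * b.2 :=
        congrArg (fun z : cls (r * u₁) × (ψ.ker × T) => (z.2.2 : G)) h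
      rw [h1] at h2 h3
      have h4 := congrArg (cj ((pick (f b)).2 : G)) h2
      rw [hcjmul, hcjmul, mul_inv_cancel] at h4
      have h5 : ∀ s : M, cj 1 s = s := fun s => Subtype.ext (by show (1 : G) * _ * (1 : G)⁻¹ = _; simp)
      rw [h5, h5] at h4
      exact Prod.ext (mul_left_cancel h4) (Subtype.ext (mul_left_cancel h3))
    have := Nat.card_le_card_of_injective g hg
    rwa [Nat.card_prod, Nat.card_prod, Nat.card_prod, Nat.card_coe_set_eq, ClassGraph.ncard_cls] at this
  have hsplit : Nat.card M = Nat.card ψ.ker * Nat.card ψ.range := by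
    rw [← index_ker, ψ.ker.card_mul_index]
  have hlarge : n < sz (r * u₁) := by
    rw [hsplit, hD.card_cent_m hv hv.size] at hbig
    have hz : 0 < Nat.card (center G) := Nat.card_pos
    have hk : 0 < Nat.card ψ.ker := Nat.card_pos
    have hr0 : 0 < Nat.card ψ.range := Nat.card_pos
    have hn0 : 0 < n := by have := hD.hn; omega
    by_contra hle
    push Not at hle
    have h1 : Nat.card ψ.ker * Nat.card ψ.range * (Nat.card (center G) * n) ≤
        n * (Nat.card ψ.ker * ((Nat.card ψ.range - 1) * Nat.card (center G))) :=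
      hbig.trans (Nat.mul_le_mul hle (Nat.mul_le_mul_left _ hTle))
    have h2 : (Nat.card ψ.range - 1) * (n * (Nat.card ψ.ker * Nat.card (center G))) <
        Nat.card ψ.range * (n * (Nat.card ψ.ker * Nat.card (center G))) :=
      Nat.mul_lt_mul_of_pos_right (by omega) (by positivity)
    nlinarith
  have hm' : sz (r * u₁) = m := by
    by_contra h
    exact absurd (hD.second _ (lt_of_le_of_ne (hD.top _) h)) (not_le.2 hlarge)
  have := coreM_translate (y := y) hm' (inv_mem hu₁M)
  rw [hru.eq, inv_mul_cancel_left] at this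
  rw [← hru.eq] at this
  exact hne ((sz_of_mem_cls this).trans hm')

theorem conj_mem_center {c g : G} : c * g * c⁻¹ ∈ center G ↔ g ∈ center G := by
  rw [← sz_eq_one_iff, ← sz_eq_one_iff, ClassGraph.sz_conj]

theorem DataU.exists_conj (hD : DataU n m x y u) (hv : Spec m v p) {w : G} {q j : ℕ} (hq : q.Prime)
    (hqm : ¬ q ∣ m) (hw : orderOf w = q ^ j) : ∃ c : G, c * w * c⁻¹ ∈ cent v := by
  have hidx : ¬ q ∣ ClassGraph.idx v := by
    show ¬ q ∣ sz v
    rw [hv.size]; exact hqm
  obtain ⟨c, hc⟩ := ClassGraph.exists_conj_commute hq hw hidx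
  exact ⟨c, mem_cent.2 hc.eq⟩

/-- `w` of order prime to `m` and `f` of order a prime power dividing `m` do not commute outside the centre -/
theorem DataU.no_commute (hD : DataU n m x y u) (hv : Spec m v p) {w f : G} {q j l i : ℕ} (hq : q.Prime)
    (hqm : ¬ q ∣ m) (hw : orderOf w = q ^ j) (hwz : w ∉ center G) (hl : l.Prime) (hlm : l ∣ m)
    (hf : orderOf f = l ^ i) (hfw : Commute f w) : f ∈ center G := by
  obtain ⟨c, hc⟩ := hD.exists_conj hv hq hqm hw
  have hs := hD.semiregular hv hq hqm (by rw [← MulAut.conj_apply, MulEquiv.orderOf_eq]; exact hw) hc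
    (fun h => hwz (conj_mem_center.1 h))
  rw [ClassGraph.sz_conj] at hs
  exact hD.central_of_mem_cent_m hv hs hl hlm hf (mem_cent.2 hfw.eq)

theorem DataU.sz_pi (hD : DataU n m x y u) (hv : Spec m v p) {f : G} {l i : ℕ} (hl : l.Prime) (hlm : l ∣ m)
    (hf : orderOf f = l ^ i) (hfz : f ∉ center G) : sz f = n := by
  set B := (cent f).map (QuotientGroup.mk' (center G)) with hB
  have hcard : Nat.card B * Nat.card (center G) = Nat.card (cent f) := by
    have e := relIndex_ker (f := QuotientGroup.mk' (center G)) (K := cent f)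
    rw [QuotientGroup.ker_mk'] at e
    have h2 := relIndex_mul_relIndex (⊥ : Subgroup G) (center G) (cent f) bot_le (center_le_centralizer _)
    rw [relIndex_bot_left, relIndex_bot_left, e, mul_comm] at h2
    exact h2
  have hco : n.Coprime (Nat.card B) := by
    refine Nat.coprime_of_dvd fun q hq hqn hqB => ?_
    haveI := Fact.mk hq
    have hqm : ¬ q ∣ m := fun h => hq.ne_one (Nat.eq_one_of_dvd_coprimes hD.hcop h hqn)
    obtain ⟨z, hz⟩ := exists_prime_orderOf_dvd_card' q hqB
    obtain ⟨w₀, hw₀, hwz⟩ := z.2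
    obtain ⟨e, b, hb, hwo⟩ := Nat.exists_eq_pow_mul_and_not_dvd (orderOf_pos w₀).ne' q hq.ne_one
    have hwq : ∃ j, orderOf (w₀ ^ b) = q ^ j := by
      obtain ⟨j, -, hj⟩ := (Nat.dvd_prime_pow hq).1 (orderOf_dvd_of_pow_eq_one (x := w₀ ^ b) (n := q ^ e)
        (by rw [← pow_mul, mul_comm, ← hwo, pow_orderOf_eq_one]))
      exact ⟨j, hj⟩
    obtain ⟨j, hj⟩ := hwq
    have hwnc : w₀ ^ b ∉ center G := fun h => hb (by
      rw [← hz, ← Subgroup.orderOf_coe, ← hwz]
      refine orderOf_dvd_of_pow_eq_one ?_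
      rw [← map_pow]; exact (QuotientGroup.eq_one_iff _).2 h)
    exact hfz (hD.no_commute hv hq hqm hj hwnc hl hlm hf
      ((show Commute w₀ f from mem_cent.1 hw₀).pow_left b).symm)
  have hdvd : n ∣ sz f := by
    have h := (cent f).card_mul_index
    rw [← hcard, hD.card_G hv] at h
    refine hco.dvd_of_dvd_mul_left ?_
    refine (Dvd.intro m ?_ : n ∣ Nat.card B * sz f)
    refine Nat.eq_of_mul_eq_mul_left (Nat.card_pos (α := center G)) ?_
    rw [← h]
    unfold sz
    ring
  rcases Nat.lt_or_ge (sz f) m with h | h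
  · exact le_antisymm (hD.second f h) (Nat.le_of_dvd (ClassGraph.sz_pos f) hdvd)
  · exact absurd ((le_antisymm (hD.top f) h) ▸ hdvd) hD.not_dvd

theorem DataU.cent_u_eq (hD : DataU n m x y u) (hv : Spec m v p) : cent u = sgen y := by
  refine le_antisymm (fun g hg => ?_) (fun g hg => mem_cent.2 (coreM_comm hD.toData hD.hu hg).symm)
  have hcen : ∀ w ∈ center G, w ∈ sgen y := fun w hw =>
    ClassGraph.mem_sgen (by rw [sz_eq_one_iff.2 hw]; exact Nat.coprime_one_left _)
  refine Transfer.mem_of_forall_primePow fun q hq w hw ⟨j, hj⟩ => ?_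
  by_cases hwz : w ∈ center G
  · exact hcen w hwz
  by_cases hqm : q ∣ m
  · exact ClassGraph.mem_sgen (by rw [hD.sz_pi hv hq hqm hj hwz, hD.hy]; exact hD.hcop.symm)
  · exact absurd (hD.central_of_commute_u hq hqm hj (mem_cent.1 ((zpowers_le.2 hg) hw))) hwz

theorem DataU.cent_v_comm (hD : DataU n m x y u) (hv : Spec m v p) :
    ∀ a ∈ cent v, ∀ b ∈ cent v, a * b = b * a := by
  have hF := hD.cent_u_eq hv
  intro a ha
  suffices h : cent v ≤ cent a from fun b hb => (mem_cent.1 (h hb)).symm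
  intro b hb
  refine mem_cent.2 (mem_cent.1 (Transfer.mem_of_forall_primePow (H := cent b) fun q hq r hr ⟨j, hj⟩ =>
    mem_cent.2 ?_ : a ∈ cent b)).symm
  have hrv : r ∈ cent v := (zpowers_le.2 ha) hr
  by_cases hrz : r ∈ center G
  · exact (mem_center_iff.1 hrz b).symm
  by_cases hqm : q ∣ m
  · exact absurd (hD.central_of_mem_cent_m hv hv.size hq hqm hj hrv) hrz
  have hs := hD.semiregular hv hq hqm hj hrv hrz
  obtain ⟨c, hc, f, hf, hcf⟩ := Solvable.exists_mul_of_coprime_index (H := cent u) (K := cent r)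
    (show (sz u).Coprime (sz r) by rw [hD.hsu, hs]; exact hD.hcop.symm) b
  haveI : (cent u).Normal := hF.symm ▸ ClassGraph.sgen_normal y
  set z := r⁻¹ * (b * r * b⁻¹) with hz
  have hzu : z ∈ cent u := by
    have e : z = c * (r⁻¹ * f * r * f⁻¹) * c⁻¹ := by
      have e1 : c * r * c⁻¹ = r := by rw [mem_cent.1 hc, mul_inv_cancel_right]
      have e2 : c * r⁻¹ * c⁻¹ = r⁻¹ := by
        have := congrArg (·⁻¹) e1
        simpa [mul_inv_rev, mul_assoc] using this
      calc z = c * r⁻¹ * c⁻¹ * (b * r * b⁻¹) := by rw [e2]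
        _ = _ := by rw [hcf]; group
    rw [e]
    refine Subgroup.Normal.conj_mem inferInstance _ (mul_mem ?_ (inv_mem hf)) c
    simpa using Subgroup.Normal.conj_mem (inferInstance : (cent u).Normal) f hf r⁻¹
  have hzv : z ∈ cent v := mul_mem (inv_mem hrv) (mul_mem (mul_mem hb hrv) (inv_mem hb))
  have hzc : z ∈ center G := hD.inf_eq_center hv ▸ ⟨hzu, hzv⟩
  have e : b * r * b⁻¹ = r * z := by rw [hz, mul_inv_cancel_left]
  have hzq : ∃ k, orderOf z = q ^ k := by
    have h1 : z ^ q ^ j = 1 := by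
      have h2 : (b * r * b⁻¹) ^ q ^ j = 1 := by rw [conj_pow, ← hj, pow_orderOf_eq_one, mul_one, mul_inv_cancel]
      rwa [e, (show Commute r z from mem_center_iff.1 hzc r).mul_pow, ← hj, pow_orderOf_eq_one, one_mul, hj] at h2
    obtain ⟨k, -, hk⟩ := (Nat.dvd_prime_pow hq).1 (orderOf_dvd_of_pow_eq_one h1)
    exact ⟨k, hk⟩
  haveI := Fact.mk hq
  have h1 := Frequencies.eq_one_of_conj (q := q) (x := r) (g := b)
    (by show ¬ q ∣ sz r; rw [hs]; exact hqm) hzc hzq e
  rw [h1, mul_one] at e
  exact (mul_inv_eq_iff_eq_mul.1 e).symm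

/-- The theorem. -/
theorem main {n m : ℕ} {x y : G} (hD₀ : Data n m x y) :
    IsMulCommutative (cent x) ∧ IsMulCommutative (cent y) ∧
      Cfsg.IsFrobeniusComplement ((cent y).map (QuotientGroup.mk' (center G))) ∧
      Cfsg.frobeniusKernel ((cent y).map (QuotientGroup.mk' (center G))) =
        (((cent x).map (QuotientGroup.mk' (center G)) : Subgroup (G ⧸ center G)) : Set (G ⧸ center G)) := by
  obtain ⟨u, hu, hsu, hcu, hunc⟩ := hD₀.exists_u
  have hD : DataU n m x y u := ⟨hD₀, hu, hsu, hcu, hunc⟩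
  obtain ⟨v₀, p₀, hv₀⟩ := hD.exists_spec
  -- a special power of `y`
  have hync : y ∉ center G := fun h => by
    have h1 := sz_eq_one_iff.2 h
    rw [hD.hy] at h1
    have := hD.hn; have := hD.hmn; omega
  obtain ⟨q, v, k, hq, hvy, hvo, hvz⟩ := exists_part hync
  have hvm : sz v = m := hD.eq_m_of_dvd (hD.hy ▸ sz_dvd_of_le (cent_le_of_mem hvy)) hvz
  have hqm : ¬ q ∣ m := fun h => by
    have h1 := hD.sz_pi hv₀ hq h hvo hvz
    rw [hvm] at h1
    have := hD.hmn; omega
  have hv : Spec m v q := ⟨hq, hqm, ⟨k, hvo⟩, hvm⟩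
  have hcy : cent y = cent v := cent_eq_of_le (cent_le_of_mem hvy) (by rw [hvm, hD.hy])
  have hHc := hD.cent_v_comm hv
  have hF : cent x = sgen y := hcu ▸ hD.cent_u_eq hv
  have hD' := hD.inf_eq_center hv
  rw [hcu] at hD'
  haveI hFn : (cent x).Normal := hF.symm ▸ ClassGraph.sgen_normal y
  -- centralizers of non-central elements of the complement
  have hCh : ∀ h ∈ cent v, h ∉ center G → cent h = cent v := by
    intro h hh hhz
    have hle : cent v ≤ cent h := fun g hg => mem_cent.2 (hHc g hg h hh)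
    exact (cent_eq_of_le hle (by rw [hvm, hD.eq_m_of_dvd (hvm ▸ sz_dvd_of_le hle) hhz])).symm
  have hmem : ∀ {K : Subgroup G}, center G ≤ K → ∀ g : G,
      QuotientGroup.mk' (center G) g ∈ K.map (QuotientGroup.mk' (center G)) ↔ g ∈ K := by
    intro K hK g
    refine ⟨?_, fun h => mem_map_of_mem _ h⟩
    rintro ⟨k, hk, hke⟩
    simpa using mul_mem hk (hK (QuotientGroup.eq.1 hke))
  have hconj : ∀ {K : Subgroup G}, center G ≤ K → ∀ c g : G,
      QuotientGroup.mk' (center G) g ∈ MulAut.conj (QuotientGroup.mk' (center G) c) •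
        K.map (QuotientGroup.mk' (center G)) ↔ c⁻¹ * g * c ∈ K := by
    intro K hK c g
    rw [mem_pointwise_smul_iff_inv_smul_mem, MulAut.smul_def, MulAut.conj_inv_apply, ← map_inv,
      ← map_mul, ← map_mul, hmem hK]
  have hzy : center G ≤ cent y := center_le_centralizer _
  refine ⟨⟨⟨fun a b => Subtype.ext ?_⟩⟩, ⟨⟨fun a b => Subtype.ext ?_⟩⟩, ⟨?_, ?_, ?_⟩, ?_⟩
  · exact ClassGraph.sgen_abelian hD.hmax (hF ▸ a.2) (hF ▸ b.2)
  · exact hHc _ (hcy ▸ a.2) _ (hcy ▸ b.2)
  · intro h
    refine hvz ((QuotientGroup.eq_one_iff v).1 ?_)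
    rw [← mem_bot, ← h]
    exact mem_map_of_mem _ (hcy ▸ mem_cent.2 rfl)
  · intro h
    have h1 : u ∈ cent y := (hmem hzy u).1 (h ▸ mem_top _)
    exact hunc ((hD.eq_one_of_commute hv hu (mem_cent.1 (hcy ▸ h1))).symm ▸ one_mem _)
  · intro g
    obtain ⟨c, rfl⟩ := QuotientGroup.mk'_surjective _ g
    intro hc
    rw [eq_bot_iff]
    intro z hz
    obtain ⟨h, rfl⟩ := QuotientGroup.mk'_surjective _ z
    have h1 : h ∈ cent y := (hmem hzy h).1 hz.1
    have h2 : c⁻¹ * h * c ∈ cent y := (hconj hzy c h).1 hz.2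
    rw [mem_bot]
    refine (QuotientGroup.eq_one_iff h).2 (by_contra fun hhz => hc ((hmem hzy c).2 ?_))
    rw [hcy] at h1 h2 ⊢
    have h2z : c⁻¹ * h * c ∉ center G := fun hz' => hhz (by
      have := conj_mem_center (c := c).2 hz'
      rwa [show c * (c⁻¹ * h * c) * c⁻¹ = h by group] at this)
    -- `c` normalizes the centralizer of `v`
    have hn : ∀ w ∈ cent v, c * w * c⁻¹ ∈ cent v := by
      intro w hw
      rw [← hCh h h1 hhz]
      refine mem_cent.2 ?_
      have := hHc w hw _ h2
      calc c * w * c⁻¹ * h = c * (w * (c⁻¹ * h * c)) * c⁻¹ := by group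
        _ = c * (c⁻¹ * h * c * w) * c⁻¹ := by rw [this]
        _ = h * (c * w * c⁻¹) := by group
    obtain ⟨a, ha, f, hf, rfl⟩ := Solvable.exists_mul_of_coprime_index (H := cent x) (K := cent v)
      (show (sz x).Coprime (sz v) by rw [hD.hx, hvm]; exact hD.hcop.symm) c
    have hfv : f * v * f⁻¹ ∈ cent v := by
      have := mul_mem (mul_mem (inv_mem ha) (hn v (mem_cent.2 rfl))) ha
      rwa [show a⁻¹ * (a * f * v * (a * f)⁻¹) * a = f * v * f⁻¹ by group] at this
    set z := v⁻¹ * (f * v * f⁻¹) with hzdef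
    have hzx : z ∈ cent x := by
      rw [hzdef, show v⁻¹ * (f * v * f⁻¹) = v⁻¹ * f * v * f⁻¹ by group]
      exact mul_mem (by simpa using hFn.conj_mem f hf v⁻¹) (inv_mem hf)
    have hzc : z ∈ center G := hD' ▸ ⟨hzx, (cent v).mul_mem ((cent v).inv_mem (mem_cent.2 rfl)) hfv⟩
    have e : f * v * f⁻¹ = v * z := by rw [hzdef, mul_inv_cancel_left]
    have hzq : ∃ j, orderOf z = q ^ j := by
      have h1 : z ^ q ^ k = 1 := by
        have h2 : (f * v * f⁻¹) ^ q ^ k = 1 := by rw [conj_pow, ← hvo, pow_orderOf_eq_one, mul_one, mul_inv_cancel]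
        rwa [e, (show Commute v z from mem_center_iff.1 hzc v).mul_pow, ← hvo, pow_orderOf_eq_one, one_mul,
          hvo] at h2
      obtain ⟨j, -, hj⟩ := (Nat.dvd_prime_pow hq).1 (orderOf_dvd_of_pow_eq_one h1)
      exact ⟨j, hj⟩
    haveI := Fact.mk hq
    have h3 := Frequencies.eq_one_of_conj (q := q) (x := v) (g := f)
      (by show ¬ q ∣ sz v; rw [hvm]; exact hqm) hzc hzq e
    rw [h3, mul_one] at e
    have hfz : f ∈ center G := hD' ▸ ⟨hf, mem_cent.2 (mul_inv_eq_iff_eq_mul.1 e)⟩
    exact mul_mem ha (center_le_centralizer _ hfz)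
  · ext z
    obtain ⟨g, rfl⟩ := QuotientGroup.mk'_surjective _ z
    rw [SetLike.mem_coe, hmem (center_le_centralizer _)]
    constructor
    · intro hg
      by_contra hgx
      obtain ⟨l, w, i, hl, hw, hwo, hwx⟩ := exists_part hgx
      have hlm : ¬ l ∣ m := fun h => by
        by_cases hwz : w ∈ center G
        · exact hwx (center_le_centralizer _ hwz)
        · exact hwx (hF ▸ ClassGraph.mem_sgen (by rw [hD.sz_pi hv hl h hwo hwz, hD.hy]; exact hD.hcop.symm))
      have hwz : w ∉ center G := fun h => hwx (center_le_centralizer _ h)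
      obtain ⟨c, hc⟩ := hD.exists_conj hv hl hlm hwo
      have hgc : c * g * c⁻¹ ∈ cent v := by
        rw [← hCh _ hc (fun h => hwz (conj_mem_center.1 h))]
        have hgw : Commute g w := by
          obtain ⟨t, rfl⟩ := mem_zpowers_iff.1 hw
          exact (Commute.refl g).zpow_right t
        refine mem_cent.2 ?_
        calc c * g * c⁻¹ * (c * w * c⁻¹) = c * (g * w) * c⁻¹ := by group
          _ = c * (w * g) * c⁻¹ := by rw [hgw.eq]
          _ = c * w * c⁻¹ * (c * g * c⁻¹) := by group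
      rcases hg with h | h
      · exact hgx (center_le_centralizer _ ((QuotientGroup.eq_one_iff g).1 h))
      · refine h (QuotientGroup.mk' (center G) c⁻¹) ((hconj hzy _ _).2 ?_)
        rw [inv_inv, hcy]; exact hgc
    · intro hgx
      by_cases hgz : g ∈ center G
      · exact Or.inl ((QuotientGroup.eq_one_iff g).2 hgz)
      refine Or.inr fun z hz => hgz ?_
      obtain ⟨c, rfl⟩ := QuotientGroup.mk'_surjective _ z
      have h1 := (hconj hzy c g).1 hz
      rw [hcy] at h1
      have h2 : c⁻¹ * g * c ∈ center G := hD' ▸ ⟨by simpa using hFn.conj_mem g hgx c⁻¹, h1⟩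
      have := conj_mem_center (c := c).2 h2
      rwa [show c * (c⁻¹ * g * c) * c⁻¹ = g by group] at this

end Cfsg.Agent.TwoLargest
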