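import Cfsg.Agent.EqLemmas
import Cfsg.Agent.Lib.ClassIndex.Basic
import Cfsg.Agent.Lib.ClassIndex.PxQ
import Cfsg.Agent.Lib.PGroup.MaximalClass

/-!
# Normal subgroups with two class sizes containing a Sylow subgroup (owner: helper75)

`N` is normal, contains a non-central Sylow `r`-subgroup and its non-central elements all have class
size `m`.  Then `N` is nilpotent.  For a non-central `r'`-element `w` of `N` the subgroup
`L = C(w)` meets `N` in an abelian group whose non-central elements all have centralizer `L`.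
-/

set_option autoImplicit false

open Subgroup
open scoped commutatorElement Pointwise

namespace Cfsg.Agent.SylowTwoSizes

open Cfsg.Agent.ClassIndex

variable {G : Type*} [Group G] [Finite G]

local notation "cent" x:max => Subgroup.centralizer ({x} : Set _)

/-! ### Elementary facts -/

section elem
variable {r : ℕ} [hr : Fact r.Prime]

omit hr in
theorem cent_le_pow (g : G) (i : ℕ) : cent g ≤ cent (g ^ i) := fun _ hy =>
  mem_cent.2 ((show Commute _ g from mem_cent.1 hy).pow_right i).eq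

omit hr in
theorem mem_cent_comm {a b : G} : a ∈ cent b ↔ b ∈ cent a := by rw [mem_cent, mem_cent, eq_comm]

omit hr [Finite G] in
theorem cent_mul_central {x z : G} (hz : z ∈ center G) : cent (x * z) = cent x := by
  ext g
  rw [mem_cent, mem_cent, ← mul_assoc, mul_assoc x z g, ← mem_center_iff.1 hz g, ← mul_assoc]
  exact mul_left_inj z

omit hr [Finite G] in
theorem mem_center_iff_cent {g : G} : g ∈ center G ↔ cent g = ⊤ := by
  rw [centralizer_eq_top_iff_subset, Set.singleton_subset_iff, SetLike.mem_coe]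

omit hr [Finite G] in
theorem self_mem_cent (g : G) : g ∈ cent g := mem_cent.2 rfl

theorem exists_parts (g : G) : ∃ u w : G, g = u * w ∧ Commute u w ∧ (∃ i : ℕ, u = g ^ i) ∧ (∃ j : ℕ, w = g ^ j) ∧
    (∃ k, orderOf u = r ^ k) ∧ ¬ r ∣ orderOf w := by
  obtain ⟨e, f, hf, hgo⟩ := Nat.exists_eq_pow_mul_and_not_dvd (orderOf_pos g).ne' r hr.out.ne_one
  have hco : Nat.Coprime (r ^ e) f := Nat.Coprime.pow_left _ (hr.out.coprime_iff_not_dvd.2 hf)
  obtain ⟨c, hc⟩ := Nat.chineseRemainder hco 1 0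
  obtain ⟨d, hd⟩ := Nat.chineseRemainder hco 0 1
  have hcd : c + d ≡ 1 [MOD r ^ e * f] :=
    (Nat.modEq_and_modEq_iff_modEq_mul hco).1 ⟨hc.1.add hd.1, hc.2.add hd.2⟩
  refine ⟨g ^ c, g ^ d, ?_, (Commute.refl g).pow_pow c d, ⟨c, rfl⟩, ⟨d, rfl⟩, ?_, ?_⟩
  · rw [← pow_add, ← pow_one g, ← pow_mul, one_mul, pow_eq_pow_iff_modEq, hgo]
    exact hcd.symm
  · obtain ⟨k, -, hk⟩ := (Nat.dvd_prime_pow hr.out).1 (orderOf_dvd_of_pow_eq_one (x := g ^ c) (n := r ^ e) (by
      rw [← pow_mul, ← orderOf_dvd_iff_pow_eq_one, hgo, mul_comm c]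
      exact mul_dvd_mul_left _ (Nat.modEq_zero_iff_dvd.1 hc.2)))
    exact ⟨k, hk⟩
  · intro h
    refine hf (h.trans (orderOf_dvd_of_pow_eq_one ?_))
    rw [← pow_mul, ← orderOf_dvd_iff_pow_eq_one, hgo]
    exact mul_dvd_mul_right (Nat.modEq_zero_iff_dvd.1 hd.1) _

/-- an `r'`-element `c` sending the `r`-element `k` to `k * z`, both commuting with `z` -/
theorem eq_one_of_shift {c k z : G} (hc : ¬ r ∣ orderOf c) (hcz : Commute c z)
    (hz : ∃ e : ℕ, z ^ r ^ e = 1) (h : c * k * c⁻¹ = k * z) : z = 1 := by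
  have key : ∀ n : ℕ, c ^ n * k * (c ^ n)⁻¹ = k * z ^ n := by
    intro n
    induction n with
    | zero => simp
    | succ n ih =>
      calc c ^ (n + 1) * k * (c ^ (n + 1))⁻¹ = c * (c ^ n * k * (c ^ n)⁻¹) * c⁻¹ := by
            rw [pow_succ']; group
        _ = c * k * c⁻¹ * (c * z ^ n * c⁻¹) := by rw [ih]; group
        _ = k * z ^ (n + 1) := by
          rw [h, (hcz.pow_right n).eq, mul_inv_cancel_right, mul_assoc, ← pow_succ']
  obtain ⟨e, he⟩ := hz
  have h1 := key (orderOf c)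
  rw [pow_orderOf_eq_one, one_mul, inv_one, mul_one, left_eq_mul] at h1
  have h2 : orderOf z ∣ Nat.gcd (orderOf c) (r ^ e) :=
    Nat.dvd_gcd (orderOf_dvd_of_pow_eq_one h1) (orderOf_dvd_of_pow_eq_one he)
  rw [Nat.Coprime.gcd_eq_one (Nat.Coprime.pow_right _ (hr.out.coprime_iff_not_dvd.2 hc).symm)] at h2
  exact orderOf_eq_one_iff.1 (Nat.dvd_one.1 h2)

/-- a commutator with `r'`-element that is central and killed by an `r`-power is trivial -/
theorem commute_of_central_comm {u w : G} (hu : ∃ k, orderOf u = r ^ k) (hw : ¬ r ∣ orderOf w)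
    (h : ⁅w, u⁆ ∈ center G) : Commute u w := by
  set z := ⁅w, u⁆ with hz
  have hzc : ∀ g, Commute g z := fun g => mem_center_iff.1 h g
  have e : w * u * w⁻¹ = u * z := by
    rw [(hzc u).eq, hz, commutatorElement_def, inv_mul_cancel_right]
  obtain ⟨k, hk⟩ := hu
  have hu1 : u ^ r ^ k = 1 := by rw [← hk, pow_orderOf_eq_one]
  have hzk : z ^ r ^ k = 1 := by
    have h1 : (w * u * w⁻¹) ^ r ^ k = 1 := by rw [conj_pow, hu1, mul_one, mul_inv_cancel]
    rwa [e, (hzc u).mul_pow, hu1, one_mul] at h1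
  have := eq_one_of_shift hw (hzc w) ⟨k, hzk⟩ e
  rw [this, mul_one] at e
  exact (mul_inv_eq_iff_eq_mul.1 e).symm

/-- `r`-elements normalizing a Sylow `r`-subgroup lie in it -/
theorem mem_sylow_of_normalizes (R : Sylow r G) {h : G} (hh : ∃ k, orderOf h = r ^ k)
    (hn : h ∈ normalizer ((R : Subgroup G) : Set G)) : h ∈ (R : Subgroup G) := by
  refine sup_eq_left.1 (R.is_maximal' (Q := (R : Subgroup G) ⊔ zpowers h) ?_ le_sup_left) (mem_zpowers h)
  obtain ⟨k, hk⟩ := hh
  exact R.isPGroup'.to_sup_of_normal_left' (IsPGroup.of_card (n := k) (by rw [Nat.card_zpowers, hk]))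
    (zpowers_le.2 hn)

theorem exists_orderOf_pow {R : Subgroup G} (hR : IsPGroup r R) {g : G} (hg : g ∈ R) :
    ∃ k, orderOf g = r ^ k := by
  obtain ⟨k, hk⟩ := IsPGroup.iff_orderOf.1 hR ⟨g, hg⟩
  exact ⟨k, by rw [← hk, Subgroup.orderOf_mk]⟩

theorem exists_sylow_mem {g : G} (hg : ∃ k, orderOf g = r ^ k) : ∃ R : Sylow r G, g ∈ (R : Subgroup G) := by
  obtain ⟨k, hk⟩ := hg
  obtain ⟨R, hR⟩ := (IsPGroup.of_card (G := zpowers g) (n := k) (by rw [Nat.card_zpowers, hk])).exists_le_sylow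
  exact ⟨R, hR (mem_zpowers g)⟩

/-- a subgroup containing a Sylow `r`-subgroup and all elements of prime power order prime to `r` -/
theorem eq_of_prime_elems {H M : Subgroup G} (hHM : H ≤ M) (R : Sylow r G) (hRH : (R : Subgroup G) ≤ H)
    (hq : ∀ g ∈ M, ¬ r ∣ orderOf g → g ∈ H) : H = M := by
  refine le_antisymm hHM (relIndex_eq_one.1 ?_)
  by_contra hne
  obtain ⟨q, hqp, hqd⟩ := Nat.exists_prime_and_dvd hne
  by_cases hqr : q = r
  · subst hqr
    refine R.not_dvd_index (hqd.trans ?_)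
    exact (relIndex_dvd_of_le_left M hRH).trans (relIndex_dvd_index_of_le (hRH.trans hHM))
  · haveI := Fact.mk hqp
    obtain ⟨Q⟩ : Nonempty (Sylow q M) := inferInstance
    refine Q.not_dvd_index (hqd.trans (index_dvd_of_le (H := (Q : Subgroup M)) (K := H.subgroupOf M) ?_))
    intro g hg
    refine hq g g.2 fun hd => hqr ?_
    obtain ⟨k, hk⟩ := exists_orderOf_pow Q.isPGroup' hg
    rw [Subgroup.orderOf_coe, hk] at hd
    exact ((Nat.prime_dvd_prime_iff_eq hr.out hqp).1 (hr.out.dvd_of_dvd_pow hd)).symm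

end elem

/-! ### The hypothesis -/

/-- the hypothesis on `N` -/
structure Data (N : Subgroup G) (r m : ℕ) : Prop where
  normal : N.Normal
  sylow_le : ∀ R : Sylow r G, (R : Subgroup G) ≤ N
  sizes : ∀ x ∈ N, x ∉ center G → (cent x).index = m

/-- the centralizers of the non-central `r'`-elements -/
def Good (N : Subgroup G) (r : ℕ) (L : Subgroup G) : Prop :=
  ∃ w ∈ N, w ∉ center G ∧ ¬ r ∣ orderOf w ∧ L = Subgroup.centralizer ({w} : Set G)

variable {N : Subgroup G} {r m : ℕ} [hr : Fact r.Prime]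

theorem Data.eq_of_le (hD : Data N r m) {x y : G} (hx : x ∈ N) (hxz : x ∉ center G) (hy : y ∈ N)
    (hyz : y ∉ center G) (h : cent x ≤ cent y) : cent x = cent y := by
  refine Subgroup.eq_of_le_of_card_ge h (le_of_eq ?_)
  have e1 := (cent x).card_mul_index
  have e2 := (cent y).card_mul_index
  rw [hD.sizes x hx hxz, ← e2, hD.sizes y hy hyz] at e1
  refine (Nat.eq_of_mul_eq_mul_right (Nat.pos_of_ne_zero ?_) e1).symm
  rw [← hD.sizes x hx hxz]; exact index_ne_zero_of_finite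

theorem Data.cent_eq (hD : Data N r m) {u w : G} (hu : u ∈ N) (huz : u ∉ center G) (hur : ∃ k, orderOf u = r ^ k)
    (hw : w ∈ N) (hwz : w ∉ center G) (hwr : ¬ r ∣ orderOf w) (huw : Commute u w) :
    cent u = cent w := by
  obtain ⟨k, hk⟩ := hur
  have hco : Nat.Coprime (orderOf u) (orderOf w) :=
    hk ▸ Nat.Coprime.pow_left _ (hr.out.coprime_iff_not_dvd.2 hwr)
  have hdown : ∀ {a b : G}, Commute a b → Nat.Coprime (orderOf a) (orderOf b) → cent (a * b) ≤ cent a := by
    intro a b hab hco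
    obtain ⟨i, hi⟩ : ∃ i : ℕ, (a * b) ^ i = a := by
      obtain ⟨c, hc⟩ := Nat.chineseRemainder hco 1 0
      refine ⟨c, ?_⟩
      rw [hab.mul_pow, orderOf_dvd_iff_pow_eq_one.1 (Nat.modEq_zero_iff_dvd.1 hc.2), mul_one]
      calc a ^ c = a ^ 1 := pow_eq_pow_iff_modEq.2 hc.1
        _ = a := pow_one a
    calc cent (a * b) ≤ cent ((a * b) ^ i) := cent_le_pow _ i
      _ = cent a := by rw [hi]
  have h1 := hdown huw hco
  have h2 : cent (u * w) ≤ cent w := by rw [huw.eq]; exact hdown huw.symm hco.symm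
  have hne : u * w ∉ center G := fun h => huz (mem_center_iff_cent.2 (top_le_iff.1
    ((mem_center_iff_cent.1 h).symm ▸ h1)))
  rw [← hD.eq_of_le (N.mul_mem hu hw) hne hu huz h1, hD.eq_of_le (N.mul_mem hu hw) hne hw hwz h2]

theorem Data.r_mem (hD : Data N r m) {g : G} (hg : ∃ k, orderOf g = r ^ k) : g ∈ N := by
  obtain ⟨R, hR⟩ := exists_sylow_mem (r := r) hg
  exact hD.sylow_le R hR

theorem Data.pow_dvd_card_cent_ne (hD : Data N r m) {x y : G} (hx : x ∈ N) (hxz : x ∉ center G)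
    (hy : y ∈ N) (hyz : y ∉ center G) : Nat.card (cent x) = Nat.card (cent y) := by
  have e1 := (cent x).card_mul_index
  rw [hD.sizes x hx hxz, ← (cent y).card_mul_index, hD.sizes y hy hyz] at e1
  refine Nat.eq_of_mul_eq_mul_right (Nat.pos_of_ne_zero ?_) e1
  rw [← hD.sizes x hx hxz]; exact index_ne_zero_of_finite

/-- Every good subgroup is the centralizer of a non-central `r`-element. -/
theorem Good.exists_r (hD : Data N r m) (hR : ∃ R : Sylow r G, ¬ (R : Subgroup G) ≤ center G) {L : Subgroup G}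
    (hL : Good N r L) : ∃ x, (∃ k, orderOf x = r ^ k) ∧ x ∉ center G ∧ L = cent x := by
  obtain ⟨w, hw, hwz, hwr, rfl⟩ := hL
  obtain ⟨R, hRz⟩ := hR
  obtain ⟨x₀, hx₀, hx₀z⟩ := SetLike.not_le_iff_exists.1 hRz
  obtain ⟨S⟩ : Nonempty (Sylow r (cent w)) := inferInstance
  by_cases hS : ∃ s ∈ (S : Subgroup (cent w)), (s : G) ∉ center G
  · obtain ⟨s, hs, hsz⟩ := hS
    have hso : ∃ k, orderOf (s : G) = r ^ k := by
      obtain ⟨k, hk⟩ := exists_orderOf_pow S.isPGroup' hs
      exact ⟨k, by rw [Subgroup.orderOf_coe, hk]⟩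
    exact ⟨s, hso, hsz, (hD.cent_eq (hD.r_mem hso) hsz hso hw hwz hwr (mem_cent.1 s.2)).symm⟩
  exfalso
  push Not at hS
  set C := cent x₀ with hC
  have hin : (S : Subgroup (cent w)).map (cent w).subtype ≤ C := by
    rintro - ⟨s, hs, rfl⟩
    exact mem_cent.2 (mem_center_iff.1 (hS s hs) x₀).symm
  set T := ((S : Subgroup (cent w)).map (cent w).subtype).subgroupOf C with hT
  have hTp : IsPGroup r T :=
    (S.isPGroup'.map _).comap_of_injective C.subtype C.subtype_injective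
  obtain ⟨T', hT'⟩ := hTp.exists_le_sylow
  have hcard : Nat.card T = Nat.card (T' : Subgroup C) := by
    rw [hT, Nat.card_congr (subgroupOfEquivOfLe hin).toEquiv, card_map_of_injective (cent w).subtype_injective,
      S.card_eq_multiplicity, T'.card_eq_multiplicity,
      hD.pow_dvd_card_cent_ne hw hwz (hD.sylow_le R hx₀) hx₀z]
  have hTT : T = (T' : Subgroup C) := Subgroup.eq_of_le_of_card_ge hT' hcard.ge
  haveI hn : ((zpowers x₀).subgroupOf C).Normal := ⟨fun n hn g => by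
    rw [mem_subgroupOf] at hn ⊢
    obtain ⟨i, hi⟩ := mem_zpowers_iff.1 hn
    have hc : Commute (g : G) (n : G) := hi ▸ ((show Commute (g : G) x₀ from mem_cent.1 g.2)).zpow_right i
    simp only [Subgroup.coe_mul, Subgroup.coe_inv]
    rw [hc.eq, mul_inv_cancel_right]
    exact hn⟩
  have hxp : IsPGroup r ((zpowers x₀).subgroupOf C) := by
    obtain ⟨k, hk⟩ := exists_orderOf_pow R.isPGroup' hx₀
    exact (IsPGroup.of_card (n := k) (by rw [Nat.card_zpowers, hk])).comap_of_injective C.subtype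
      C.subtype_injective
  have h := sup_eq_left.1 (T'.is_maximal' (T'.isPGroup'.to_sup_of_normal_right hxp) le_sup_left)
    (show (⟨x₀, self_mem_cent x₀⟩ : C) ∈ (zpowers x₀).subgroupOf C from mem_zpowers x₀)
  rw [← hTT, hT, mem_subgroupOf] at h
  obtain ⟨s, hs, hse⟩ := h
  exact hx₀z (by have h' := hS s hs; rwa [show (s : G) = x₀ from hse] at h')

theorem Good.cent_eq (hD : Data N r m) (hR : ∃ R : Sylow r G, ¬ (R : Subgroup G) ≤ center G)
    {L : Subgroup G} (hL : Good N r L) {g : G} (hg : g ∈ L) (hgN : g ∈ N) (hgz : g ∉ center G) :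
    cent g = L := by
  obtain ⟨x, hxr, hxz, hxL⟩ := hL.exists_r hD hR
  obtain ⟨w, hw, hwz, hwr, hwL⟩ := hL
  obtain ⟨u, v, rfl, huv, ⟨i, hi⟩, ⟨j, hj⟩, hu, hv⟩ := exists_parts (r := r) g
  have huN : u ∈ N := hi ▸ N.pow_mem hgN i
  have hvN : v ∈ N := hj ▸ N.pow_mem hgN j
  have huL : u ∈ L := hi ▸ L.pow_mem hg i
  have hvL : v ∈ L := hj ▸ L.pow_mem hg j
  by_cases huz : u ∈ center G
  · have hvz : v ∉ center G := fun h => hgz (mul_mem huz h)
    rw [← mem_center_iff.1 huz v, cent_mul_central huz,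
      ← hD.cent_eq (hD.r_mem hxr) hxz hxr hvN hvz hv (mem_cent.1 (hxL ▸ hvL)).symm, ← hxL]
  · have hu' : cent u = L := by
      rw [hwL]; exact hD.cent_eq huN huz hu hw hwz hwr (mem_cent.1 (hwL ▸ huL))
    rw [← hu']
    exact hD.eq_of_le (N.mul_mem huN hvN) hgz huN huz (by
      have := cent_le_pow (u * v) i
      rwa [← hi] at this)

theorem Good.comm (hD : Data N r m) (hR : ∃ R : Sylow r G, ¬ (R : Subgroup G) ≤ center G)
    {L : Subgroup G} (hL : Good N r L) {g h : G} (hg : g ∈ L) (hgN : g ∈ N) (hh : h ∈ L) (hhN : h ∈ N) :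
    g * h = h * g := by
  by_cases hgz : g ∈ center G
  · exact (mem_center_iff.1 hgz h).symm
  · exact (mem_cent.1 ((hL.cent_eq hD hR hg hgN hgz).symm ▸ hh : h ∈ cent g)).symm

theorem Good.eq_of_mem (hD : Data N r m) (hR : ∃ R : Sylow r G, ¬ (R : Subgroup G) ≤ center G)
    {L L' : Subgroup G} (hL : Good N r L) (hL' : Good N r L') {g : G} (hg : g ∈ L) (hg' : g ∈ L')
    (hgN : g ∈ N) (hgz : g ∉ center G) : L = L' := by
  rw [← hL.cent_eq hD hR hg hgN hgz, hL'.cent_eq hD hR hg' hgN hgz]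

omit hr in
theorem map_cent (c g : G) : (cent g).map (MulAut.conj c).toMonoidHom = cent (c * g * c⁻¹) := by
  ext y
  rw [mem_map_equiv, MulAut.conj_symm_apply, mem_cent, mem_cent]
  constructor
  · intro h
    calc y * (c * g * c⁻¹) = c * (c⁻¹ * y * c * g) * c⁻¹ := by group
      _ = c * (g * (c⁻¹ * y * c)) * c⁻¹ := by rw [h]
      _ = c * g * c⁻¹ * y := by group
  · intro h
    calc c⁻¹ * y * c * g = c⁻¹ * (y * (c * g * c⁻¹)) * c := by group
      _ = c⁻¹ * (c * g * c⁻¹ * y) * c := by rw [h]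
      _ = g * (c⁻¹ * y * c) := by group

theorem conj_mem_center {c g : G} : c * g * c⁻¹ ∈ center G ↔ g ∈ center G := by
  constructor
  · intro h
    have := Subgroup.Normal.conj_mem (inferInstance : (center G).Normal) _ h c⁻¹
    rwa [inv_inv, show c⁻¹ * (c * g * c⁻¹) * c = g by group] at this
  · exact fun h => Subgroup.Normal.conj_mem inferInstance _ h c

theorem Good.conj (hD : Data N r m) {L : Subgroup G} (hL : Good N r L) (c : G) :
    Good N r (L.map (MulAut.conj c).toMonoidHom) := by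
  obtain ⟨w, hw, hwz, hwr, rfl⟩ := hL
  refine ⟨c * w * c⁻¹, hD.normal.conj_mem w hw c, fun h => hwz (conj_mem_center.1 h), ?_, map_cent c w⟩
  rwa [show c * w * c⁻¹ = MulAut.conj c w from rfl, MulEquiv.orderOf_eq]

/-- `c` maps one non-central element of `L ∩ N` into `L`: then it normalizes `L`. -/
theorem Good.normalizes (hD : Data N r m) (hR : ∃ R : Sylow r G, ¬ (R : Subgroup G) ≤ center G)
    {L : Subgroup G} (hL : Good N r L) {c x : G} (hx : x ∈ L) (hxN : x ∈ N) (hxz : x ∉ center G)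
    (hcx : c * x * c⁻¹ ∈ L) : ∀ y ∈ L, c * y * c⁻¹ ∈ L := by
  intro y hy
  have e : L.map (MulAut.conj c).toMonoidHom = L :=
    (hL.conj hD c).eq_of_mem hD hR hL (mem_map_of_mem _ hx) hcx (hD.normal.conj_mem x hxN c)
      (fun h => hxz (conj_mem_center.1 h))
  rw [← e]; exact mem_map_of_mem _ hy

/-- Two commuting, independent elements of order `r` modulo `L` cannot normalize `L`. -/
theorem Good.not_elementary (hD : Data N r m) (hR : ∃ R : Sylow r G, ¬ (R : Subgroup G) ≤ center G)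
    {L : Subgroup G} (hL : Good N r L) {a b : G} (ha : ∀ y ∈ L, a * y * a⁻¹ ∈ L)
    (hb : ∀ y ∈ L, b * y * b⁻¹ ∈ L) (har : a ^ r ∈ L ⊓ N) (hbr : b ^ r ∈ L ⊓ N) (hab : ⁅a, b⁆ ∈ L ⊓ N)
    (hbL : b ∉ L) (hind : ∀ t : ℕ, a * b ^ t ∉ L) : False := by
  obtain ⟨y₀, hy₀N, hy₀z, hy₀r, hy₀L⟩ := id hL
  haveI := hD.normal
  set A := L ⊓ N with hA
  have hcomm : ∀ g ∈ A, ∀ h ∈ A, g * h = h * g := fun g hg h hh => hL.comm hD hR hg.1 hg.2 hh.1 hh.2
  letI : CommGroup A := { (inferInstance : Group A) with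
    mul_comm := fun g h => Subtype.ext (hcomm g g.2 h h.2) }
  have hAa : ∀ v ∈ A, a * v * a⁻¹ ∈ A := fun v hv => ⟨ha v hv.1, hD.normal.conj_mem v hv.2 a⟩
  have hAb : ∀ v ∈ A, b * v * b⁻¹ ∈ A := fun v hv => ⟨hb v hv.1, hD.normal.conj_mem v hv.2 b⟩
  -- the action of `a ^ i * b ^ j`
  let c : ℕ → ℕ → G := fun i j => a ^ i * b ^ j
  have hpow : ∀ (g : G), (∀ v ∈ A, g * v * g⁻¹ ∈ A) → ∀ (n : ℕ) (v : G), v ∈ A → g ^ n * v * (g ^ n)⁻¹ ∈ A := by
    intro g hg n v hv
    induction n with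
    | zero => simpa using hv
    | succ n ih =>
      rw [show g ^ (n + 1) * v * (g ^ (n + 1))⁻¹ = g * (g ^ n * v * (g ^ n)⁻¹) * g⁻¹ by rw [pow_succ']; group]
      exact hg _ ih
  have hcA : ∀ i j, ∀ v ∈ A, c i j * v * (c i j)⁻¹ ∈ A := fun i j v hv => by
    rw [show c i j * v * (c i j)⁻¹ = a ^ i * (b ^ j * v * (b ^ j)⁻¹) * (a ^ i)⁻¹ by simp only [c]; group]
    exact hpow a hAa i _ (hpow b hAb j v hv)
  -- elements of `A` act trivially, so only the class modulo `A` matters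
  have htriv : ∀ g g' : G, g⁻¹ * g' ∈ A → ∀ v ∈ A, g * v * g⁻¹ = g' * v * g'⁻¹ := by
    intro g g' h v hv
    have := hcomm _ h v hv
    calc g * v * g⁻¹ = g * (v * (g⁻¹ * g')) * g'⁻¹ := by group
      _ = g * ((g⁻¹ * g') * v) * g'⁻¹ := by rw [this]
      _ = g' * v * g'⁻¹ := by group
  have hswap : ∀ (i : ℕ) (v : G), v ∈ A → b * (a ^ i * v * (a ^ i)⁻¹) * b⁻¹ = a ^ i * (b * v * b⁻¹) * (a ^ i)⁻¹ := by
    intro i v hv
    induction i with
    | zero => simp
    | succ n ih =>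
      have h1 : ∀ u ∈ A, b * (a * u * a⁻¹) * b⁻¹ = a * (b * u * b⁻¹) * a⁻¹ := by
        intro u hu
        have := htriv (b * a) (a * b) (by
          rw [show (b * a)⁻¹ * (a * b) = a⁻¹ * (b⁻¹ * ⁅a, b⁆ * b) * a by simp only [commutatorElement_def]; group]
          have e1 : b⁻¹ * ⁅a, b⁆ * b ∈ A := by
            have := htriv b⁻¹ b⁻¹ (by rw [inv_inv, mul_inv_cancel]; exact A.one_mem) _ hab
            have h' := hpow b hAb (orderOf b - 1) _ hab
            rwa [← inv_eq_of_mul_eq_one_left (a := b ^ (orderOf b - 1)) (b := b) (by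
              rw [← pow_succ, Nat.sub_add_cancel (orderOf_pos b), pow_orderOf_eq_one]), inv_inv] at h'
          have h' := hpow a hAa (orderOf a - 1) _ e1
          rwa [← inv_eq_of_mul_eq_one_left (a := a ^ (orderOf a - 1)) (b := a) (by
            rw [← pow_succ, Nat.sub_add_cancel (orderOf_pos a), pow_orderOf_eq_one]), inv_inv] at h') u hu
        calc b * (a * u * a⁻¹) * b⁻¹ = b * a * u * (b * a)⁻¹ := by group
          _ = a * b * u * (a * b)⁻¹ := this
          _ = a * (b * u * b⁻¹) * a⁻¹ := by group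
      calc b * (a ^ (n + 1) * v * (a ^ (n + 1))⁻¹) * b⁻¹
          = b * (a * (a ^ n * v * (a ^ n)⁻¹) * a⁻¹) * b⁻¹ := by rw [pow_succ']; group
        _ = a * (b * (a ^ n * v * (a ^ n)⁻¹) * b⁻¹) * a⁻¹ := h1 _ (hpow a hAa n v hv)
        _ = a ^ (n + 1) * (b * v * b⁻¹) * (a ^ (n + 1))⁻¹ := by rw [ih, pow_succ']; group
  have hy₀A : y₀ ∈ A := ⟨hy₀L.symm ▸ self_mem_cent y₀, hy₀N⟩
  let ψ : ℕ → ℕ → A := fun i j => ⟨c i j * y₀ * (c i j)⁻¹, hcA i j y₀ hy₀A⟩
  have hper : ∀ (g : G), (∀ v ∈ A, g * v * g⁻¹ ∈ A) → g ^ r ∈ A → ∀ i, ∀ v ∈ A,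
      g ^ (i % r) * v * (g ^ (i % r))⁻¹ = g ^ i * v * (g ^ i)⁻¹ := by
    intro g _ hgr i v hv
    refine htriv _ _ ?_ v hv
    have e : g ^ i = g ^ (i % r) * (g ^ r) ^ (i / r) := by rw [← pow_mul, ← pow_add, Nat.mod_add_div]
    rw [e, inv_mul_cancel_left]; exact A.pow_mem hgr _
  have hψmod : ∀ i j, ψ (i % r) (j % r) = ψ i j := fun i j => Subtype.ext (by
    show c (i % r) (j % r) * y₀ * (c (i % r) (j % r))⁻¹ = c i j * y₀ * (c i j)⁻¹
    calc c (i % r) (j % r) * y₀ * (c (i % r) (j % r))⁻¹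
        = a ^ (i % r) * (b ^ (j % r) * y₀ * (b ^ (j % r))⁻¹) * (a ^ (i % r))⁻¹ := by simp only [c]; group
      _ = a ^ i * (b ^ j * y₀ * (b ^ j)⁻¹) * (a ^ i)⁻¹ := by
        rw [hper b hAb hbr j y₀ hy₀A, hper a hAa har i _ (hpow b hAb j y₀ hy₀A)]
      _ = c i j * y₀ * (c i j)⁻¹ := by simp only [c]; group)
  haveI : NeZero r := ⟨hr.out.ne_zero⟩
  let φ : ZMod r → ZMod r → A := fun i j => ψ i.val j.val
  have hφ : ∀ i j : ℕ, φ (i : ZMod r) (j : ZMod r) = ψ i j := fun i j => by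
    simp only [φ, ZMod.val_natCast]; exact hψmod i j
  -- central values
  have hfix : ∀ g : G, g ∉ L → (∀ v : A, g * (v : G) * g⁻¹ = v → (v : G) ∈ center G) := by
    intro g hg v hv
    by_contra hvz
    refine hg ((hL.cent_eq hD hR v.2.1 v.2.2 hvz) ▸ mem_cent.2 ?_)
    exact mul_inv_eq_iff_eq_mul.1 hv
  let Z := (center G).subgroupOf A
  -- a conjugation as an endomorphism of `A`
  let cj : (g : G) → (∀ v ∈ A, g * v * g⁻¹ ∈ A) → (A →* A) := fun g hg =>
    { toFun := fun v => ⟨g * v * g⁻¹, hg v v.2⟩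
      map_one' := Subtype.ext (by show g * 1 * g⁻¹ = 1; group)
      map_mul' := fun u v => Subtype.ext (by
        show g * (u * v : G) * g⁻¹ = g * u * g⁻¹ * (g * v * g⁻¹)
        group) }
  have hline : ∀ t : ℕ, (∏ s : ZMod r, φ s (s * (t : ZMod r))) ∈ Z := by
    intro t
    have hg : ∀ v ∈ A, (a * b ^ t) * v * (a * b ^ t)⁻¹ ∈ A := fun v hv => by
      have := hcA 1 t v hv; simpa [c] using this
    refine hfix _ (hind t) _ ?_
    have hstep : ∀ s : ZMod r, cj _ hg (φ s (s * (t : ZMod r))) = φ (s + 1) ((s + 1) * (t : ZMod r)) := by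
      intro s
      obtain ⟨i, rfl⟩ : ∃ i : ℕ, (i : ZMod r) = s := ⟨s.val, ZMod.natCast_zmod_val s⟩
      have e1 : ((i : ZMod r) + 1) = ((i + 1 : ℕ) : ZMod r) := by push_cast; ring
      rw [e1, ← Nat.cast_mul, ← Nat.cast_mul, hφ, hφ]
      refine Subtype.ext ?_
      show a * b ^ t * (c i (i * t) * y₀ * (c i (i * t))⁻¹) * (a * b ^ t)⁻¹ = c (i + 1) ((i + 1) * t) * y₀ * _
      have h1 : ∀ n, ∀ v ∈ A, b ^ n * (a ^ i * v * (a ^ i)⁻¹) * (b ^ n)⁻¹ = a ^ i * (b ^ n * v * (b ^ n)⁻¹) * (a ^ i)⁻¹ := by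
        intro n v hv
        induction n with
        | zero => simp
        | succ k ih =>
          calc b ^ (k + 1) * (a ^ i * v * (a ^ i)⁻¹) * (b ^ (k + 1))⁻¹
              = b * (b ^ k * (a ^ i * v * (a ^ i)⁻¹) * (b ^ k)⁻¹) * b⁻¹ := by rw [pow_succ']; group
            _ = b * (a ^ i * (b ^ k * v * (b ^ k)⁻¹) * (a ^ i)⁻¹) * b⁻¹ := by rw [ih]
            _ = a ^ i * (b ^ (k + 1) * v * (b ^ (k + 1))⁻¹) * (a ^ i)⁻¹ := by
              rw [hswap i _ (hpow b hAb k v hv), pow_succ']; group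
      calc a * b ^ t * (c i (i * t) * y₀ * (c i (i * t))⁻¹) * (a * b ^ t)⁻¹
          = a * (b ^ t * (a ^ i * (b ^ (i * t) * y₀ * (b ^ (i * t))⁻¹) * (a ^ i)⁻¹) * (b ^ t)⁻¹) * a⁻¹ := by
            simp only [c]; group
        _ = a * (a ^ i * (b ^ t * (b ^ (i * t) * y₀ * (b ^ (i * t))⁻¹) * (b ^ t)⁻¹) * (a ^ i)⁻¹) * a⁻¹ := by
            rw [h1 t _ (hpow b hAb _ y₀ hy₀A)]
        _ = c (i + 1) ((i + 1) * t) * y₀ * (c (i + 1) ((i + 1) * t))⁻¹ := by
            simp only [c]
            rw [show (i + 1) * t = t + i * t by ring, pow_add, pow_succ']; group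
    show ((cj _ hg (∏ s : ZMod r, φ s (s * (t : ZMod r))) : A) : G) = _
    rw [map_prod]
    congr 1
    exact Fintype.prod_equiv (Equiv.addRight 1) _ _ hstep
  have hrow : ∀ i : ZMod r, (∏ j : ZMod r, φ i j) ∈ Z := by
    intro i
    refine hfix b hbL _ ?_
    have hstep : ∀ j : ZMod r, cj b hAb (φ i j) = φ i (j + 1) := by
      intro j
      obtain ⟨k, rfl⟩ : ∃ k : ℕ, (k : ZMod r) = j := ⟨j.val, ZMod.natCast_zmod_val j⟩
      obtain ⟨l, rfl⟩ : ∃ l : ℕ, (l : ZMod r) = i := ⟨i.val, ZMod.natCast_zmod_val i⟩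
      rw [show ((k : ZMod r) + 1) = ((k + 1 : ℕ) : ZMod r) by push_cast; ring, hφ, hφ]
      refine Subtype.ext ?_
      show b * (c l k * y₀ * (c l k)⁻¹) * b⁻¹ = c l (k + 1) * y₀ * _
      calc b * (c l k * y₀ * (c l k)⁻¹) * b⁻¹
          = b * (a ^ l * (b ^ k * y₀ * (b ^ k)⁻¹) * (a ^ l)⁻¹) * b⁻¹ := by simp only [c]; group
        _ = c l (k + 1) * y₀ * (c l (k + 1))⁻¹ := by
          rw [hswap l _ (hpow b hAb k y₀ hy₀A)]; simp only [c]; rw [pow_succ']; group
    show ((cj b hAb (∏ j : ZMod r, φ i j) : A) : G) = _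
    rw [map_prod]
    congr 1
    exact Fintype.prod_equiv (Equiv.addRight 1) _ _ hstep
  -- the identity between lines and rows
  have hall : (∏ t : ZMod r, ∏ s : ZMod r, φ s (s * t)) ∈ Z := by
    refine Subgroup.prod_mem _ fun t _ => ?_
    have := hline t.val
    rwa [ZMod.natCast_zmod_val] at this
  rw [Finset.prod_comm, ← Finset.mul_prod_erase Finset.univ _ (Finset.mem_univ (0 : ZMod r))] at hall
  have hrest : (∏ s ∈ Finset.univ.erase (0 : ZMod r), ∏ t : ZMod r, φ s (s * t)) ∈ Z := by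
    refine Subgroup.prod_mem _ fun s hs => ?_
    rw [Fintype.prod_equiv (Equiv.mulLeft₀ s (Finset.ne_of_mem_erase hs)) (fun t => φ s (s * t)) (φ s)
      fun t => rfl]
    exact hrow s
  have h0 := (Subgroup.mul_mem_cancel_right Z hrest).1 hall
  simp only [zero_mul, Finset.prod_const, Finset.card_univ, ZMod.card] at h0
  have hy : y₀ ^ r ∈ center G := by
    have : ((φ 0 0 ^ r : A) : G) ∈ center G := h0
    simpa [φ, ψ, c] using this
  refine hy₀z ?_
  obtain ⟨i, hi⟩ : ∃ i, (y₀ ^ r) ^ i = y₀ :=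
    exists_pow_eq_self_of_coprime (hr.out.coprime_iff_not_dvd.2 hy₀r)
  rw [← hi]; exact pow_mem hy i

/-! ### Sylow subgroups of centralizers -/

/-- a central `r`-element of a subgroup lies in each subgroup containing one of its Sylow subgroups -/
theorem mem_of_card_eq {C₁ C₂ : Subgroup G} (hc : Nat.card C₁ = Nat.card C₂) (T : Sylow r C₁)
    (hT : (T : Subgroup C₁).map C₁.subtype ≤ C₂) {u : G} (hu : u ∈ C₂) (hur : ∃ k, orderOf u = r ^ k)
    (hucen : ∀ y ∈ C₂, u * y = y * u) : u ∈ (T : Subgroup C₁).map C₁.subtype := by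
  set T₂ := ((T : Subgroup C₁).map C₁.subtype).subgroupOf C₂ with hT₂
  have hTp : IsPGroup r T₂ := (T.isPGroup'.map _).comap_of_injective C₂.subtype C₂.subtype_injective
  obtain ⟨T', hT'⟩ := hTp.exists_le_sylow
  have hcard : Nat.card T₂ = Nat.card (T' : Subgroup C₂) := by
    rw [hT₂, Nat.card_congr (subgroupOfEquivOfLe hT).toEquiv, card_map_of_injective C₁.subtype_injective,
      T.card_eq_multiplicity, T'.card_eq_multiplicity, hc]
  have hTT : T₂ = (T' : Subgroup C₂) := Subgroup.eq_of_le_of_card_ge hT' hcard.ge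
  haveI hn : (zpowers (⟨u, hu⟩ : C₂)).Normal :=
    PGroup.zpowers_normal_of_mem_center (mem_center_iff.2 fun g => Subtype.ext (hucen g g.2).symm)
  have hxp : IsPGroup r (zpowers (⟨u, hu⟩ : C₂)) := by
    obtain ⟨k, hk⟩ := hur
    exact IsPGroup.of_card (n := k) (by rw [Nat.card_zpowers, Subgroup.orderOf_mk, hk])
  have h := sup_eq_left.1 (T'.is_maximal' (T'.isPGroup'.to_sup_of_normal_right hxp) le_sup_left)
    (mem_zpowers (⟨u, hu⟩ : C₂))
  rw [← hTT, hT₂, mem_subgroupOf] at h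
  exact h

theorem card_inf_of_normalizes (R : Sylow r G) {L : Subgroup G}
    (h : (R : Subgroup G) ≤ normalizer (L : Set G)) :
    Nat.card ((R : Subgroup G) ⊓ L : Subgroup G) = r ^ (Nat.card L).factorization r := by
  set S := ((R : Subgroup G) ⊓ L).subgroupOf L with hS
  have hSp : IsPGroup r S :=
    (R.isPGroup'.to_le inf_le_left).comap_of_injective L.subtype L.subtype_injective
  obtain ⟨T, hT⟩ := hSp.exists_le_sylow
  rw [← T.card_eq_multiplicity]
  rw [← Nat.card_congr (subgroupOfEquivOfLe (inf_le_right : (R : Subgroup G) ⊓ L ≤ L)).toEquiv]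
  refine congrArg (fun K : Subgroup L => Nat.card K) (le_antisymm hT fun t ht => ?_)
  set TG := (T : Subgroup L).map L.subtype
  have hTG : IsPGroup r TG := T.isPGroup'.map _
  set H := (R : Subgroup G) ⊔ L with hH
  haveI : (L.subgroupOf H).Normal := normal_subgroupOf_iff_le_normalizer le_sup_right |>.2
    (sup_le h le_normalizer)
  let R' : Sylow r H := R.subtype le_sup_left
  have hd := relIndex_dvd_index_of_normal_right ((R : Subgroup G).subgroupOf H) (L.subgroupOf H)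
  rw [relIndex_subgroupOf le_sup_right] at hd
  have hR' : ¬ r ∣ ((R : Subgroup G).subgroupOf H).index := R'.not_dvd_index
  have hrel : ¬ r ∣ S.index := fun hdd => hR' (by
    refine Dvd.dvd.trans ?_ hd
    rw [← inf_relIndex_right]
    exact hdd)
  by_contra htS
  have hlt : S < (T : Subgroup L) := lt_of_le_of_ne hT fun e => htS (by rw [hS] at e; rw [e]; exact ht)
  apply hrel
  obtain ⟨j, hj⟩ := T.isPGroup'.index (S.subgroupOf (T : Subgroup L))
  have hj0 : j ≠ 0 := fun e => hlt.not_ge (relIndex_eq_one.1 (by rw [e, pow_zero] at hj; exact hj))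
  have := (dvd_pow_self r hj0)
  rw [← hj] at this
  exact this.trans (relIndex_dvd_index_of_le hT)

/-- Some Sylow subgroup meets `L` in a Sylow subgroup of `L`. -/
theorem exists_full (L : Subgroup G) :
    ∃ R : Sylow r G, Nat.card ((R : Subgroup G) ⊓ L : Subgroup G) = r ^ (Nat.card L).factorization r := by
  obtain ⟨T⟩ : Nonempty (Sylow r L) := inferInstance
  obtain ⟨R, hR⟩ := (T.isPGroup'.map L.subtype).exists_le_sylow
  refine ⟨R, ?_⟩
  rw [← T.card_eq_multiplicity, ← card_map_of_injective L.subtype_injective (K := (T : Subgroup L))]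
  refine congrArg (fun K : Subgroup G => Nat.card K)
    (le_antisymm ?_ (le_inf hR (map_subtype_le _)))
  have h1 : IsPGroup r (((R : Subgroup G) ⊓ L).subgroupOf L) :=
    (R.isPGroup'.to_le inf_le_left).comap_of_injective L.subtype L.subtype_injective
  have h2 := T.is_maximal' h1 fun t ht => ⟨hR ⟨t, ht, rfl⟩, t.2⟩
  intro g hg
  exact ⟨⟨g, hg.2⟩, by rw [SetLike.mem_coe, ← h2]; exact hg, rfl⟩

/-! ### Type two elements -/

/-- an `r`-element commuting with no non-central `r'`-element of `N` -/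
def TypeII (N : Subgroup G) (r : ℕ) (g : G) : Prop :=
  g ∉ center G ∧ (∃ k, orderOf g = r ^ k) ∧
    ∀ w ∈ N, ¬ r ∣ orderOf w → Commute g w → w ∈ center G

theorem good_or_typeII (hD : Data N r m) {x : G} (hxz : x ∉ center G) (hxr : ∃ k, orderOf x = r ^ k) :
    Good N r (cent x) ∨ TypeII N r x := by
  by_cases h : ∃ w ∈ N, ¬ r ∣ orderOf w ∧ Commute x w ∧ w ∉ center G
  · obtain ⟨w, hw, hwr, hc, hwz⟩ := h
    exact Or.inl ⟨w, hw, hwz, hwr, hD.cent_eq (hD.r_mem hxr) hxz hxr hw hwz hwr hc⟩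
  · push Not at h
    exact Or.inr ⟨hxz, hxr, h⟩

theorem TypeII.not_good {x : G} (h : TypeII N r x) : ¬ Good N r (cent x) := fun ⟨w, hw, hwz, hwr, e⟩ =>
  hwz (h.2.2 w hw hwr (mem_cent.1 (e ▸ self_mem_cent x)))

theorem TypeII.conj (hD : Data N r m) {x : G} (h : TypeII N r x) (c : G) : TypeII N r (c * x * c⁻¹) := by
  refine ⟨fun h' => h.1 (conj_mem_center.1 h'), ?_, fun w hw hwr hc => ?_⟩
  · obtain ⟨k, hk⟩ := h.2.1
    exact ⟨k, by rw [← hk]; exact MulEquiv.orderOf_eq (MulAut.conj c) x⟩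
  have e : c⁻¹ * w * c ∈ center G := by
    refine h.2.2 _ (by simpa using hD.normal.conj_mem w hw c⁻¹) ?_ ?_
    · have := MulEquiv.orderOf_eq (MulAut.conj c⁻¹) w
      rw [MulAut.conj_apply, inv_inv] at this
      rwa [this]
    · show x * (c⁻¹ * w * c) = c⁻¹ * w * c * x
      calc x * (c⁻¹ * w * c) = c⁻¹ * (c * x * c⁻¹ * w) * c := by group
        _ = c⁻¹ * (w * (c * x * c⁻¹)) * c := by rw [hc.eq]
        _ = c⁻¹ * w * c * x := by group
  have := conj_mem_center (c := c).2 e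
  rwa [show c * (c⁻¹ * w * c) * c⁻¹ = w by group] at this

theorem dvd_sub_one_of_pow {b o : ℕ} {i : ℤ} (ho : ¬ r ∣ o) (h1 : (r : ℤ) ∣ i - 1)
    (h2 : ((r ^ b : ℕ) : ℤ) ∣ i ^ o - 1) : ((r ^ b : ℕ) : ℤ) ∣ i - 1 := by
  rw [← geom_sum_mul] at h2
  refine (IsCoprime.dvd_of_dvd_mul_left ?_ h2)
  push_cast
  refine IsCoprime.pow_left ((Nat.prime_iff_prime_int.1 hr.out).coprime_iff_not_dvd.2 fun hd => ho ?_)
  have hsum : (r : ℤ) ∣ (∑ s ∈ Finset.range o, i ^ s) - (o : ℤ) := by
    have e : (∑ s ∈ Finset.range o, i ^ s) - (o : ℤ) = ∑ s ∈ Finset.range o, (i ^ s - 1) := by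
      rw [Finset.sum_sub_distrib, Finset.sum_const, Finset.card_range, nsmul_eq_mul, mul_one]
    rw [e]
    exact Finset.dvd_sum fun s _ => h1.trans (sub_one_dvd_pow_sub_one i s)
  have := dvd_sub hd hsum
  rw [sub_sub_cancel] at this
  exact_mod_cast this

/-- The main contradiction: a central-modulo-`Z` element of type II with cyclic centralizer in `R`. -/
theorem false_of_typeII (hD : Data N r m) (R : Sylow r G) (hRz : ¬ (R : Subgroup G) ≤ center G) {g k : G}
    (hg : g ∈ (R : Subgroup G)) (hII : TypeII N r g) (hgc : ∀ h ∈ (R : Subgroup G), ⁅h, g⁆ ∈ center G)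
    (hk : k ∈ (R : Subgroup G)) (hkg : Commute g k)
    (hK : ∀ c ∈ (R : Subgroup G), Commute g c → ∃ i : ℤ, (k ^ i)⁻¹ * c ∈ center G)
    {L : Subgroup G} (hL : Good N r L) {x : G} (hx : x ∈ (R : Subgroup G)) (hxL : x ∈ L) (hxz : x ∉ center G) :
    False := by
  have hRe : ∃ R : Sylow r G, ¬ (R : Subgroup G) ≤ center G := ⟨R, hRz⟩
  have hgr := exists_orderOf_pow R.isPGroup' hg
  have hcent : ∀ {a : G}, a ∈ center G → ∀ t, Commute t a := fun ha t => mem_center_iff.1 ha t
  let M : Subgroup G :=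
    { carrier := {n | n ∈ N ∧ ⁅n, g⁆ ∈ center G}
      mul_mem' := fun {a b} ha hb => ⟨N.mul_mem ha.1 hb.1, by
        rw [show ⁅a * b, g⁆ = a * ⁅b, g⁆ * a⁻¹ * ⁅a, g⁆ by simp only [commutatorElement_def]; group]
        exact mul_mem (conj_mem_center.2 hb.2) ha.2⟩
      one_mem' := ⟨N.one_mem, by rw [commutatorElement_one_left]; exact one_mem _⟩
      inv_mem' := fun {a} ha => ⟨N.inv_mem ha.1, by
        rw [show ⁅a⁻¹, g⁆ = a⁻¹ * (⁅a, g⁆)⁻¹ * a by simp only [commutatorElement_def]; group]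
        have := conj_mem_center (c := a⁻¹).2 (inv_mem ha.2)
        rwa [inv_inv] at this⟩ }
  have hMr' : ∀ n ∈ M, ¬ r ∣ orderOf n → n ∈ center G := fun n hn hnr =>
    hII.2.2 n hn.1 hnr (commute_of_central_comm hgr hnr hn.2)
  have hM : (R : Subgroup G) ⊔ center G ⊓ M = M :=
    eq_of_prime_elems (sup_le (fun h hh => ⟨hD.sylow_le R hh, hgc h hh⟩) inf_le_right) R le_sup_left
      fun n hn hnr => mem_sup_right ⟨hMr' n hn hnr, hn⟩
  -- the `r'`-part of the centralizer of `g` centralizes `R`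
  have hcR : ∀ c : G, ¬ r ∣ orderOf c → Commute c g → ∀ h ∈ (R : Subgroup G), Commute c h := by
    intro c hc hcg
    have hnorm : ∀ h ∈ (R : Subgroup G), c * h * c⁻¹ ∈ (R : Subgroup G) := by
      intro h hh
      have e : ⁅c * h * c⁻¹, g⁆ = c * ⁅h, g⁆ * c⁻¹ := by
        calc ⁅c * h * c⁻¹, g⁆ = c * h * (c⁻¹ * g * c) * h⁻¹ * (c⁻¹ * g⁻¹ * c) * c⁻¹ := by
              simp only [commutatorElement_def]; group
          _ = c * ⁅h, g⁆ * c⁻¹ := by
              rw [mul_assoc c⁻¹ g c, ← hcg.eq, inv_mul_cancel_left, mul_assoc c⁻¹ g⁻¹ c,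
                ← hcg.inv_right.eq, inv_mul_cancel_left]
              simp only [commutatorElement_def]; group
      have hmem : c * h * c⁻¹ ∈ (R : Subgroup G) ⊔ center G ⊓ M := by
        rw [hM]
        exact ⟨hD.normal.conj_mem h (hD.sylow_le R hh) c, e ▸ conj_mem_center.2 (hgc h hh)⟩
      refine mem_sylow_of_normalizes R ?_ ?_
      · obtain ⟨j, hj⟩ := exists_orderOf_pow R.isPGroup' hh
        exact ⟨j, by rw [← hj]; exact MulEquiv.orderOf_eq (MulAut.conj c) h⟩
      · exact (sup_le (le_normalizer) (inf_le_left.trans ((center_le_centralizer _).trans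
          (centralizer_le_normalizer _))) : (R : Subgroup G) ⊔ center G ⊓ M ≤ _) hmem
    -- on the centralizer of `g` in `R`
    have hck : Commute c k := by
      have h1 : Commute g (c * k * c⁻¹) := by
        show g * (c * k * c⁻¹) = c * k * c⁻¹ * g
        calc g * (c * k * c⁻¹) = c * (g * k) * c⁻¹ := by rw [← mul_assoc, ← mul_assoc, ← hcg.eq]; group
          _ = c * (k * g) * c⁻¹ := by rw [hkg.eq]
          _ = c * k * c⁻¹ * g := by
            rw [mul_assoc _ c⁻¹ g, hcg.inv_left.eq]; group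
      obtain ⟨i, hi⟩ := hK _ (hnorm k hk) h1
      obtain ⟨j, hj⟩ := hK g hg (Commute.refl g)
      have hmk : ∀ {a b : G}, a⁻¹ * b ∈ center G → (a : G ⧸ center G) = b := fun h => QuotientGroup.eq.2 h
      set K : G ⧸ center G := (k : G ⧸ center G) with hKdef
      set C : G ⧸ center G := (c : G ⧸ center G) with hCdef
      have hiK : C * K * C⁻¹ = K ^ i := by
        rw [hKdef, hCdef, ← QuotientGroup.mk_inv, ← QuotientGroup.mk_mul, ← QuotientGroup.mk_mul,
          ← QuotientGroup.mk_zpow]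
        exact (hmk hi).symm
      have hjK : (g : G ⧸ center G) = K ^ j := by
        rw [hKdef, ← QuotientGroup.mk_zpow]; exact (hmk hj).symm
      have hCg : Commute C (g : G ⧸ center G) := by
        rw [hCdef, Commute, SemiconjBy, ← QuotientGroup.mk_mul, ← QuotientGroup.mk_mul, hcg.eq]
      have hij : K ^ (i * j) = K ^ j := by
        rw [zpow_mul, ← hiK, conj_zpow, ← hjK, hCg.eq, mul_inv_cancel_right]
      obtain ⟨b, hb⟩ : ∃ b, orderOf K = r ^ b := by
        obtain ⟨l, hl⟩ := exists_orderOf_pow R.isPGroup' hk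
        obtain ⟨b, -, hb⟩ := (Nat.dvd_prime_pow hr.out).1
          (hl ▸ orderOf_map_dvd (QuotientGroup.mk' (center G)) k)
        exact ⟨b, hb⟩
      have hj0 : ¬ ((r ^ b : ℕ) : ℤ) ∣ j := fun hd => hII.1 (by
        rw [← QuotientGroup.eq_one_iff, hjK, ← orderOf_dvd_iff_zpow_eq_one, hb]; exact hd)
      have hd : ((r ^ b : ℕ) : ℤ) ∣ (i - 1) * j := by
        rw [← hb, orderOf_dvd_iff_zpow_eq_one, sub_mul, one_mul, zpow_sub, hij, mul_inv_cancel]
      have h1r : (r : ℤ) ∣ i - 1 := by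
        by_contra hnd
        refine hj0 ((IsCoprime.dvd_of_dvd_mul_left ?_ hd))
        push_cast
        exact ((Nat.prime_iff_prime_int.1 hr.out).coprime_iff_not_dvd.2 hnd).pow_left
      have hpow : ∀ n : ℕ, C ^ n * K * (C ^ n)⁻¹ = K ^ (i ^ n) := by
        intro n
        induction n with
        | zero => simp
        | succ n ih =>
          calc C ^ (n + 1) * K * (C ^ (n + 1))⁻¹ = C * (C ^ n * K * (C ^ n)⁻¹) * C⁻¹ := by
                rw [pow_succ']; group
            _ = K ^ (i ^ (n + 1)) := by rw [ih, ← conj_zpow, hiK, ← zpow_mul, pow_succ']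
      have ho := hpow (orderOf c)
      rw [hCdef, ← QuotientGroup.mk_pow, pow_orderOf_eq_one, QuotientGroup.mk_one, one_mul, inv_one,
        mul_one] at ho
      have hd2 : ((r ^ b : ℕ) : ℤ) ∣ i ^ orderOf c - 1 := by
        rw [← hb, orderOf_dvd_iff_zpow_eq_one, zpow_sub_one, ← ho, mul_inv_cancel]
      have hi1 := dvd_sub_one_of_pow hc h1r hd2
      have hK1 : C * K * C⁻¹ = K := by
        rw [← hb, orderOf_dvd_iff_zpow_eq_one, zpow_sub_one] at hi1
        rw [hiK]; exact mul_inv_eq_one.1 hi1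
      refine (commute_of_central_comm (exists_orderOf_pow R.isPGroup' hk) hc ?_).symm
      rw [← QuotientGroup.eq_one_iff, commutatorElement_def, QuotientGroup.mk_mul, QuotientGroup.mk_mul,
        QuotientGroup.mk_mul, QuotientGroup.mk_inv, QuotientGroup.mk_inv, ← hCdef, ← hKdef, hK1, mul_inv_cancel]
    have hcK : ∀ d ∈ (R : Subgroup G), Commute g d → Commute c d := by
      intro d hd hgd
      obtain ⟨i, hi⟩ := hK d hd hgd
      have h2 := hck.zpow_right i
      have := h2.mul_right (hcent hi c)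
      rwa [mul_inv_cancel_left] at this
    intro h hh
    set d := h⁻¹ * (c * h * c⁻¹) with hd
    have hdR : d ∈ (R : Subgroup G) := mul_mem (inv_mem hh) (hnorm h hh)
    have hgd : Commute g d := by
      set z := ⁅h, g⁆ with hz
      have hzc := hgc h hh
      have e1 : h * g * h⁻¹ = z * g := by rw [hz, commutatorElement_def, inv_mul_cancel_right]
      have e2 : c * h * c⁻¹ * g * (c * h * c⁻¹)⁻¹ = z * g := by
        calc c * h * c⁻¹ * g * (c * h * c⁻¹)⁻¹ = c * h * (c⁻¹ * g * c) * h⁻¹ * c⁻¹ := by group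
          _ = c * (h * g * h⁻¹) * c⁻¹ := by rw [mul_assoc c⁻¹ g c, ← hcg.eq, inv_mul_cancel_left]; group
          _ = z * g := by
            rw [e1, ← mul_assoc, (hcent hzc c).eq, mul_assoc z c g, hcg.eq, ← mul_assoc,
              mul_inv_cancel_right]
      show g * d = d * g
      rw [hd]
      have e3 : h⁻¹ * (z * g) * h = g := by rw [← e1]; group
      calc g * (h⁻¹ * (c * h * c⁻¹)) = h⁻¹ * (z * g) * h * (h⁻¹ * (c * h * c⁻¹)) := by rw [e3]
        _ = h⁻¹ * (c * h * c⁻¹ * g * (c * h * c⁻¹)⁻¹) * (c * h * c⁻¹) := by rw [e2]; group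
        _ = h⁻¹ * (c * h * c⁻¹) * g := by group
    have e : c * h * c⁻¹ = h * d := by rw [hd, mul_inv_cancel_left]
    have hd1 : d = 1 := by
      obtain ⟨l, hl⟩ := exists_orderOf_pow R.isPGroup' hdR
      exact eq_one_of_shift hc (hcK d hdR hgd) ⟨l, by rw [← hl, pow_orderOf_eq_one]⟩ e
    rw [hd1, mul_one] at e
    exact mul_inv_eq_iff_eq_mul.1 e
  -- hence a Sylow `p`-subgroup of `cent g` lies in `L`
  have hLx : L = cent x := (hL.cent_eq hD hRe hxL (hD.sylow_le R hx) hxz).symm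
  obtain ⟨y, hyN, hyz, hyr, hyL⟩ := id hL
  have hne : orderOf (y : G ⧸ center G) ≠ 1 := fun h => hyz (by
    rwa [orderOf_eq_one_iff, QuotientGroup.eq_one_iff] at h)
  obtain ⟨p, hp, hpd⟩ := Nat.exists_prime_and_dvd hne
  haveI := Fact.mk hp
  have hpy : p ∣ orderOf y := hpd.trans (orderOf_map_dvd (QuotientGroup.mk' (center G)) y)
  have hpr : p ≠ r := fun e => hyr (e ▸ hpy)
  obtain ⟨u, v, huv, -, ⟨i, hi⟩, -, hu, hv⟩ := exists_parts (r := p) y
  have huz : u ∉ center G := fun h => by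
    have e : (y : G ⧸ center G) = v := by
      rw [huv, QuotientGroup.mk_mul, (QuotientGroup.eq_one_iff u).2 h, one_mul]
    rw [e] at hpd
    exact hv (hpd.trans (orderOf_map_dvd (QuotientGroup.mk' (center G)) v))
  have huN : u ∈ N := hi ▸ N.pow_mem hyN i
  have huL : u ∈ L := by rw [hi, hyL]; exact pow_mem (self_mem_cent y) i
  have hucent := hL.cent_eq hD hRe huL huN huz
  obtain ⟨T⟩ : Nonempty (Sylow p (cent g)) := inferInstance
  have hTL : (T : Subgroup (cent g)).map (cent g).subtype ≤ L := by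
    rintro - ⟨t, ht, rfl⟩
    rw [hLx]
    refine mem_cent.2 (hcR t ?_ (mem_cent.1 t.2) x hx).eq
    obtain ⟨l, hl⟩ := exists_orderOf_pow T.isPGroup' ht
    intro hd
    rw [Subgroup.orderOf_coe, hl] at hd
    exact hpr ((Nat.prime_dvd_prime_iff_eq hr.out hp).1 (hr.out.dvd_of_dvd_pow hd)).symm
  have hcard : Nat.card (cent g) = Nat.card L := by
    rw [hLx]; exact hD.pow_dvd_card_cent_ne (hD.sylow_le R hg) hII.1 (hD.sylow_le R hx) hxz
  have hmem := mem_of_card_eq (r := p) hcard T hTL huL hu fun w hw =>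
    (mem_cent.1 (hucent.symm ▸ hw : w ∈ cent u)).symm
  obtain ⟨t, -, ht⟩ := hmem
  refine huz (hII.2.2 u huN (fun hd => ?_) ?_)
  · obtain ⟨l, hl⟩ := hu
    rw [hl] at hd
    exact hpr ((Nat.prime_dvd_prime_iff_eq hr.out hp).1 (hr.out.dvd_of_dvd_pow hd)).symm
  · show g * u = u * g
    rw [← ht]
    exact (mem_cent.1 t.2).symm

/-! ### Images modulo the centre -/

/-- the image of a subgroup modulo the centre -/
noncomputable abbrev bar (H : Subgroup G) : Subgroup (G ⧸ center G) := H.map (QuotientGroup.mk' (center G))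

omit hr in
theorem card_bar_mul (H : Subgroup G) :
    Nat.card (bar H) * Nat.card (H ⊓ center G : Subgroup G) = Nat.card H := by
  have e := relIndex_ker (f := QuotientGroup.mk' (center G)) (K := H)
  rw [QuotientGroup.ker_mk'] at e
  have h2 := relIndex_mul_relIndex (⊥ : Subgroup G) (H ⊓ center G) H bot_le inf_le_left
  rw [inf_relIndex_left, e, relIndex_bot_left, relIndex_bot_left, mul_comm] at h2
  exact h2

omit hr [Finite G] in
theorem mk_eq {a b : G} : (a : G ⧸ center G) = b ↔ a⁻¹ * b ∈ center G := QuotientGroup.eq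

/-- the elements whose commutator with `g` is central -/
def cen2 (g : G) : Subgroup G where
  carrier := {n | ⁅n, g⁆ ∈ center G}
  mul_mem' {a b} ha hb := by
    show ⁅a * b, g⁆ ∈ center G
    rw [show ⁅a * b, g⁆ = a * ⁅b, g⁆ * a⁻¹ * ⁅a, g⁆ by simp only [commutatorElement_def]; group]
    exact mul_mem (Subgroup.Normal.conj_mem inferInstance _ hb a) ha
  one_mem' := by
    show ⁅(1 : G), g⁆ ∈ center G
    rw [commutatorElement_one_left]; exact one_mem _
  inv_mem' {a} ha := by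
    show ⁅a⁻¹, g⁆ ∈ center G
    rw [show ⁅a⁻¹, g⁆ = a⁻¹ * (⁅a, g⁆)⁻¹ * a by simp only [commutatorElement_def]; group]
    have := Subgroup.Normal.conj_mem (inferInstance : (center G).Normal) _ (inv_mem ha) a⁻¹
    rwa [inv_inv] at this

/-- `n ↦ ⁅n, g⁆` on `cen2 g` -/
def comHom (g : G) : cen2 g →* center G :=
  MonoidHom.mk' (fun n => ⟨⁅(n : G), g⁆, n.2⟩) fun a b => Subtype.ext (by
    show ⁅(a : G) * b, g⁆ = ⁅(a : G), g⁆ * ⁅(b : G), g⁆
    rw [show ⁅(a : G) * b, g⁆ = a * ⁅(b : G), g⁆ * (a : G)⁻¹ * ⁅(a : G), g⁆ by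
      simp only [commutatorElement_def]; group]
    have hb : ⁅(b : G), g⁆ ∈ center G := b.2
    have ha : ⁅(a : G), g⁆ ∈ center G := a.2
    rw [mem_center_iff.1 hb a, mul_inv_cancel_right, mem_center_iff.1 ha ⁅(b : G), g⁆])

omit hr [Finite G] in
theorem commute_of_comm_eq_one {a b : G} (h : ⁅a, b⁆ = 1) : Commute a b :=
  commutatorElement_eq_one_iff_commute.1 h

omit hr [Finite G] in
theorem commutator_commute {R : Subgroup G} {g : G} (hR : R ≤ cen2 g) {a b : G} (ha : a ∈ R) (hb : b ∈ R) :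
    Commute g ⁅a, b⁆ := by
  have h : comHom g ⁅(⟨a, hR ha⟩ : cen2 g), ⟨b, hR hb⟩⁆ = 1 := by
    rw [map_commutatorElement, commutatorElement_eq_one_iff_mul_comm]
    exact Subtype.ext (mem_center_iff.1 (comHom g ⟨b, hR hb⟩).2 _)
  exact (commute_of_comm_eq_one (congrArg Subtype.val h)).symm

omit hr in
theorem normalizes_cent {R : Subgroup G} {g : G} (hR : R ≤ cen2 g) : R ≤ normalizer (cent g : Set G) := by
  have key : ∀ c, c ∈ cen2 g → ∀ y ∈ cent g, c * y * c⁻¹ ∈ cent g := by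
    intro c hc y hy
    have h : ⁅c, g⁆ ∈ center G := hc
    have e : cent (c * g * c⁻¹) = cent g := by
      rw [show c * g * c⁻¹ = ⁅c, g⁆ * g by rw [commutatorElement_def, inv_mul_cancel_right],
        ← mem_center_iff.1 h g, cent_mul_central h]
    rw [← e, ← map_cent]
    exact mem_map_of_mem _ hy
  intro c hc
  rw [mem_normalizer_iff]
  intro y
  refine ⟨key c (hR hc) y, fun h => ?_⟩
  have := key _ (inv_mem (hR hc)) _ h
  rwa [inv_inv, show c⁻¹ * (c * y * c⁻¹) * c = y by group] at this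

theorem card_pgroup_le {H C : Subgroup G} (hH : IsPGroup r H) (hHC : H ≤ C) :
    Nat.card H ≤ r ^ (Nat.card C).factorization r := by
  obtain ⟨T, hT⟩ := (hH.comap_of_injective C.subtype C.subtype_injective).exists_le_sylow
  rw [← T.card_eq_multiplicity, ← Nat.card_congr (subgroupOfEquivOfLe hHC).toEquiv]
  exact Nat.le_of_dvd Nat.card_pos (card_dvd_of_le hT)

/-- a Sylow subgroup meeting `L` in a Sylow subgroup contains the central `r`-elements of `L` -/
theorem mem_of_full (R : Sylow r G) {L : Subgroup G}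
    (hfull : Nat.card ((R : Subgroup G) ⊓ L : Subgroup G) = r ^ (Nat.card L).factorization r)
    {u : G} (hu : u ∈ L) (hur : ∃ k, orderOf u = r ^ k) (hcen : ∀ y ∈ L, u * y = y * u) :
    u ∈ (R : Subgroup G) := by
  set H := (R : Subgroup G) ⊓ L with hH
  obtain ⟨k, hk⟩ := hur
  have hp : IsPGroup r (H ⊔ zpowers u : Subgroup G) := by
    refine (R.isPGroup'.to_le inf_le_left).to_sup_of_normal_left'
      (IsPGroup.of_card (n := k) (by rw [Nat.card_zpowers, hk])) (zpowers_le.2 ?_)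
    rw [mem_normalizer_iff]
    intro y
    constructor
    · intro hy
      rw [hcen y hy.2, mul_inv_cancel_right]; exact hy
    · intro hy
      have hyL : y ∈ L := by
        have := L.mul_mem (L.mul_mem (L.inv_mem hu) hy.2) hu
        rwa [show u⁻¹ * (u * y * u⁻¹) * u = y by group] at this
      rwa [hcen y hyL, mul_inv_cancel_right] at hy
  have hle := card_pgroup_le hp (sup_le inf_le_right (zpowers_le.2 hu))
  rw [← hfull] at hle
  have := Subgroup.eq_of_le_of_card_ge (le_sup_left : H ≤ H ⊔ zpowers u) hle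
  exact (this ▸ mem_sup_right (mem_zpowers u) : u ∈ H).1

/-- every `r`-element has a conjugate in `R` with full centralizer there -/
theorem full_conj (R : Sylow r G) {g : G} (hg : ∃ k, orderOf g = r ^ k) :
    ∃ c : G, c * g * c⁻¹ ∈ (R : Subgroup G) ∧
      Nat.card ((R : Subgroup G) ⊓ cent (c * g * c⁻¹) : Subgroup G) =
        r ^ (Nat.card (cent (c * g * c⁻¹))).factorization r := by
  obtain ⟨R', hR'⟩ := exists_full (r := r) (cent g)
  obtain ⟨c, hc⟩ := MulAction.exists_smul_eq G R' R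
  have hRe : (R : Subgroup G) = (R' : Subgroup G).map (MulAut.conj c).toMonoidHom := by
    rw [← hc]; rfl
  have e : (R : Subgroup G) ⊓ cent (c * g * c⁻¹) =
      ((R' : Subgroup G) ⊓ cent g).map (MulAut.conj c).toMonoidHom := by
    rw [map_inf _ _ _ (MulAut.conj c).injective, ← hRe, map_cent]
  refine ⟨c, ?_, ?_⟩
  · rw [hRe]
    exact mem_map_of_mem _ (mem_of_full R' hR' (self_mem_cent g) hg fun y hy => (mem_cent.1 hy).symm)
  · rw [e, ← map_cent c g, card_map_of_injective (MulAut.conj c).injective,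
      card_map_of_injective (MulAut.conj c).injective]
    exact hR'

/-- a normal subgroup of `R` outside the centre meets the second centre outside the centre -/
theorem exists_upper (R : Sylow r G) {H : Subgroup G} (hHR : H ≤ (R : Subgroup G))
    (hn : ∀ c ∈ (R : Subgroup G), ∀ h ∈ H, c * h * c⁻¹ ∈ H) (hH : ¬ H ≤ center G) :
    ∃ g ∈ H, g ∉ center G ∧ (R : Subgroup G) ≤ cen2 g := by
  set f := QuotientGroup.mk' (center G) with hf
  set Rb := bar (R : Subgroup G) with hRb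
  have hRbp : IsPGroup r Rb := R.isPGroup'.map _
  set Hb := (bar H).subgroupOf Rb with hHb
  haveI : Hb.Normal := ⟨fun x hx c => by
    obtain ⟨h, hh, he⟩ := (hx : (x : G ⧸ center G) ∈ bar H)
    obtain ⟨cc, hcc, hce⟩ := c.2
    refine ⟨cc * h * cc⁻¹, hn cc hcc h hh, ?_⟩
    rw [map_mul, map_mul, map_inv, he, hce]; rfl⟩
  have hne : Hb ≠ ⊥ := fun e => hH fun h hh => by
    have : (⟨f h, mem_map_of_mem _ (hHR hh)⟩ : Rb) ∈ Hb := mem_map_of_mem _ hh
    rw [e, mem_bot] at this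
    exact (QuotientGroup.eq_one_iff h).1 (congrArg Subtype.val this)
  obtain ⟨x, hx, hx1⟩ :=
    (Subgroup.bot_or_exists_ne_one (Hb ⊓ center Rb)).resolve_left (PGroup.inf_center_ne_bot hRbp hne)
  obtain ⟨g, hg, hge⟩ := (hx.1 : (x : G ⧸ center G) ∈ bar H)
  have hge' : f g = (x : G ⧸ center G) := hge
  refine ⟨g, hg, fun hgz => hx1 (Subtype.ext ?_), fun c hc => ?_⟩
  · show (x : G ⧸ center G) = 1
    rw [← hge']; exact (QuotientGroup.eq_one_iff g).2 hgz
  · show ⁅c, g⁆ ∈ center G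
    rw [← QuotientGroup.eq_one_iff, ← QuotientGroup.mk'_apply, map_commutatorElement,
      commutatorElement_eq_one_iff_mul_comm]
    have := congrArg Subtype.val (mem_center_iff.1 hx.2 ⟨f c, mem_map_of_mem _ hc⟩)
    simp only [Subgroup.coe_mul] at this
    show f c * f g = f g * f c
    rw [hge']; exact this

/-- a subgroup normalizing `L`, abelian modulo `L`, is cyclic modulo `L` -/
theorem Good.cyclic_mod (hD : Data N r m) (hR : ∃ R : Sylow r G, ¬ (R : Subgroup G) ≤ center G)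
    {L : Subgroup G} (hL : Good N r L) {H : Subgroup G} (hH : IsPGroup r H)
    (hn : ∀ c ∈ H, ∀ y ∈ L, c * y * c⁻¹ ∈ L) (hab : ∀ a ∈ H, ∀ b ∈ H, ⁅a, b⁆ ∈ L) :
    ∃ b ∈ H, ∀ h ∈ H, ∃ i : ℤ, (b ^ i)⁻¹ * h ∈ L := by
  have hHN : H ≤ N := fun h hh => hD.r_mem (exists_orderOf_pow hH hh)
  haveI : (L.subgroupOf H).Normal := ⟨fun x hx c => hn c c.2 x hx⟩
  set f := QuotientGroup.mk' (L.subgroupOf H) with hf
  have hQ : IsPGroup r (H ⧸ L.subgroupOf H) := hH.to_quotient _
  have hcomm : ∀ x y : H ⧸ L.subgroupOf H, x * y = y * x := by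
    intro x y
    obtain ⟨a, rfl⟩ := QuotientGroup.mk'_surjective _ x
    obtain ⟨b, rfl⟩ := QuotientGroup.mk'_surjective _ y
    rw [← commutatorElement_eq_one_iff_mul_comm, ← map_commutatorElement, QuotientGroup.mk'_apply,
      QuotientGroup.eq_one_iff]
    exact hab a a.2 b b.2
  have hmem : ∀ h : H, f h = 1 ↔ (h : G) ∈ L := fun h => by
    rw [hf, QuotientGroup.mk'_apply, QuotientGroup.eq_one_iff]; rfl
  obtain ⟨q, -, hq⟩ := PGroup.isCyclic_of_abelian_unique hQ (A := ⊤) (fun x _ y _ => hcomm x y)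
    (fun x _ y _ hxo hyp => by
      by_contra hnot
      obtain ⟨a, rfl⟩ := QuotientGroup.mk'_surjective _ x
      obtain ⟨b, rfl⟩ := QuotientGroup.mk'_surjective _ y
      refine hL.not_elementary hD hR (a := (b : G)) (b := (a : G)) (hn b b.2) (hn a a.2) ?_ ?_
        ⟨hab b b.2 a a.2, ?_⟩ (fun h => hr.out.ne_one ?_) (fun t h => hnot ?_)
      · exact ⟨(hmem (b ^ r)).1 (by rw [map_pow]; exact hyp), N.pow_mem (hHN b.2) r⟩
      · exact ⟨(hmem (a ^ r)).1 (by rw [map_pow, ← hxo, pow_orderOf_eq_one]), N.pow_mem (hHN a.2) r⟩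
      · exact hHN (H.mul_mem (H.mul_mem (H.mul_mem b.2 a.2) (H.inv_mem b.2)) (H.inv_mem a.2))
      · rw [← hxo, (hmem a).2 h, orderOf_one]
      · rw [← Subgroup.coe_pow, ← Subgroup.coe_mul, ← hmem, map_mul, map_pow] at h
        rw [eq_inv_of_mul_eq_one_left h]
        exact inv_mem (pow_mem (mem_zpowers _) t))
  obtain ⟨b, rfl⟩ := QuotientGroup.mk'_surjective _ q
  refine ⟨b, b.2, fun h hh => ?_⟩
  obtain ⟨i, hi⟩ := mem_zpowers_iff.1 (hq.ge (mem_top (f ⟨h, hh⟩)))
  refine ⟨i, ?_⟩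
  rw [show ((b : G) ^ i)⁻¹ * h = (((b ^ i)⁻¹ * ⟨h, hh⟩ : H) : G) by simp, ← hmem, map_mul, map_inv,
    map_zpow, hi, inv_mul_cancel]

/-- Case: a central-modulo-`Z` element of a Sylow subgroup has good centralizer, some element type II. -/
theorem false_of_upper_good (hD : Data N r m) (R : Sylow r G) (hRz : ¬ (R : Subgroup G) ≤ center G) {x : G}
    (hx : x ∈ (R : Subgroup G)) (hxz : x ∉ center G) (hxc : (R : Subgroup G) ≤ cen2 x)
    (hL : Good N r (cent x)) {g₀ : G} (hg₀ : TypeII N r g₀) : False := by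
  have hRe : ∃ R : Sylow r G, ¬ (R : Subgroup G) ≤ center G := ⟨R, hRz⟩
  set L := cent x with hLdef
  have hRN : (R : Subgroup G) ≤ normalizer (L : Set G) := normalizes_cent hxc
  obtain ⟨b, hb, hbgen⟩ := hL.cyclic_mod hD hRe R.isPGroup'
    (fun c hc y hy => (mem_normalizer_iff.1 (hRN hc) y).1 hy)
    (fun a ha b hb => mem_cent.2 (commutator_commute hxc ha hb).symm.eq)
  obtain ⟨c, hgR, hgfull⟩ := full_conj R hg₀.2.1
  set g := c * g₀ * c⁻¹ with hg
  have hII : TypeII N r g := hg₀.conj hD c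
  set R₀ := (R : Subgroup G) ⊓ L with hR₀
  set K := (R : Subgroup G) ⊓ cent g with hK
  have hZ : ∀ w : G, center G ⊓ (R : Subgroup G) = ((R : Subgroup G) ⊓ cent w) ⊓ center G := fun w =>
    le_antisymm (le_inf (le_inf inf_le_right (inf_le_left.trans (center_le_centralizer _))) inf_le_left)
      (le_inf inf_le_right (inf_le_left.trans inf_le_left))
  have hcard : Nat.card K = Nat.card R₀ := by
    rw [hK, hgfull, hR₀, card_inf_of_normalizes R hRN,
      hD.pow_dvd_card_cent_ne (hD.sylow_le R hgR) hII.1 (hD.sylow_le R hx) hxz]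
  have hbar : Nat.card (bar K) = Nat.card (bar R₀) := by
    have e1 := card_bar_mul K
    have e2 := card_bar_mul R₀
    rw [← hZ g, hcard] at e1
    rw [← hZ x, ← e1] at e2
    exact (Nat.eq_of_mul_eq_mul_right Nat.card_pos e2).symm
  have hKR₀ : K ⊓ R₀ ≤ center G := by
    intro k hk
    by_contra hkz
    have hkN : k ∈ N := hD.sylow_le R hk.1.1
    have e := hL.cent_eq hD hRe hk.2.2 hkN hkz
    have hgL : g ∈ L := e ▸ mem_cent_comm.1 hk.1.2
    exact hII.not_good (by rw [hL.cent_eq hD hRe hgL (hD.sylow_le R hgR) hII.1]; exact hL)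
  -- the quotient `R / R₀` is cyclic, generated by the image of `b`
  haveI hn : (R₀.subgroupOf (R : Subgroup G)).Normal := ⟨fun y hy t => by
    refine ⟨(t * y * t⁻¹).2, ?_⟩
    exact (mem_normalizer_iff.1 (hRN t.2) y).1 hy.2⟩
  set f := QuotientGroup.mk' (R₀.subgroupOf (R : Subgroup G)) with hf
  have hgenf : ∀ q, q ∈ zpowers (f ⟨b, hb⟩) := by
    intro q
    obtain ⟨⟨h, hh⟩, rfl⟩ := QuotientGroup.mk'_surjective _ q
    obtain ⟨i, hi⟩ := hbgen h hh
    refine mem_zpowers_iff.2 ⟨i, ?_⟩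
    rw [← map_zpow, hf, QuotientGroup.mk'_apply, QuotientGroup.mk'_apply, QuotientGroup.eq, mem_subgroupOf]
    simp only [Subgroup.coe_mul, Subgroup.coe_inv, SubgroupClass.coe_zpow]
    exact ⟨(R : Subgroup G).mul_mem ((R : Subgroup G).inv_mem ((R : Subgroup G).zpow_mem hb i)) hh, hi⟩
  set n := R₀.relIndex (R : Subgroup G) with hn'
  have hnb : n = orderOf (f ⟨b, hb⟩) := by
    rw [← Nat.card_zpowers, (eq_top_iff' _).2 hgenf, card_top, hn']; rfl
  -- `n` divides the order of `x` modulo the centre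
  set o := orderOf (x : G ⧸ center G) with ho
  have hno : n ∣ o := by
    rw [hnb]
    refine orderOf_dvd_of_pow_eq_one ?_
    rw [← map_pow, hf, QuotientGroup.mk'_apply, QuotientGroup.eq_one_iff, mem_subgroupOf, Subgroup.coe_pow]
    refine ⟨pow_mem hb o, mem_cent.2 ?_⟩
    set z := ⁅b, x⁆ with hz
    have hzc : z ∈ center G := hxc hb
    have hxo : x ^ o ∈ center G := by
      rw [← QuotientGroup.eq_one_iff, QuotientGroup.mk_pow, pow_orderOf_eq_one]
    have e : b * x * b⁻¹ = z * x := by rw [hz, commutatorElement_def, inv_mul_cancel_right]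
    have hz1 : z ^ o = 1 := by
      have h1 : (b * x * b⁻¹) ^ o = x ^ o := by
        rw [conj_pow, mem_center_iff.1 hxo b, mul_inv_cancel_right]
      rw [e, (show Commute z x from (mem_center_iff.1 hzc x).symm).mul_pow] at h1
      exact mul_eq_right.1 h1
    have hφ : comHom x (⟨b, hxc hb⟩ ^ o) = 1 := by
      rw [map_pow]; exact Subtype.ext hz1
    exact (commute_of_comm_eq_one (congrArg Subtype.val hφ)).eq
  have hxR₀ : x ∈ R₀ := ⟨hx, self_mem_cent x⟩
  have hxle : zpowers (x : G ⧸ center G) ≤ bar R₀ := zpowers_le.2 (mem_map_of_mem _ hxR₀)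
  have hrel : Nat.card (bar K) = R₀.relIndex K := by
    have e := relIndex_ker (f := QuotientGroup.mk' (center G)) (K := K)
    rw [QuotientGroup.ker_mk'] at e
    rw [← e, ← inf_relIndex_right (center G), ← inf_relIndex_right R₀]
    congr 1
    exact le_antisymm (le_inf (le_inf (inf_le_right.trans inf_le_left)
        (inf_le_left.trans (center_le_centralizer _))) inf_le_right)
      (le_inf (le_trans (le_of_eq (inf_comm _ _)) hKR₀) inf_le_right)
  have hle1 : R₀.relIndex K ≤ n := relIndex_le_of_le_right inf_le_left (by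
    show (R₀.subgroupOf (R : Subgroup G)).index ≠ 0
    exact index_ne_zero_of_finite)
  have hle2 : o ≤ Nat.card (bar R₀) := by
    rw [ho, ← Nat.card_zpowers]; exact Nat.le_of_dvd Nat.card_pos (card_dvd_of_le hxle)
  have hno' : n ≤ o := Nat.le_of_dvd (orderOf_pos _) hno
  have hxgen : zpowers (x : G ⧸ center G) = bar R₀ := Subgroup.eq_of_le_of_card_ge hxle (by
    rw [Nat.card_zpowers, ← ho, ← hbar, hrel]; omega)
  have hsurj : (K.subgroupOf (R : Subgroup G)).map f = ⊤ := by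
    refine Subgroup.eq_of_le_of_card_ge le_top ?_
    have e := relIndex_ker (f := f) (K := K.subgroupOf (R : Subgroup G))
    rw [hf, QuotientGroup.ker_mk', relIndex_subgroupOf inf_le_left] at e
    rw [card_top, show Nat.card ((R : Subgroup G) ⧸ R₀.subgroupOf (R : Subgroup G)) = n from rfl]
    calc n ≤ R₀.relIndex K := by omega
      _ ≤ _ := le_of_eq e
  obtain ⟨⟨k, hk⟩, hkK', hkb⟩ := (hsurj.ge (mem_top (f ⟨b, hb⟩)))
  have hkK : k ∈ K := hkK'
  -- every element of `R` is `k ^ i * l`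
  have hdec : ∀ h ∈ (R : Subgroup G), ∃ i : ℤ, (k ^ i)⁻¹ * h ∈ R₀ := by
    intro h hh
    obtain ⟨i, hi⟩ := mem_zpowers_iff.1 (hgenf (f ⟨h, hh⟩))
    refine ⟨i, ?_⟩
    rw [← hkb, ← map_zpow, hf, QuotientGroup.mk'_apply, QuotientGroup.mk'_apply, QuotientGroup.eq,
      mem_subgroupOf] at hi
    simpa using hi
  refine false_of_typeII hD R hRz hgR hII (k := k) (fun h hh => ?_) hk ((mem_cent.1 hkK.2).symm)
    (fun t ht htg => ?_) hL hx (self_mem_cent x) hxz
  · obtain ⟨i, hi⟩ := hdec h hh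
    have hk2 : k ∈ cen2 g := by
      show ⁅k, g⁆ ∈ center G
      rw [commutatorElement_eq_one_iff_commute.2 (mem_cent.1 hkK.2)]; exact one_mem _
    have hx2 : x ∈ cen2 g := by
      show ⁅x, g⁆ ∈ center G
      rw [← commutatorElement_inv]; exact inv_mem (hxc hgR)
    have hl2 : (k ^ i)⁻¹ * h ∈ cen2 g := by
      obtain ⟨j, hj⟩ := mem_zpowers_iff.1 (hxgen.ge (mem_map_of_mem _ hi))
      rw [QuotientGroup.mk'_apply, ← QuotientGroup.mk_zpow, mk_eq] at hj
      have hc2 : (x ^ j)⁻¹ * ((k ^ i)⁻¹ * h) ∈ cen2 g := by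
        show ⁅_, g⁆ ∈ center G
        rw [commutatorElement_eq_one_iff_commute.2 (show Commute _ g from (mem_center_iff.1 hj g).symm)]
        exact one_mem _
      simpa using (cen2 g).mul_mem ((cen2 g).zpow_mem hx2 j) hc2
    show h ∈ cen2 g
    simpa using (cen2 g).mul_mem ((cen2 g).zpow_mem hk2 i) hl2
  · obtain ⟨i, hi⟩ := hdec t ht
    refine ⟨i, hKR₀ ⟨K.mul_mem (K.inv_mem (K.zpow_mem hkK i)) ⟨ht, mem_cent.2 htg.symm.eq⟩, hi⟩⟩

/-- Case: no central-modulo-`Z` element of a Sylow subgroup has good centralizer. -/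
theorem false_of_no_upper_good (hD : Data N r m) (hRe : ∃ R : Sylow r G, ¬ (R : Subgroup G) ≤ center G)
    (hno : ∀ (R : Sylow r G), ∀ x ∈ (R : Subgroup G), x ∉ center G → (R : Subgroup G) ≤ cen2 x →
      ¬ Good N r (cent x)) {L : Subgroup G} (hL : Good N r L) : False := by
  obtain ⟨R, hRfull⟩ := exists_full (r := r) L
  obtain ⟨x₁, hx₁r, hx₁z, hx₁L⟩ := hL.exists_r hD hRe
  have hx₁ : x₁ ∈ (R : Subgroup G) := mem_of_full R hRfull (hx₁L ▸ self_mem_cent x₁) hx₁r
    fun y hy => (mem_cent.1 (hx₁L ▸ hy : y ∈ cent x₁)).symm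
  have hRz : ¬ (R : Subgroup G) ≤ center G := fun h => hx₁z (h hx₁)
  obtain ⟨g, hgR, hgz, hgc⟩ := exists_upper R le_rfl (fun c hc h hh => mul_mem (mul_mem hc hh) (inv_mem hc)) hRz
  have hgr := exists_orderOf_pow R.isPGroup' hgR
  have hII : TypeII N r g := (good_or_typeII hD hgz hgr).resolve_left (hno R g hgR hgz hgc)
  set R₀ := (R : Subgroup G) ⊓ L with hR₀
  have hnn : ¬ (R : Subgroup G) ≤ normalizer (L : Set G) := by
    intro h
    obtain ⟨y, hy, hyz, hyc⟩ := exists_upper R (inf_le_left : R₀ ≤ _)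
      (fun c hc t ht => ⟨(R : Subgroup G).mul_mem ((R : Subgroup G).mul_mem hc ht.1) ((R : Subgroup G).inv_mem hc), (mem_normalizer_iff.1 (h hc) t).1 ht.2⟩)
      (fun hle => hx₁z (hle ⟨hx₁, hx₁L ▸ self_mem_cent x₁⟩))
    exact hno R y hy.1 hyz hyc (by rw [hL.cent_eq hD hRe hy.2 (hD.sylow_le R hy.1) hyz]; exact hL)
  set N₁ := (R : Subgroup G) ⊓ normalizer (L : Set G) with hN₁
  obtain ⟨⟨h, hhR⟩, hhn, hh1⟩ := PGroup.exists_mem_normalizer_not_mem R.isPGroup'
    (H := N₁.subgroupOf (R : Subgroup G)) (fun htop => hnn fun c hc =>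
      ((htop.ge (mem_top (⟨c, hc⟩ : (R : Subgroup G)))) : c ∈ N₁).2)
  have hhN₁ : ∀ c : G, c ∈ N₁ ↔ h * c * h⁻¹ ∈ N₁ := by
    intro c
    constructor
    · exact fun hc => (mem_normalizer_iff.1 hhn ⟨c, hc.1⟩).1 hc
    · intro hc
      have hcR : c ∈ (R : Subgroup G) := by
        have := mul_mem (mul_mem (inv_mem hhR) hc.1) hhR
        rwa [show h⁻¹ * (h * c * h⁻¹) * h = c by group] at this
      exact (mem_normalizer_iff.1 hhn ⟨c, hcR⟩).2 hc
  set L' := L.map (MulAut.conj h).toMonoidHom with hL'def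
  have hL' : Good N r L' := hL.conj hD h
  have hmem' : ∀ y, y ∈ L' ↔ h⁻¹ * y * h ∈ L := fun y => by
    rw [hL'def, mem_map_equiv, MulAut.conj_symm_apply]
  have hne : L' ≠ L := fun e => hh1 (show h ∈ N₁ from ⟨hhR, mem_normalizer_iff.2 fun y => by
    constructor
    · intro hy
      rw [← e, hmem', show h⁻¹ * (h * y * h⁻¹) * h = y by group]; exact hy
    · intro hy
      rwa [← e, hmem', show h⁻¹ * (h * y * h⁻¹) * h = y by group] at hy⟩)
  have hN₁' : ∀ c ∈ N₁, ∀ y ∈ L', c * y * c⁻¹ ∈ L' := by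
    intro c hc y hy
    have hc' : h⁻¹ * c * h ∈ N₁ := by
      rw [hhN₁, show h * (h⁻¹ * c * h) * h⁻¹ = c by group]; exact hc
    rw [hmem'] at hy ⊢
    rw [show h⁻¹ * (c * y * c⁻¹) * h = h⁻¹ * c * h * (h⁻¹ * y * h) * (h⁻¹ * c * h)⁻¹ by group]
    exact (mem_normalizer_iff.1 hc'.2 _).1 hy
  set S := (R : Subgroup G) ⊓ L' with hS
  have hR₀N₁ : R₀ ≤ N₁ := inf_le_inf_left _ le_normalizer
  have hback : ∀ s ∈ S, h⁻¹ * s * h ∈ R₀ := fun s hs =>
    ⟨(R : Subgroup G).mul_mem ((R : Subgroup G).mul_mem ((R : Subgroup G).inv_mem hhR) hs.1) hhR, (hmem' s).1 hs.2⟩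
  have hSN₁ : S ≤ N₁ := fun s hs => by
    have := (hhN₁ _).1 (hR₀N₁ (hback s hs))
    rwa [show h * (h⁻¹ * s * h) * h⁻¹ = s by group] at this
  have hcap : ∀ y ∈ N, y ∈ L → y ∈ L' → y ∈ center G := fun y hyN hy hy' =>
    by_contra fun hyz => hne (hL'.eq_of_mem hD hRe hL hy' hy hyN hyz)
  obtain ⟨b, hb, hbgen⟩ := hL.cyclic_mod hD hRe (R.isPGroup'.to_le (inf_le_left : S ≤ _))
    (fun c hc y hy => (mem_normalizer_iff.1 (hSN₁ hc).2 y).1 hy)
    (fun a ha a' ha' => by
      rw [commutatorElement_eq_one_iff_mul_comm.2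
        (hL'.comm hD hRe ha.2 (hD.sylow_le R ha.1) ha'.2 (hD.sylow_le R ha'.1))]
      exact L.one_mem)
  have hbgen' : ∀ s ∈ S, ∃ i : ℤ, (b ^ i)⁻¹ * s ∈ center G := fun s hs => by
    obtain ⟨i, hi⟩ := hbgen s hs
    exact ⟨i, hcap _ (N.mul_mem (N.inv_mem (N.zpow_mem (hD.sylow_le R hb.1) i)) (hD.sylow_le R hs.1)) hi
      (L'.mul_mem (L'.inv_mem (L'.zpow_mem hb.2 i)) hs.2)⟩
  set x₀ := h⁻¹ * b * h with hx₀
  have hx₀R : x₀ ∈ R₀ := hback b hb
  have hgen₀ : bar R₀ = zpowers (x₀ : G ⧸ center G) := by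
    refine le_antisymm ?_ (zpowers_le.2 (mem_map_of_mem _ hx₀R))
    rintro - ⟨y, hy, rfl⟩
    have hys : h * y * h⁻¹ ∈ S :=
      ⟨(R : Subgroup G).mul_mem ((R : Subgroup G).mul_mem hhR hy.1) ((R : Subgroup G).inv_mem hhR),
        (hmem' _).2 (by rw [show h⁻¹ * (h * y * h⁻¹) * h = y by group]; exact hy.2)⟩
    obtain ⟨i, hi⟩ := hbgen' _ hys
    refine mem_zpowers_iff.2 ⟨i, ?_⟩
    rw [QuotientGroup.mk'_apply, ← QuotientGroup.mk_zpow, mk_eq, hx₀]
    have := Subgroup.Normal.conj_mem (inferInstance : (center G).Normal) _ hi h⁻¹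
    rw [inv_inv] at this
    rw [show h⁻¹ * b * h = MulAut.conj h⁻¹ b by simp, ← map_zpow]
    simpa [mul_assoc] using this
  have hx₀z : x₀ ∉ center G := fun hz => by
    have h1 : (x₁ : G ⧸ center G) ∈ zpowers (x₀ : G ⧸ center G) :=
      hgen₀ ▸ mem_map_of_mem _ ⟨hx₁, hx₁L ▸ self_mem_cent x₁⟩
    rw [(QuotientGroup.eq_one_iff x₀).2 hz, zpowers_one_eq_bot, mem_bot, QuotientGroup.eq_one_iff] at h1
    exact hx₁z h1
  set k := x₀⁻¹ * b with hk
  have hkR : k ∈ (R : Subgroup G) := mul_mem (inv_mem hx₀R.1) hb.1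
  have hkg : Commute g k := by
    let φ := comHom g
    have e1 : φ ⟨k, hgc hkR⟩ = 1 := by
      have e : (⟨k, hgc hkR⟩ : cen2 g) =
          ((⟨h, hgc hhR⟩ : cen2 g)⁻¹ * ⟨b, hgc hb.1⟩ * ⟨h, hgc hhR⟩)⁻¹ * ⟨b, hgc hb.1⟩ :=
        Subtype.ext rfl
      rw [e, map_mul, map_inv, map_mul, map_mul, map_inv]
      have hc : ∀ u v : center G, u * v = v * u := fun u v => Subtype.ext (mem_center_iff.1 v.2 u)
      rw [hc (φ ⟨h, hgc hhR⟩)⁻¹, inv_mul_cancel_right, inv_mul_cancel]
    exact (commute_of_comm_eq_one (congrArg Subtype.val e1)).symm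
  set K := (R : Subgroup G) ⊓ cent g with hK
  have hZ : ∀ (M : Subgroup G), center G ≤ M → center G ⊓ (R : Subgroup G) = ((R : Subgroup G) ⊓ M) ⊓ center G :=
    fun M hM => le_antisymm (le_inf (le_inf inf_le_right (inf_le_left.trans hM)) inf_le_left)
      (le_inf inf_le_right (inf_le_left.trans inf_le_left))
  have hzL : center G ≤ L := hx₁L ▸ center_le_centralizer _
  have hbar : Nat.card (bar K) = Nat.card (bar R₀) := by
    have hc : Nat.card K = Nat.card R₀ := by
      rw [hK, card_inf_of_normalizes R (normalizes_cent hgc), hR₀, hRfull, hx₁L,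
        hD.pow_dvd_card_cent_ne (hD.sylow_le R hgR) hgz (hD.sylow_le R hx₁) hx₁z]
    have e1 := card_bar_mul K
    have e2 := card_bar_mul R₀
    rw [← hZ _ (center_le_centralizer _), hc] at e1
    rw [← hZ _ hzL, ← e1] at e2
    exact (Nat.eq_of_mul_eq_mul_right Nat.card_pos e2).symm
  have hcom : Commute (x₀ : G ⧸ center G) (b : G ⧸ center G) := by
    refine commutatorElement_eq_one_iff_commute.1 ?_
    have e : ⁅x₀, b⁆ ∈ center G := by
      refine hcap _ ?_ ?_ ?_
      · exact hD.sylow_le R (mul_mem (mul_mem (mul_mem hx₀R.1 hb.1) (inv_mem hx₀R.1)) (inv_mem hb.1))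
      · rw [commutatorElement_def, show x₀ * b * x₀⁻¹ * b⁻¹ = x₀ * (b * x₀⁻¹ * b⁻¹) by group]
        exact L.mul_mem hx₀R.2 ((mem_normalizer_iff.1 (hSN₁ hb).2 _).1 (L.inv_mem hx₀R.2))
      · rw [commutatorElement_def]
        exact L'.mul_mem (hN₁' _ (hR₀N₁ hx₀R) _ hb.2) (L'.inv_mem hb.2)
    have e2 := (QuotientGroup.eq_one_iff (N := center G) _).2 e
    rwa [← QuotientGroup.mk'_apply, map_commutatorElement] at e2
  have hob : orderOf (b : G ⧸ center G) = orderOf (x₀ : G ⧸ center G) := by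
    have e : (b : G ⧸ center G) = MulAut.conj (h : G ⧸ center G) (x₀ : G ⧸ center G) := by
      rw [MulAut.conj_apply, ← QuotientGroup.mk_inv, ← QuotientGroup.mk_mul, ← QuotientGroup.mk_mul, hx₀]
      congr 1; group
    rw [e, MulEquiv.orderOf_eq]
  have hok : orderOf (x₀ : G ⧸ center G) ≤ orderOf (k : G ⧸ center G) := by
    rw [← hob]
    refine Nat.le_of_dvd (orderOf_pos _) (orderOf_dvd_of_pow_eq_one ?_)
    set j := orderOf (k : G ⧸ center G)
    have h1 : (x₀ : G ⧸ center G)⁻¹ ^ j * (b : G ⧸ center G) ^ j = 1 := by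
      rw [← hcom.inv_left.mul_pow, ← QuotientGroup.mk_inv, ← QuotientGroup.mk_mul, ← hk, pow_orderOf_eq_one]
    rw [inv_pow, inv_mul_eq_one, ← QuotientGroup.mk_pow, ← QuotientGroup.mk_pow, mk_eq] at h1
    rw [← QuotientGroup.mk_pow, QuotientGroup.eq_one_iff]
    refine hcap _ (N.pow_mem (hD.sylow_le R hb.1) j) ?_ (L'.pow_mem hb.2 j)
    simpa using L.mul_mem (L.pow_mem hx₀R.2 j) (hzL h1)
  have hKgen : bar K = zpowers (k : G ⧸ center G) := by
    refine (Subgroup.eq_of_le_of_card_ge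
      (zpowers_le.2 (mem_map_of_mem _ (⟨hkR, mem_cent.2 hkg.symm.eq⟩ : k ∈ K))) ?_).symm
    rw [hbar, hgen₀, Nat.card_zpowers, Nat.card_zpowers]
    exact hok
  refine false_of_typeII hD R hRz hgR hII (fun t ht => hgc ht) hkR hkg (fun t ht htg => ?_) hL hx₀R.1 hx₀R.2 hx₀z
  obtain ⟨i, hi⟩ := mem_zpowers_iff.1 (hKgen.le (mem_map_of_mem _ (⟨ht, mem_cent.2 htg.symm.eq⟩ : t ∈ K)))
  exact ⟨i, by rwa [QuotientGroup.mk'_apply, ← QuotientGroup.mk_zpow, mk_eq] at hi⟩

/-! ### The counting case -/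

/-- a group of order `r ^ 2` is abelian, for images modulo the centre -/
theorem le_cen2_of_card (R : Sylow r G) (hR : Nat.card (bar (R : Subgroup G)) = r ^ 2) {x : G}
    (hx : x ∈ (R : Subgroup G)) : (R : Subgroup G) ≤ cen2 x := by
  intro c hc
  show ⁅c, x⁆ ∈ center G
  rw [← QuotientGroup.eq_one_iff, ← QuotientGroup.mk'_apply, map_commutatorElement,
    commutatorElement_eq_one_iff_mul_comm]
  exact congrArg Subtype.val ((IsPGroup.isMulCommutative_of_card_eq_prime_sq hR).is_comm.comm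
    ⟨_, mem_map_of_mem _ hc⟩ ⟨_, mem_map_of_mem _ hx⟩)

theorem good_of_noncentral (hD : Data N r m)
    (hall : ∀ x : G, (∃ k, orderOf x = r ^ k) → x ∉ center G → Good N r (cent x)) {g : G} (hgN : g ∈ N)
    (hgz : g ∉ center G) : Good N r (cent g) := by
  obtain ⟨u, v, rfl, huv, ⟨i, hi⟩, ⟨j, hj⟩, hu, hv⟩ := exists_parts (r := r) g
  have huN : u ∈ N := hi ▸ N.pow_mem hgN i
  have hvN : v ∈ N := hj ▸ N.pow_mem hgN j
  by_cases huz : u ∈ center G
  · have hvz : v ∉ center G := fun h => hgz (mul_mem huz h)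
    rw [← mem_center_iff.1 huz v, cent_mul_central huz]
    exact ⟨v, hvN, hvz, hv, rfl⟩
  · rw [hD.eq_of_le hgN hgz huN huz (by
      have := cent_le_pow (u * v) i
      rwa [← hi] at this)]
    exact hall u hu huz

theorem conj_not_mem_center {c g : G} (h : g ∉ center G) : c * g * c⁻¹ ∉ center G :=
  fun h' => h (conj_mem_center.1 h')

/-- When no element is of type two, Sylow subgroups have order `r ^ 2` modulo the centre. -/
theorem card_bar_sylow (hD : Data N r m) (hRe : ∃ R : Sylow r G, ¬ (R : Subgroup G) ≤ center G) (hrm : r ∣ m)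
    (hall : ∀ x : G, (∃ k, orderOf x = r ^ k) → x ∉ center G → Good N r (cent x)) :
    ∀ R : Sylow r G, Nat.card (bar (R : Subgroup G)) = r ^ 2 := by
  obtain ⟨R₁, hR₁⟩ := hRe
  have hRe : ∃ R : Sylow r G, ¬ (R : Subgroup G) ≤ center G := ⟨R₁, hR₁⟩
  obtain ⟨x, hx, hxz, hxc⟩ := exists_upper R₁ le_rfl
    (fun c hc h hh => mul_mem (mul_mem hc hh) (inv_mem hc)) hR₁
  have hL := hall x (exists_orderOf_pow R₁.isPGroup' hx) hxz
  set L := cent x with hLdef
  have hRN : (R₁ : Subgroup G) ≤ normalizer (L : Set G) := normalizes_cent hxc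
  have hRL : ¬ (R₁ : Subgroup G) ≤ L := fun h => by
    have h1 := hD.sizes x (hD.sylow_le R₁ hx) hxz
    exact R₁.not_dvd_index ((h1 ▸ hrm : r ∣ L.index).trans (index_dvd_of_le h))
  -- exponent `r` outside `L`
  have hexp : ∀ g ∈ (R₁ : Subgroup G), g ∉ L → g ^ r ∈ center G := by
    intro g hg hgL
    by_contra hgr
    obtain ⟨x₁, hx₁, hx₁z, hx₁r⟩ : ∃ x₁ ∈ zpowers x, x₁ ∉ center G ∧ x₁ ^ r ∈ center G := by
      obtain ⟨l, hl⟩ := exists_orderOf_pow R₁.isPGroup' hx
      have hex : ∃ e, x ^ r ^ e ∈ center G := ⟨l, by rw [← hl, pow_orderOf_eq_one]; exact one_mem _⟩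
      classical
      obtain ⟨e, he⟩ : ∃ e, Nat.find hex = e + 1 := ⟨Nat.find hex - 1, by
        have : Nat.find hex ≠ 0 := fun h => hxz (by
          have := Nat.find_spec hex; rwa [h, pow_zero, pow_one] at this)
        omega⟩
      exact ⟨x ^ r ^ e, pow_mem (mem_zpowers x) _, Nat.find_min hex (by omega),
        by rw [← pow_mul, ← pow_succ, ← he]; exact Nat.find_spec hex⟩
    have hx₁R : x₁ ∈ (R₁ : Subgroup G) := zpowers_le.2 hx hx₁
    have hx₁L : x₁ ∈ L := zpowers_le.2 (self_mem_cent x) hx₁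
    have hcomm : Commute (g : G ⧸ center G) (x₁ : G ⧸ center G) := by
      obtain ⟨i, hi⟩ := mem_zpowers_iff.1 hx₁
      rw [← hi, QuotientGroup.mk_zpow]
      refine Commute.zpow_right ?_ i
      refine commutatorElement_eq_one_iff_commute.1 ?_
      have := (QuotientGroup.eq_one_iff (N := center G) _).2 (hxc hg)
      rwa [← QuotientGroup.mk'_apply, map_commutatorElement] at this
    have hh : (g ^ r)⁻¹ * (g * x₁) ^ r ∈ center G := by
      rw [← mk_eq, QuotientGroup.mk_pow, QuotientGroup.mk_pow, QuotientGroup.mk_mul, hcomm.mul_pow,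
        show ((x₁ : G ⧸ center G)) ^ r = 1 from by
          rw [← QuotientGroup.mk_pow]; exact (QuotientGroup.eq_one_iff _).2 hx₁r, mul_one]
    have hgz : g ∉ center G := fun h => hgr (pow_mem h r)
    have hgN : g ∈ N := hD.sylow_le R₁ hg
    have hgxN : g * x₁ ∈ N := N.mul_mem hgN (hD.sylow_le R₁ hx₁R)
    have e1 : cent (g ^ r) = cent g :=
      (hD.eq_of_le hgN hgz (N.pow_mem hgN r) hgr (cent_le_pow g r)).symm
    have e2 : cent ((g * x₁) ^ r) = cent (g ^ r) := by
      rw [← mul_inv_cancel_left (g ^ r) ((g * x₁) ^ r), cent_mul_central hh]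
    have hgxz : g * x₁ ∉ center G := fun h => hgr (by
      have := mul_mem (pow_mem h r) (inv_mem hh)
      rwa [mul_inv_rev, inv_inv, mul_inv_cancel_left] at this)
    have e3 : cent ((g * x₁) ^ r) = cent (g * x₁) :=
      (hD.eq_of_le hgxN hgxz (N.pow_mem hgxN r) (by
        intro h
        exact hgr (mem_center_iff_cent.2 (e2 ▸ mem_center_iff_cent.1 h))) (cent_le_pow _ r)).symm
    have h1 : g ∈ cent (g * x₁) := by rw [← e3, e2, e1]; exact self_mem_cent g
    have h2 : Commute g x₁ := mul_left_cancel (a := g) (by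
      have := mem_cent.1 h1
      simpa [mul_assoc] using this)
    exact hgL ((hL.cent_eq hD hRe hx₁L (hD.sylow_le R₁ hx₁R) hx₁z) ▸ mem_cent.2 h2.eq)
  obtain ⟨b, hb, hbgen⟩ := hL.cyclic_mod hD hRe R₁.isPGroup'
    (fun c hc y hy => (mem_normalizer_iff.1 (hRN hc) y).1 hy)
    (fun a ha b hb => mem_cent.2 (commutator_commute hxc ha hb).symm.eq)
  set R₀ := (R₁ : Subgroup G) ⊓ L with hR₀
  haveI hn : (R₀.subgroupOf (R₁ : Subgroup G)).Normal := ⟨fun y hy t =>
    ⟨(t * y * t⁻¹).2, (mem_normalizer_iff.1 (hRN t.2) y).1 hy.2⟩⟩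
  set f := QuotientGroup.mk' (R₀.subgroupOf (R₁ : Subgroup G)) with hf
  have hbL : b ∉ L := fun hbL => hRL fun h hh => by
    obtain ⟨i, hi⟩ := hbgen h hh
    simpa using L.mul_mem (L.zpow_mem hbL i) hi
  have hrel : R₀.relIndex (R₁ : Subgroup G) = r := by
    show Nat.card ((R₁ : Subgroup G) ⧸ R₀.subgroupOf (R₁ : Subgroup G)) = r
    have hgenf : zpowers (f ⟨b, hb⟩) = ⊤ := (eq_top_iff' _).2 fun q => by
      obtain ⟨⟨h, hh⟩, rfl⟩ := QuotientGroup.mk'_surjective _ q
      obtain ⟨i, hi⟩ := hbgen h hh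
      refine mem_zpowers_iff.2 ⟨i, ?_⟩
      rw [← map_zpow, hf, QuotientGroup.mk'_apply, QuotientGroup.mk'_apply, QuotientGroup.eq, mem_subgroupOf]
      simp only [Subgroup.coe_mul, Subgroup.coe_inv, SubgroupClass.coe_zpow]
      exact ⟨(R₁ : Subgroup G).mul_mem ((R₁ : Subgroup G).inv_mem ((R₁ : Subgroup G).zpow_mem hb i)) hh, hi⟩
    rw [← card_top (G := (R₁ : Subgroup G) ⧸ _), ← hgenf, Nat.card_zpowers]
    refine orderOf_eq_prime ?_ fun h => hbL ?_
    · rw [← map_pow, hf, QuotientGroup.mk'_apply, QuotientGroup.eq_one_iff, mem_subgroupOf,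
        Subgroup.coe_pow]
      exact ⟨pow_mem hb r, center_le_centralizer _ (hexp b hb hbL)⟩
    · rw [hf, QuotientGroup.mk'_apply, QuotientGroup.eq_one_iff, mem_subgroupOf] at h
      exact h.2
  -- an element outside the `N`-conjugates of `L`
  obtain ⟨g₁, hg₁, hg₁N⟩ : ∃ g₁, g₁ ∈ N ∧ ∀ n ∈ N, n⁻¹ * g₁ * n ∉ L := by
    by_contra hcon
    push Not at hcon
    have htop := eq_top_of_conj_cover (G := N) (M := (L ⊓ N).subgroupOf N) fun g => by
      obtain ⟨n, hn, hnL⟩ := hcon g g.2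
      exact ⟨⟨n, hn⟩, hnL, N.mul_mem (N.mul_mem (N.inv_mem hn) g.2) hn⟩
    refine hRL fun h hh => ?_
    exact ((htop.ge (mem_top (⟨h, hD.sylow_le R₁ hh⟩ : N))) : h ∈ L ⊓ N).1
  have hg₁z : g₁ ∉ center G := fun h => by
    refine hg₁N 1 N.one_mem ?_
    simpa using center_le_centralizer _ h
  obtain ⟨u, hur, huz, huL⟩ := (good_of_noncentral hD hall hg₁ hg₁z).exists_r hD hRe
  -- move it into `R₁` by an element of `N`
  obtain ⟨R', hR'⟩ := exists_full (r := r) (cent u)
  haveI := hD.normal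
  obtain ⟨n, hn⟩ := MulAction.exists_smul_eq N (R'.subtype (hD.sylow_le R')) (R₁.subtype (hD.sylow_le R₁))
  have hRe' : (R₁ : Subgroup G) = (R' : Subgroup G).map (MulAut.conj (n : G)).toMonoidHom := by
    ext y
    constructor
    · intro hy
      have : (⟨y, hD.sylow_le R₁ hy⟩ : N) ∈ ((R₁.subtype (hD.sylow_le R₁)) : Subgroup N) := hy
      rw [← hn] at this
      obtain ⟨w, hw, hwe⟩ := this
      exact ⟨w, hw, congrArg Subtype.val hwe⟩
    · rintro ⟨w, hw, rfl⟩
      have : (MulAut.conj n) (⟨w, hD.sylow_le R' hw⟩ : N) ∈ ((R₁.subtype (hD.sylow_le R₁)) : Subgroup N) := by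
        rw [← hn]; exact ⟨⟨w, hD.sylow_le R' hw⟩, hw, rfl⟩
      exact this
  set u' := (n : G) * u * (n : G)⁻¹ with hu'
  have hu'R : u' ∈ (R₁ : Subgroup G) := by
    rw [hRe']
    exact mem_map_of_mem _ (mem_of_full R' hR' (self_mem_cent u) hur fun y hy => (mem_cent.1 hy).symm)
  have hu'z : u' ∉ center G := conj_not_mem_center huz
  set K := (R₁ : Subgroup G) ⊓ cent u' with hK
  have hKcard : Nat.card K = r ^ (Nat.card L).factorization r := by
    have e : K = ((R' : Subgroup G) ⊓ cent u).map (MulAut.conj (n : G)).toMonoidHom := by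
      rw [map_inf _ _ _ (MulAut.conj (n : G)).injective, ← hRe', map_cent]
    rw [e, card_map_of_injective (MulAut.conj (n : G)).injective, hR',
      hD.pow_dvd_card_cent_ne (hD.r_mem hur) huz (hD.sylow_le R₁ hx) hxz]
  have hR₀card : Nat.card R₀ = r ^ (Nat.card L).factorization r := card_inf_of_normalizes R₁ hRN
  have hKR₀ : K ⊓ R₀ ≤ center G := by
    intro k hk
    by_contra hkz
    have hkN : k ∈ N := hD.sylow_le R₁ hk.1.1
    have e1 := hL.cent_eq hD hRe hk.2.2 hkN hkz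
    have e2 := (hall u' (exists_orderOf_pow R₁.isPGroup' hu'R) hu'z).cent_eq hD hRe hk.1.2 hkN hkz
    -- then `g₁` would be conjugate into `L`
    refine hg₁N (n : G)⁻¹ (N.inv_mem n.2) ?_
    rw [inv_inv, e1.symm.trans e2, ← map_cent]
    exact mem_map_of_mem _ (huL ▸ self_mem_cent g₁)
  have hZ : ∀ (w : G), center G ⊓ (R₁ : Subgroup G) = ((R₁ : Subgroup G) ⊓ cent w) ⊓ center G := fun w =>
    le_antisymm (le_inf (le_inf inf_le_right (inf_le_left.trans (center_le_centralizer _))) inf_le_left)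
      (le_inf inf_le_right (inf_le_left.trans inf_le_left))
  have hbarK : Nat.card (bar K) = R₀.relIndex K := by
    have e := relIndex_ker (f := QuotientGroup.mk' (center G)) (K := K)
    rw [QuotientGroup.ker_mk'] at e
    rw [← e, ← inf_relIndex_right (center G), ← inf_relIndex_right R₀]
    congr 1
    exact le_antisymm (le_inf (le_inf (inf_le_right.trans inf_le_left)
        (inf_le_left.trans (center_le_centralizer _))) inf_le_right)
      (le_inf (le_trans (le_of_eq (inf_comm _ _)) hKR₀) inf_le_right)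
  have hle : Nat.card (bar K) ≤ r := hbarK ▸ hrel ▸ relIndex_le_of_le_right inf_le_left (by
    show (R₀.subgroupOf (R₁ : Subgroup G)).index ≠ 0
    exact index_ne_zero_of_finite)
  have hKr : Nat.card (bar K) = r := by
    obtain ⟨j, hj⟩ := (R₁.isPGroup'.to_le (inf_le_left : K ≤ _)).map (QuotientGroup.mk' (center G)) |>.exists_card_eq
    rw [hj] at hle ⊢
    have hj0 : j ≠ 0 := fun h => hu'z (by
      have h1 : bar K = ⊥ := eq_bot_of_card_eq _ (by rw [hj, h, pow_zero])
      have h2 : ((u' : G) : G ⧸ center G) ∈ bar K := mem_map_of_mem _ ⟨hu'R, self_mem_cent u'⟩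
      rw [h1, mem_bot] at h2
      exact (QuotientGroup.eq_one_iff u').1 h2)
    rcases Nat.lt_or_ge j 2 with h2 | h2
    · rw [show j = 1 by omega, pow_one]
    · exact absurd hle (not_le.2 (lt_of_lt_of_le (lt_self_pow₀ hr.out.one_lt (by norm_num : 1 < 2))
        (Nat.pow_le_pow_right hr.out.pos h2)))
  have hR₀r : Nat.card (bar R₀) = r := by
    have e1 := card_bar_mul K
    have e2 := card_bar_mul R₀
    rw [← hZ u', hKr, hKcard] at e1
    rw [← hZ x, hR₀card, ← e1] at e2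
    exact Nat.eq_of_mul_eq_mul_right Nat.card_pos e2
  have hmain : Nat.card (bar (R₁ : Subgroup G)) = r ^ 2 := by
    have e1 := card_bar_mul (R₁ : Subgroup G)
    have e2 := card_bar_mul R₀
    have e3 := relIndex_mul_relIndex (⊥ : Subgroup G) R₀ (R₁ : Subgroup G) bot_le inf_le_left
    rw [relIndex_bot_left, relIndex_bot_left, hrel] at e3
    rw [← hZ x, hR₀r, inf_comm (center G)] at e2
    rw [← e3, ← e2] at e1
    refine Nat.eq_of_mul_eq_mul_right (Nat.card_pos (α := ((R₁ : Subgroup G) ⊓ center G : Subgroup G))) ?_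
    rw [e1]; ring
  intro R
  obtain ⟨c, hc⟩ := MulAction.exists_smul_eq G R₁ R
  rw [← hmain, show (R : Subgroup G) = (R₁ : Subgroup G).map (MulAut.conj c).toMonoidHom by rw [← hc]; rfl]
  show Nat.card (((R₁ : Subgroup G).map (MulAut.conj c).toMonoidHom).map (QuotientGroup.mk' (center G))) = _
  have e : (QuotientGroup.mk' (center G)).comp (MulAut.conj c).toMonoidHom =
      (MulAut.conj (c : G ⧸ center G)).toMonoidHom.comp (QuotientGroup.mk' (center G)) :=
    MonoidHom.ext fun y => by simp [MulAut.conj_apply]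
  rw [map_map, e, ← map_map, card_map_of_injective (MulAut.conj (c : G ⧸ center G)).injective]

/-- The incidence between Sylow subgroups and good subgroups. -/
abbrev Inc (R : Sylow r G) (L : Subgroup G) : Prop :=
  ∃ x ∈ (R : Subgroup G), x ∈ L ∧ x ∉ center G

theorem card_ne_one_subtype {H : Type*} [Group H] [Finite H] : Nat.card {q : H // q ≠ 1} = Nat.card H - 1 := by
  classical
  haveI := Fintype.ofFinite H
  rw [Nat.card_eq_fintype_card, Nat.card_eq_fintype_card, Fintype.card_subtype_compl, Fintype.card_subtype_eq]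

/-- Case: no element is of type two. -/
theorem false_of_all_good (hD : Data N r m) (hRe : ∃ R : Sylow r G, ¬ (R : Subgroup G) ≤ center G) (hrm : r ∣ m)
    (hall : ∀ x : G, (∃ k, orderOf x = r ^ k) → x ∉ center G → Good N r (cent x)) : False := by
  classical
  haveI := hD.normal
  set Z := center G
  have hRR := card_bar_sylow hD hRe hrm hall
  set 𝓛 := {L : Subgroup G // Good N r L} with h𝓛
  haveI : Fintype 𝓛 := Fintype.ofFinite _
  haveI : Fintype (Sylow r G) := Fintype.ofFinite _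
  have hmkz : ∀ {w : G}, (w : G ⧸ Z) = 1 ↔ w ∈ Z := fun {w} => QuotientGroup.eq_one_iff w
  -- each element modulo the centre lies in exactly one good subgroup
  have hcongr : ∀ {v w : G}, (v : G ⧸ Z) = w → cent v = cent w := fun {v w} h => by
    have := mk_eq.1 h
    rw [← mul_inv_cancel_left v w, cent_mul_central this]
  have hT : Nat.card (bar N) - 1 = ∑ L : 𝓛, (Nat.card (bar (L.1 ⊓ N)) - 1) := by
    let F : (Σ L : 𝓛, {q : bar (L.1 ⊓ N) // q ≠ 1}) → {q : bar N // q ≠ 1} := fun t =>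
      ⟨⟨t.2.1.1, map_mono inf_le_right t.2.1.2⟩, fun h => t.2.2 (Subtype.ext (congrArg (fun z : bar N => (z : G ⧸ Z)) h))⟩
    have hF : Function.Bijective F := by
      constructor
      · rintro ⟨⟨L, hL⟩, ⟨⟨q, hq⟩, hq1⟩⟩ ⟨⟨L', hL'⟩, ⟨⟨q', hq'⟩, hq1'⟩⟩ h
        obtain rfl : q = q' := congrArg (fun z : {q : bar N // q ≠ 1} => (z.1 : G ⧸ Z)) h
        obtain ⟨v, hv, hve⟩ := id hq
        obtain ⟨w, hw, hwe⟩ := id hq'
        have hvz : v ∉ Z := fun hz => hq1 (Subtype.ext (by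
          show q = 1
          rw [← hve]; exact hmkz.2 hz))
        have hwz : w ∉ Z := fun hz => hq1' (Subtype.ext (by
          show q = 1
          rw [← hwe]; exact hmkz.2 hz))
        obtain rfl : L = L' := by
          rw [← hL.cent_eq hD hRe hv.1 hv.2 hvz, ← hL'.cent_eq hD hRe hw.1 hw.2 hwz]
          exact hcongr (hve.trans hwe.symm)
        rfl
      · rintro ⟨⟨q, hq⟩, hq1⟩
        obtain ⟨v, hv, hve⟩ := id hq
        have hvz : v ∉ Z := fun hz => hq1 (Subtype.ext (by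
          show q = 1
          rw [← hve]; exact hmkz.2 hz))
        exact ⟨⟨⟨cent v, good_of_noncentral hD hall hv hvz⟩,
          ⟨⟨q, v, ⟨self_mem_cent v, hv⟩, hve⟩, fun h => hq1 (Subtype.ext (show q = 1 by simpa using congrArg Subtype.val h))⟩⟩, rfl⟩
    have e := Nat.card_congr (Equiv.ofBijective F hF)
    rw [Nat.card_sigma, card_ne_one_subtype] at e
    rw [← e]
    exact Finset.sum_congr rfl fun L _ => card_ne_one_subtype
  -- intersections with Sylow subgroups
  have hnorm : ∀ (R : Sylow r G) (L : Subgroup G), Good N r L → Inc R L →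
      ∀ c ∈ (R : Subgroup G), ∀ y ∈ L, c * y * c⁻¹ ∈ L := by
    rintro R L hL ⟨x, hx, hxL, hxz⟩ c hc
    refine hL.normalizes hD hRe hxL (hD.sylow_le R hx) hxz ?_
    have h : ⁅c, x⁆ ∈ Z := le_cen2_of_card R (hRR R) hx hc
    rw [show c * x * c⁻¹ = ⁅c, x⁆ * x by rw [commutatorElement_def, inv_mul_cancel_right]]
    refine L.mul_mem ?_ hxL
    rw [← hL.cent_eq hD hRe hxL (hD.sylow_le R hx) hxz]
    exact center_le_centralizer _ h
  have hline : ∀ (R : Sylow r G) (L : Subgroup G), Good N r L → Inc R L →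
      Nat.card (bar ((R : Subgroup G) ⊓ L)) = r := by
    intro R L hL hI
    obtain ⟨x, hx, hxL, hxz⟩ := hI
    have hle : bar ((R : Subgroup G) ⊓ L) ≤ bar (R : Subgroup G) := map_mono inf_le_left
    have hd := card_dvd_of_le hle
    rw [hRR R] at hd
    obtain ⟨j, hj2, hj⟩ := (Nat.dvd_prime_pow hr.out).1 hd
    have hj0 : j ≠ 0 := fun h => hxz (by
      have h1 : bar ((R : Subgroup G) ⊓ L) = ⊥ := eq_bot_of_card_eq _ (by rw [hj, h, pow_zero])
      have h2 : ((x : G) : G ⧸ Z) ∈ bar ((R : Subgroup G) ⊓ L) := mem_map_of_mem _ ⟨hx, hxL⟩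
      rw [h1, mem_bot] at h2
      exact hmkz.1 h2)
    have hj2' : j ≠ 2 := fun h => by
      have heq := Subgroup.eq_of_le_of_card_ge hle (by rw [hj, h, hRR R])
      have hRL : (R : Subgroup G) ≤ L := fun y hy => by
        obtain ⟨w, hw, hwe⟩ := heq.ge (mem_map_of_mem (QuotientGroup.mk' Z) hy)
        have hzL : Z ≤ L := by
          rw [← hL.cent_eq hD hRe hxL (hD.sylow_le R hx) hxz]; exact center_le_centralizer _
        simpa using L.mul_mem hw.2 (hzL (mk_eq.1 hwe))
      refine R.not_dvd_index (((?_ : r ∣ (cent x).index)).trans (index_dvd_of_le ?_))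
      · rw [hD.sizes x (hD.sylow_le R hx) hxz]; exact hrm
      · rwa [hL.cent_eq hD hRe hxL (hD.sylow_le R hx) hxz]
    rw [hj, show j = 1 by omega, pow_one]
  have hperR : ∀ R : Sylow r G, Nat.card {L : 𝓛 // Inc R L.1} = r + 1 := by
    intro R
    haveI : Fintype {L : 𝓛 // Inc R L.1} := Fintype.ofFinite _
    let F : (Σ L : {L : 𝓛 // Inc R L.1}, {q : bar ((R : Subgroup G) ⊓ L.1.1) // q ≠ 1}) →
        {q : bar (R : Subgroup G) // q ≠ 1} := fun t =>
      ⟨⟨t.2.1.1, map_mono inf_le_left t.2.1.2⟩, fun h => t.2.2 (Subtype.ext (congrArg (fun z : bar (R : Subgroup G) => (z : G ⧸ Z)) h))⟩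
    have hF : Function.Bijective F := by
      constructor
      · rintro ⟨⟨⟨L, hL⟩, hI⟩, ⟨⟨q, hq⟩, hq1⟩⟩ ⟨⟨⟨L', hL'⟩, hI'⟩, ⟨⟨q', hq'⟩, hq1'⟩⟩ h
        obtain rfl : q = q' := congrArg (fun z : {q : bar (R : Subgroup G) // q ≠ 1} => (z.1 : G ⧸ Z)) h
        obtain ⟨v, hv, hve⟩ := id hq
        obtain ⟨w, hw, hwe⟩ := id hq'
        have hvz : v ∉ Z := fun hz => hq1 (Subtype.ext (by
          show q = 1
          rw [← hve]; exact hmkz.2 hz))
        have hwz : w ∉ Z := fun hz => hq1' (Subtype.ext (by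
          show q = 1
          rw [← hwe]; exact hmkz.2 hz))
        obtain rfl : L = L' := by
          rw [← hL.cent_eq hD hRe hv.2 (hD.sylow_le R hv.1) hvz,
            ← hL'.cent_eq hD hRe hw.2 (hD.sylow_le R hw.1) hwz]
          exact hcongr (hve.trans hwe.symm)
        rfl
      · rintro ⟨⟨q, hq⟩, hq1⟩
        obtain ⟨v, hv, hve⟩ := id hq
        have hvz : v ∉ Z := fun hz => hq1 (Subtype.ext (by
          show q = 1
          rw [← hve]; exact hmkz.2 hz))
        exact ⟨⟨⟨⟨cent v, good_of_noncentral hD hall (hD.sylow_le R hv) hvz⟩, v, hv, self_mem_cent v, hvz⟩,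
          ⟨⟨q, v, ⟨hv, self_mem_cent v⟩, hve⟩, fun h => hq1 (Subtype.ext (show q = 1 by simpa using congrArg Subtype.val h))⟩⟩, rfl⟩
    have e := Nat.card_congr (Equiv.ofBijective F hF)
    rw [Nat.card_sigma, card_ne_one_subtype, hRR R, Finset.sum_congr rfl (g := fun _ => r - 1)
      (fun L _ => by rw [card_ne_one_subtype, hline R L.1.1 L.1.2 L.2]), Finset.sum_const, Finset.card_univ,
      smul_eq_mul, ← Nat.card_eq_fintype_card] at e
    refine Nat.eq_of_mul_eq_mul_right (by have := hr.out.two_le; omega : 0 < r - 1) ?_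
    rw [e, ← one_pow 2, Nat.sq_sub_sq, one_pow]
  -- the Sylow subgroups incident to a good subgroup
  have hperL : ∀ L : 𝓛, Nat.card {R : Sylow r G // Inc R L.1} * r = Nat.card (bar (L.1 ⊓ N)) ∧
      2 * r ≤ Nat.card (bar (L.1 ⊓ N)) := by
    rintro ⟨L, hL⟩
    obtain ⟨x, hxr, hxz, hxL⟩ := hL.exists_r hD hRe
    obtain ⟨R₁, hxR₁⟩ := exists_sylow_mem (r := r) hxr
    have hxL' : x ∈ L := hxL ▸ self_mem_cent x
    have hI₁ : Inc R₁ L := ⟨x, hxR₁, hxL', hxz⟩
    have hzL : Z ≤ L := hxL ▸ center_le_centralizer _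
    set A := L ⊓ N with hA
    -- `r`-elements of `A` lie in every incident Sylow subgroup
    have hAr : ∀ R : Sylow r G, Inc R L → ∀ v ∈ A, (∃ k, orderOf v = r ^ k) → v ∈ (R : Subgroup G) := by
      intro R hI v hv hvr
      let Ar : Subgroup G :=
        { carrier := {v | v ∈ A ∧ ∃ k : ℕ, v ^ r ^ k = 1}
          mul_mem' := fun {a b} ⟨ha, i, hi⟩ ⟨hb, j, hj⟩ => ⟨A.mul_mem ha hb, i + j, by
            rw [(show Commute a b from hL.comm hD hRe ha.1 ha.2 hb.1 hb.2).mul_pow,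
              show a ^ r ^ (i + j) = 1 by rw [pow_add, pow_mul, hi, one_pow],
              show b ^ r ^ (i + j) = 1 by rw [add_comm, pow_add, pow_mul, hj, one_pow], one_mul]⟩
          one_mem' := ⟨A.one_mem, 0, one_pow _⟩
          inv_mem' := fun {a} ⟨ha, i, hi⟩ => ⟨A.inv_mem ha, i, by rw [inv_pow, hi, inv_one]⟩ }
      have hArp : IsPGroup r Ar := fun a => by
        obtain ⟨-, i, hi⟩ := a.2
        exact ⟨i, Subtype.ext (by simpa using hi)⟩
      have hn : (R : Subgroup G) ≤ normalizer (Ar : Set G) := by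
        have key : ∀ c ∈ (R : Subgroup G), ∀ a ∈ Ar, c * a * c⁻¹ ∈ Ar := fun c hc a ha =>
          ⟨⟨hnorm R L hL hI c hc a ha.1.1, hD.normal.conj_mem a ha.1.2 c⟩,
            ha.2.imp fun i hi => by rw [conj_pow, hi, mul_one, mul_inv_cancel]⟩
        intro c hc
        rw [mem_normalizer_iff]
        refine fun a => ⟨key c hc a, fun h => ?_⟩
        have := key _ ((R : Subgroup G).inv_mem hc) _ h
        rwa [inv_inv, show c⁻¹ * (c * a * c⁻¹) * c = a by group] at this
      refine sup_eq_left.1 (R.is_maximal' (Q := (R : Subgroup G) ⊔ Ar) ?_ le_sup_left) ?_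
      · exact R.isPGroup'.to_sup_of_normal_right' hArp hn
      · obtain ⟨k, hk⟩ := hvr
        exact ⟨hv, k, by rw [← hk, pow_orderOf_eq_one]⟩
    let B : Subgroup G :=
      { carrier := {g | g ∈ N ∧ ∀ v ∈ A, (∃ k, orderOf v = r ^ k) → g ∈ cen2 v}
        mul_mem' := fun {a b} ha hb => ⟨N.mul_mem ha.1 hb.1, fun v hv h => (cen2 v).mul_mem (ha.2 v hv h) (hb.2 v hv h)⟩
        one_mem' := ⟨N.one_mem, fun v _ _ => (cen2 v).one_mem⟩
        inv_mem' := fun {a} ha => ⟨N.inv_mem ha.1, fun v hv h => (cen2 v).inv_mem (ha.2 v hv h)⟩ }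
    have hRB : ∀ R : Sylow r G, Inc R L → (R : Subgroup G) ≤ B := fun R hI g hg =>
      ⟨hD.sylow_le R hg, fun v hv h => le_cen2_of_card R (hRR R) (hAr R hI v hv h) hg⟩
    have hAB : A ≤ B := fun g hg => ⟨hg.2, fun v hv _ => by
      show ⁅g, v⁆ ∈ Z
      rw [commutatorElement_eq_one_iff_mul_comm.2 (hL.comm hD hRe hg.1 hg.2 hv.1 hv.2)]
      exact one_mem _⟩
    have hB : (R₁ : Subgroup G) ⊔ A = B :=
      eq_of_prime_elems (sup_le (hRB R₁ hI₁) hAB) R₁ le_sup_left fun g hg hgr => mem_sup_right ⟨by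
        rw [hxL]
        exact mem_cent.2 (commute_of_central_comm hxr hgr (hg.2 x ⟨hxL', hD.sylow_le R₁ hxR₁⟩ hxr)).symm.eq, hg.1⟩
    have hAnorm : (R₁ : Subgroup G) ≤ normalizer (A : Set G) := by
      intro c hc
      rw [mem_normalizer_iff]
      refine fun a => ⟨fun ha => ⟨hnorm R₁ L hL hI₁ c hc a ha.1, hD.normal.conj_mem a ha.2 c⟩, fun h => ?_⟩
      have h1 := hnorm R₁ L hL hI₁ _ ((R₁ : Subgroup G).inv_mem hc) _ h.1
      have h2 := hD.normal.conj_mem _ h.2 c⁻¹
      rw [inv_inv, show c⁻¹ * (c * a * c⁻¹) * c = a by group] at h1 h2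
      exact ⟨h1, h2⟩
    -- the incident Sylow subgroups form an orbit of `A`
    have horb : ∀ R : Sylow r G, Inc R L ↔ R ∈ MulAction.orbit A R₁ := by
      intro R
      constructor
      · intro hI
        obtain ⟨⟨k, hk⟩, hke⟩ := MulAction.exists_smul_eq B (R₁.subtype (hRB R₁ hI₁)) (R.subtype (hRB R hI))
        have hkR : k • R₁ = R := by
          refine Sylow.ext (le_antisymm ?_ ?_)
          · rintro - ⟨w, hw, rfl⟩
            have : (MulAut.conj (⟨k, hk⟩ : B)) (⟨w, hRB R₁ hI₁ hw⟩ : B) ∈ ((R.subtype (hRB R hI)) : Subgroup B) := by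
              rw [← hke]; exact ⟨_, hw, rfl⟩
            exact this
          · intro y hy
            have : (⟨y, hRB R hI hy⟩ : B) ∈ ((R.subtype (hRB R hI)) : Subgroup B) := hy
            rw [← hke] at this
            obtain ⟨w, hw, hwe⟩ := this
            exact ⟨w, hw, congrArg Subtype.val hwe⟩
        have hk' : k ∈ ((R₁ : Subgroup G) : Set G) * (A : Set G) := by
          rw [← coe_mul_of_left_le_normalizer_right _ _ hAnorm, hB]; exact hk
        obtain ⟨ρ, hρ, v, hv, rfl⟩ := hk'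
        have hv' : ρ * v * ρ⁻¹ ∈ A := (mem_normalizer_iff.1 (hAnorm hρ) v).1 hv
        refine ⟨⟨_, hv'⟩, ?_⟩
        show (ρ * v * ρ⁻¹) • R₁ = R
        have hρR : ρ⁻¹ • R₁ = R₁ :=
          Sylow.smul_eq_iff_mem_normalizer.2 (le_normalizer ((R₁ : Subgroup G).inv_mem hρ))
        rw [mul_smul, hρR, hkR]
      · rintro ⟨⟨a, ha⟩, rfl⟩
        refine ⟨a * x * a⁻¹, ⟨x, hxR₁, rfl⟩, L.mul_mem (L.mul_mem ha.1 hxL') (L.inv_mem ha.1),
          conj_not_mem_center hxz⟩
    have hstab : MulAction.stabilizer A R₁ = (normalizer ((R₁ : Subgroup G) : Set G)).subgroupOf A := by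
      ext a
      rw [MulAction.mem_stabilizer_iff, mem_subgroupOf]
      exact Sylow.smul_eq_iff_mem_normalizer
    set S := A ⊓ normalizer ((R₁ : Subgroup G) : Set G) with hS
    have hbarS : bar S = bar ((R₁ : Subgroup G) ⊓ L) := by
      refine le_antisymm ?_ (map_mono (le_inf (le_inf inf_le_right (inf_le_left.trans (hD.sylow_le R₁)))
        (inf_le_left.trans le_normalizer)))
      rintro - ⟨v, hv, rfl⟩
      obtain ⟨v₁, v₂, rfl, -, ⟨i, hi⟩, ⟨j, hj⟩, hv₁, hv₂⟩ := exists_parts (r := r) v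
      have hv₁A : v₁ ∈ A := hi ▸ A.pow_mem hv.1 i
      have hv₂A : v₂ ∈ A := hj ▸ A.pow_mem hv.1 j
      have hv₁R : v₁ ∈ (R₁ : Subgroup G) := hAr R₁ hI₁ v₁ hv₁A hv₁
      have hv₂n : v₂ ∈ normalizer ((R₁ : Subgroup G) : Set G) := hj ▸ pow_mem hv.2 j
      have hv₂c : v₂ ∈ Z := by
        by_contra hv₂z
        have hRc : (R₁ : Subgroup G) ≤ cent v₂ := by
          intro b hb
          set d := ⁅v₂, b⁆ with hd
          have hdR : d ∈ (R₁ : Subgroup G) := by
            rw [hd, commutatorElement_def]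
            exact (R₁ : Subgroup G).mul_mem ((mem_normalizer_iff.1 hv₂n b).1 hb) ((R₁ : Subgroup G).inv_mem hb)
          have hcbA : b * v₂⁻¹ * b⁻¹ ∈ A := (mem_normalizer_iff.1 (hAnorm hb) _).1 (A.inv_mem hv₂A)
          have hdA : d ∈ A := by
            rw [hd, commutatorElement_def, show v₂ * b * v₂⁻¹ * b⁻¹ = v₂ * (b * v₂⁻¹ * b⁻¹) by group]
            exact A.mul_mem hv₂A hcbA
          have e : b * v₂⁻¹ * b⁻¹ = v₂⁻¹ * d := by rw [hd, commutatorElement_def]; group
          have hco : Commute v₂⁻¹ d := (hL.comm hD hRe (A.inv_mem hv₂A).1 (A.inv_mem hv₂A).2 hdA.1 hdA.2)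
          obtain ⟨l, hl⟩ := exists_orderOf_pow R₁.isPGroup' hdR
          have hd1 : d ^ orderOf v₂ = 1 := by
            have h1 : (b * v₂⁻¹ * b⁻¹) ^ orderOf v₂ = 1 := by
              rw [conj_pow, inv_pow, pow_orderOf_eq_one, inv_one, mul_one, mul_inv_cancel]
            rwa [e, hco.mul_pow, inv_pow, pow_orderOf_eq_one, inv_one, one_mul] at h1
          have hd2 : orderOf d ∣ Nat.gcd (r ^ l) (orderOf v₂) :=
            Nat.dvd_gcd (hl ▸ dvd_rfl) (orderOf_dvd_of_pow_eq_one hd1)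
          rw [Nat.Coprime.gcd_eq_one (Nat.Coprime.pow_left _ (hr.out.coprime_iff_not_dvd.2 hv₂)), Nat.dvd_one,
            orderOf_eq_one_iff, hd, commutatorElement_eq_one_iff_mul_comm] at hd2
          exact mem_cent.2 hd2.symm
        refine R₁.not_dvd_index ((?_ : r ∣ (cent v₂).index).trans (index_dvd_of_le hRc))
        rw [hD.sizes v₂ hv₂A.2 hv₂z]; exact hrm
      refine ⟨v₁, ⟨hv₁R, hv₁A.1⟩, ?_⟩
      rw [map_mul, show QuotientGroup.mk' Z v₂ = 1 from hmkz.2 hv₂c, mul_one]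
    have hcardS : Nat.card (bar S) = r := hbarS ▸ hline R₁ L hL hI₁
    have hs : Nat.card {R : Sylow r G // Inc R L} = ((normalizer ((R₁ : Subgroup G) : Set G)).subgroupOf A).index := by
      rw [← hstab, MulAction.index_stabilizer, ← Nat.card_coe_set_eq]
      exact Nat.card_congr (Equiv.subtypeEquivRight horb)
    have hzS : S ⊓ Z = A ⊓ Z := le_antisymm (inf_le_inf_right _ inf_le_left)
      (le_inf (le_inf inf_le_left (inf_le_right.trans
        ((center_le_centralizer _).trans (centralizer_le_normalizer _)))) inf_le_right)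
    have e1 := card_bar_mul S
    have e2 := card_bar_mul A
    rw [hcardS, hzS] at e1
    have e3 : Nat.card S * ((normalizer ((R₁ : Subgroup G) : Set G)).subgroupOf A).index = Nat.card A := by
      rw [← card_mul_index ((normalizer ((R₁ : Subgroup G) : Set G)).subgroupOf A)]
      congr 1
      rw [← inf_subgroupOf_left]
      exact (Nat.card_congr (subgroupOfEquivOfLe inf_le_left).toEquiv).symm
    rw [← e1, ← hs, ← e2] at e3
    have hmul : Nat.card {R : Sylow r G // Inc R L} * r = Nat.card (bar A) := by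
      refine Nat.eq_of_mul_eq_mul_right (Nat.card_pos (α := (A ⊓ Z : Subgroup G))) ?_
      rw [← e3]; ring
    refine ⟨hmul, ?_⟩
    rw [← hmul, Nat.mul_comm 2]
    rcases Nat.lt_or_ge (Nat.card {R : Sylow r G // Inc R L}) 2 with h2 | h2
    · exfalso
      obtain ⟨w, hwN, hwz, hwr, hwL⟩ := id hL
      have h1 : Nat.card {R : Sylow r G // Inc R L} = 1 := by
        haveI : Nonempty {R : Sylow r G // Inc R L} := ⟨⟨R₁, hI₁⟩⟩
        have := Nat.card_pos (α := {R : Sylow r G // Inc R L})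
        omega
      rw [h1, one_mul] at hmul
      refine hwz ?_
      have hwr' : w ^ r ∈ Z := by
        rw [← QuotientGroup.eq_one_iff, QuotientGroup.mk_pow]
        have hwm : ((w : G) : G ⧸ Z) ∈ bar A := mem_map_of_mem _ ⟨hwL ▸ self_mem_cent w, hwN⟩
        have := Subgroup.orderOf_dvd_natCard (bar A) hwm
        rw [← hmul] at this
        exact orderOf_dvd_iff_pow_eq_one.1 this
      obtain ⟨i, hi⟩ : ∃ i, (w ^ r) ^ i = w := exists_pow_eq_self_of_coprime (hr.out.coprime_iff_not_dvd.2 hwr)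
      rw [← hi]; exact pow_mem hwr' i
    · rw [Nat.mul_comm r]
      exact Nat.mul_le_mul_right r h2
  -- double counting
  have hP : (∑ L : 𝓛, Nat.card {R : Sylow r G // Inc R L.1}) = Nat.card (Sylow r G) * (r + 1) := by
    rw [← Nat.card_sigma,
      Nat.card_congr (show (Σ L : 𝓛, {R : Sylow r G // Inc R L.1}) ≃ (Σ R : Sylow r G, {L : 𝓛 // Inc R L.1}) from
        { toFun := fun t => ⟨t.2.1, ⟨t.1, t.2.2⟩⟩
          invFun := fun t => ⟨t.2.1, ⟨t.1, t.2.2⟩⟩
          left_inv := fun t => rfl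
          right_inv := fun t => rfl }), Nat.card_sigma, Finset.sum_congr rfl (g := fun _ => r + 1)
        (fun R _ => hperR R), Finset.sum_const, Finset.card_univ, smul_eq_mul, Nat.card_eq_fintype_card]
  obtain ⟨R, hR⟩ := hRe
  set NR := normalizer ((R : Subgroup G) : Set G) with hNR
  set SN := N ⊓ NR with hSN
  have hsyl : Nat.card (Sylow r G) * Nat.card (bar SN) = Nat.card (bar N) := by
    have hrel : NR.relIndex N = Nat.card (Sylow r G) := by
      rw [R.card_eq_index_normalizer]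
      have htop : NR ⊔ N = ⊤ := by
        rw [sup_comm]
        have := Sylow.normalizer_sup_eq_top (R.subtype (hD.sylow_le R))
        rw [Sylow.coe_subtype, subgroupOf_map_subtype, inf_eq_left.2 (hD.sylow_le R), sup_comm] at this
        exact this
      have h1 : N.relIndex NR = N.index := by
        rw [← relIndex_sup_right, htop, relIndex_top_right]
      have h2 := relIndex_mul_index (inf_le_left : N ⊓ NR ≤ N)
      have h3 := relIndex_mul_index (inf_le_right : N ⊓ NR ≤ NR)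
      rw [inf_relIndex_left, ← h3, inf_relIndex_right, h1] at h2
      exact Nat.eq_of_mul_eq_mul_right (Nat.pos_of_ne_zero index_ne_zero_of_finite) (h2.trans (mul_comm _ _))
    have e1 := card_bar_mul SN
    have e2 := card_bar_mul N
    have e3 := relIndex_mul_relIndex (⊥ : Subgroup G) SN N bot_le inf_le_left
    rw [relIndex_bot_left, relIndex_bot_left, inf_relIndex_left, hrel] at e3
    have hz : SN ⊓ Z = N ⊓ Z := le_antisymm (inf_le_inf_right _ inf_le_left)
      (le_inf (le_inf inf_le_left (inf_le_right.trans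
        ((center_le_centralizer _).trans (centralizer_le_normalizer _)))) inf_le_right)
    rw [hz] at e1
    rw [← e1, ← e2] at e3
    refine Nat.eq_of_mul_eq_mul_right (Nat.card_pos (α := (N ⊓ Z : Subgroup G))) ?_
    rw [← e3]; ring
  obtain ⟨h, hh⟩ : r ^ 2 ∣ Nat.card (bar SN) :=
    hRR R ▸ card_dvd_of_le (map_mono (le_inf (hD.sylow_le R) le_normalizer))
  have hh0 : 1 ≤ h := by
    have := Nat.card_pos (α := bar SN)
    rw [hh] at this
    exact Nat.pos_of_ne_zero fun e => by simp [e] at this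
  set n := Nat.card (bar N) with hn
  set c := Nat.card (Sylow r G) with hc
  have hc0 : 1 ≤ c := Nat.card_pos
  have hnr : n = c * (r ^ 2 * h) := by rw [← hsyl, hh]
  have hS1 : (∑ L : 𝓛, Nat.card (bar (L.1 ⊓ N))) = r * (c * (r + 1)) := by
    rw [← hP, Finset.mul_sum]
    exact Finset.sum_congr rfl fun L _ => by rw [← (hperL L).1, mul_comm]
  have hlow : n - 1 ≤ r * (c * (r + 1)) := by
    rw [hT, ← hS1]
    exact Finset.sum_le_sum fun L _ => Nat.sub_le _ _
  have hup : (2 * r - 1) * (r * (c * (r + 1))) ≤ 2 * r * (n - 1) := by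
    rw [← hS1, hT, Finset.mul_sum, Finset.mul_sum]
    refine Finset.sum_le_sum fun L _ => ?_
    have h2 := (hperL L).2
    rw [Nat.sub_mul, one_mul, Nat.mul_sub, mul_one]
    omega
  have hr2 := hr.out.two_le
  rcases Nat.lt_or_ge h 2 with h2 | h2
  · obtain rfl : h = 1 := by omega
    rw [mul_one] at hnr
    obtain ⟨s, rfl⟩ : ∃ s, r = s + 2 := ⟨r - 2, by omega⟩
    obtain ⟨n', hn'⟩ : ∃ n', n = n' + 1 := ⟨n - 1, by
      have : 0 < n := Nat.card_pos
      omega⟩
    rw [hn', Nat.add_sub_cancel, show 2 * (s + 2) - 1 = 2 * s + 3 by omega] at hup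
    nlinarith
  · have hn1 : n ≤ r * (c * (r + 1)) + 1 := by omega
    have h3 : c * (r ^ 2 * 2) ≤ n := hnr ▸ Nat.mul_le_mul_left _ (Nat.mul_le_mul_left _ h2)
    have h4 : 1 * (r * 2) ≤ c * (r * r) :=
      Nat.mul_le_mul hc0 (Nat.mul_le_mul_left _ hr2)
    nlinarith [Nat.mul_le_mul_right (c * r) hr2]

/-! ### The theorem -/

theorem nilpotent (hD : Data N r m) (R : Sylow r G) (hR : ¬ (R : Subgroup G) ≤ center G) :
    Group.IsNilpotent N := by
  haveI := hD.normal
  have hRe : ∃ R : Sylow r G, ¬ (R : Subgroup G) ≤ center G := ⟨R, hR⟩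
  by_cases hrm : r ∣ m
  · by_cases hGood : ∃ L, Good N r L
    · exfalso
      obtain ⟨L, hL⟩ := hGood
      by_cases hII : ∃ g, TypeII N r g
      · obtain ⟨g, hg⟩ := hII
        by_cases hup : ∃ (R : Sylow r G) (x : G), x ∈ (R : Subgroup G) ∧ x ∉ center G ∧
            (R : Subgroup G) ≤ cen2 x ∧ Good N r (cent x)
        · obtain ⟨R', x, hx, hxz, hxc, hxG⟩ := hup
          exact false_of_upper_good hD R' (fun h => hxz (h hx)) hx hxz hxc hxG hg
        · push Not at hup
          exact false_of_no_upper_good hD hRe (fun R' x hx hxz hxc => hup R' x hx hxz hxc) hL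
      · push Not at hII
        exact false_of_all_good hD hRe hrm fun x hxr hxz => (good_or_typeII hD hxz hxr).resolve_right (hII x)
    · refine Group.of_quotient_center_nilpotent ?_
      refine IsPGroup.isNilpotent (p := r) fun q => ?_
      obtain ⟨⟨g, hg⟩, rfl⟩ := QuotientGroup.mk_surjective q
      obtain ⟨u, w, hguw, huw, ⟨i, hi⟩, ⟨j, hj⟩, ⟨k, hk⟩, hw⟩ := exists_parts (r := r) g
      have hwN : w ∈ N := hj ▸ N.pow_mem hg j
      have hwz : w ∈ center G := by_contra fun h => hGood ⟨_, w, hwN, h, hw, rfl⟩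
      refine ⟨k, ?_⟩
      rw [← QuotientGroup.mk_pow, QuotientGroup.eq_one_iff, mem_center_iff]
      intro t
      refine Subtype.ext ?_
      show (t : G) * g ^ r ^ k = g ^ r ^ k * (t : G)
      rw [hguw, huw.mul_pow, show u ^ r ^ k = 1 by rw [← hk, pow_orderOf_eq_one], one_mul]
      exact mem_center_iff.1 (pow_mem hwz _) _
  · -- `r` does not divide `m`: a Sylow subgroup is central in `N`, and `N` is abelian
    have hsyl : ∀ g ∈ N, ∃ R' : Sylow r G, (R' : Subgroup G) ≤ cent g := by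
      intro g hg
      obtain ⟨R', hR'⟩ := exists_full (r := r) (cent g)
      refine ⟨R', ?_⟩
      have hidx : ¬ r ∣ (cent g).index := by
        by_cases hgz : g ∈ center G
        · rw [mem_center_iff_cent.1 hgz, index_top]; exact hr.out.not_dvd_one
        · rw [hD.sizes g hg hgz]; exact hrm
      have e : (R' : Subgroup G) ⊓ cent g = (R' : Subgroup G) := by
        refine Subgroup.eq_of_le_of_card_ge inf_le_left (le_of_eq ?_)
        rw [hR', R'.card_eq_multiplicity, ← (cent g).card_mul_index,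
          Nat.factorization_mul Nat.card_pos.ne' index_ne_zero_of_finite, Finsupp.add_apply,
          Nat.factorization_eq_zero_of_not_dvd hidx, add_zero]
      exact e ▸ inf_le_right
    have hRN := hD.sylow_le R
    have hcov := eq_top_of_conj_cover (G := N) (M := (centralizer ((R : Subgroup G) : Set G)).subgroupOf N)
      fun g => by
        obtain ⟨R', hR'⟩ := hsyl g g.2
        obtain ⟨n, hn⟩ := MulAction.exists_smul_eq N (R.subtype hRN) (R'.subtype (hD.sylow_le R'))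
        refine ⟨n, mem_centralizer_iff.2 fun y hy => ?_⟩
        have h1 : (MulAut.conj n) (⟨y, hRN hy⟩ : N) ∈ ((R'.subtype (hD.sylow_le R')) : Subgroup N) := by
          rw [← hn]; exact ⟨_, hy, rfl⟩
        have h2 : (n : G) * y * (n : G)⁻¹ * g = g * ((n : G) * y * (n : G)⁻¹) := mem_cent.1 (hR' h1)
        show y * ((n : G)⁻¹ * g * n) = (n : G)⁻¹ * g * n * y
        calc y * ((n : G)⁻¹ * g * n) = (n : G)⁻¹ * ((n : G) * y * (n : G)⁻¹ * g) * n := by group
          _ = (n : G)⁻¹ * (g * ((n : G) * y * (n : G)⁻¹)) * n := by rw [h2]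
          _ = (n : G)⁻¹ * g * n * y := by group
    have hcR : ∀ g ∈ N, ∀ y ∈ (R : Subgroup G), y * g = g * y := fun g hg y hy =>
      mem_centralizer_iff.1 (hcov.ge (mem_top (⟨g, hg⟩ : N)) : g ∈ centralizer ((R : Subgroup G) : Set G)) y hy
    have hrR : ∀ u : G, (∃ k, orderOf u = r ^ k) → u ∈ (R : Subgroup G) := fun u hu =>
      mem_sylow_of_normalizes R hu
        ((centralizer_le_normalizer _) (mem_centralizer_iff.2 fun y hy => hcR u (hD.r_mem hu) y hy))
    obtain ⟨x, hx, hxz⟩ := SetLike.not_le_iff_exists.1 hR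
    have hxr := exists_orderOf_pow R.isPGroup' hx
    have hab : ∀ g ∈ N, ∀ h ∈ N, g * h = h * g := by
      intro g hg h hh
      obtain ⟨u, v, rfl, -, ⟨i, hi⟩, ⟨j, hj⟩, hu, hv⟩ := exists_parts (r := r) g
      obtain ⟨u', v', rfl, -, ⟨i', hi'⟩, ⟨j', hj'⟩, hu', hv'⟩ := exists_parts (r := r) h
      have hvN : v ∈ N := hj ▸ N.pow_mem hg j
      have hv'N : v' ∈ N := hj' ▸ N.pow_mem hh j'
      have huN := hD.r_mem hu
      have hu'N := hD.r_mem hu'
      have hvv : Commute v v' := by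
        by_cases hvz : v ∈ center G
        · exact (mem_center_iff.1 hvz v').symm
        by_cases hv'z : v' ∈ center G
        · exact mem_center_iff.1 hv'z v
        have e := (hD.cent_eq (hD.r_mem hxr) hxz hxr hvN hvz hv (hcR v hvN x hx)).symm.trans
          (hD.cent_eq (hD.r_mem hxr) hxz hxr hv'N hv'z hv' (hcR v' hv'N x hx))
        exact mem_cent.1 (e ▸ self_mem_cent v : v ∈ cent v')
      have h1 : Commute u u' := hcR u' hu'N u (hrR u hu)
      have h2 : Commute u v' := hcR v' hv'N u (hrR u hu)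
      have h3 : Commute v u' := (hcR v hvN u' (hrR u' hu')).symm
      exact ((h1.mul_right h2).mul_left (h3.mul_right hvv)).eq
    haveI : IsMulCommutative N := ⟨⟨fun a b => Subtype.ext (hab a a.2 b b.2)⟩⟩
    exact Group.of_quotient_center_nilpotent (IsPGroup.isNilpotent (p := r) fun q => ⟨0, by
      obtain ⟨g, rfl⟩ := QuotientGroup.mk_surjective q
      rw [pow_zero, pow_one, QuotientGroup.eq_one_iff, mem_center_iff]
      exact fun t => Subtype.ext (hab _ t.2 _ g.2)⟩)

end Cfsg.Agent.SylowTwoSizes
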