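import Cfsg.Agent.EqLemmas
import Cfsg.Agent.Lib.ClassIndex.Basic
import Cfsg.Agent.Lib.FPF.Kernel
import Cfsg.Agent.Lib.Frobenius.Complement

/-!
# Camina pairs (owner: helper75)

`IsCam N`: for `g ∉ N` every element of `g N` is conjugate to `g`.
* `orderOf_dvd_of_commute`, `card_centralizer_eq`
* `card_fixedPoints_eq_one`, `mem_of_conj_mem`: if `M N = G`, an element outside `N` fixes exactly one
  point of `G ⧸ M`; `IsCam.subgroupOf`
* `exists_commute_of_pElement`
* `isPrimePow_of_common_prime`: if a prime divides both `|N|` and `|G : N|`, one of them is a prime power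
-/

namespace Cfsg.Agent.Camina

open scoped Pointwise

universe u

variable {G : Type u} [Group G] {N : Subgroup G}

/-- Every element outside `N` is conjugate to all elements of its coset. -/
def IsCam (N : Subgroup G) : Prop := ∀ g : G, g ∉ N → ∀ n ∈ N, ∃ x : G, x * g * x⁻¹ = g * n

theorem IsCam.orderOf_mul (hc : IsCam N) {g n : G} (hg : g ∉ N) (hn : n ∈ N) :
    orderOf (g * n) = orderOf g := by
  obtain ⟨x, hx⟩ := hc g hg n hn
  rw [← hx]
  simpa using MulEquiv.orderOf_eq (MulAut.conj x) g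

theorem IsCam.orderOf_dvd_of_commute (hc : IsCam N) {g z : G} (hg : g ∉ N) (hz : z ∈ N)
    (hcom : Commute g z) : orderOf z ∣ orderOf g := by
  rw [orderOf_dvd_iff_pow_eq_one]
  have h := pow_orderOf_eq_one (g * z)
  rw [hc.orderOf_mul hg hz, hcom.mul_pow, pow_orderOf_eq_one, one_mul] at h
  exact h

variable [Finite G] [N.Normal]

theorem IsCam.card_centralizer_eq (hc : IsCam N) {g : G} (hg : g ∉ N) :
    Nat.card (Subgroup.centralizer ({g} : Set G)) =
      Nat.card (Subgroup.centralizer ({(g : G ⧸ N)} : Set (G ⧸ N))) := by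
  have hcls : Nat.card {y : G // ∃ x, x * g * x⁻¹ = y} =
      Nat.card N * Nat.card {y : G ⧸ N // ∃ x, x * (g : G ⧸ N) * x⁻¹ = y} := by
    rw [show Nat.card {y : G ⧸ N // ∃ x, x * (g : G ⧸ N) * x⁻¹ = y} =
      Nat.card ({y : G ⧸ N | ∃ x, x * (g : G ⧸ N) * x⁻¹ = y} : Set (G ⧸ N)) from rfl,
      ← QuotientGroup.card_preimage_mk]
    refine Nat.card_congr (Equiv.subtypeEquivRight fun y => ?_)
    constructor
    · rintro ⟨x, rfl⟩
      exact ⟨(x : G ⧸ N), rfl⟩
    · rintro ⟨x, hx⟩
      obtain ⟨x, rfl⟩ := QuotientGroup.mk_surjective x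
      have hx' : ((x * g * x⁻¹ : G) : G ⧸ N) = (y : G ⧸ N) := hx
      have hn := QuotientGroup.eq.1 hx'
      obtain ⟨w, hw⟩ := hc (x * g * x⁻¹) (fun h => hg (by
        simpa [mul_assoc] using (inferInstance : N.Normal).conj_mem _ h x⁻¹)) _ hn
      refine ⟨w * x, ?_⟩
      rw [mul_inv_cancel_left] at hw
      rw [← hw]
      group
  have h1 := ClassIndex.natCard_conjSet_mul g
  have h2 := ClassIndex.natCard_conjSet_mul (g : G ⧸ N)
  rw [hcls, ← N.card_mul_index, Subgroup.index_eq_card, ← h2, mul_assoc] at h1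
  have h3 := Nat.eq_of_mul_eq_mul_left Nat.card_pos h1
  haveI : Nonempty {y : G ⧸ N // ∃ x, x * (g : G ⧸ N) * x⁻¹ = y} := ⟨⟨(g : G ⧸ N), 1, by simp⟩⟩
  exact Nat.eq_of_mul_eq_mul_left Nat.card_pos h3

/-- If `M N = G`, each element outside `N` fixes exactly one point of `G ⧸ M`. -/
theorem IsCam.card_fixedPoints_eq_one (hc : IsCam N) {M : Subgroup G} (hM : M ⊔ N = ⊤) {g : G}
    (hg : g ∉ N) : Nat.card {q : G ⧸ M // g • q = q} = 1 := by
  classical
  have := Fintype.ofFinite G
  haveI := Fintype.ofFinite (G ⧸ M)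
  haveI := Fintype.ofFinite N
  have htr : MulAction.IsPretransitive N (G ⧸ M) := by
    refine (MulAction.isPretransitive_iff_base ((1 : G) : G ⧸ M)).2 fun q => ?_
    obtain ⟨x, rfl⟩ := QuotientGroup.mk_surjective q
    have hx : x ∈ (N : Set G) * (M : Set G) := by
      rw [← Subgroup.normal_mul, sup_comm, hM]; trivial
    obtain ⟨n, hn, m, hm, rfl⟩ := hx
    refine ⟨⟨n, hn⟩, ?_⟩
    show ((n * 1 : G) : G ⧸ M) = _
    rw [QuotientGroup.eq]
    simpa using hm
  -- every target is hit equally often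
  have hfib : ∀ q t : G ⧸ M, Nat.card {n : N // n • q = t} * Nat.card (G ⧸ M) = Nat.card N := by
    intro q t
    obtain ⟨n₀, hn₀⟩ := MulAction.exists_smul_eq N q t
    have e : {n : N // n • q = t} ≃ MulAction.stabilizer N q :=
      { toFun := fun n => ⟨n₀⁻¹ * n.1, by
          rw [MulAction.mem_stabilizer_iff, mul_smul, n.2, ← hn₀, inv_smul_smul]⟩
        invFun := fun s => ⟨n₀ * s.1, by rw [mul_smul, MulAction.mem_stabilizer_iff.1 s.2, hn₀]⟩
        left_inv := fun n => by simp
        right_inv := fun s => by simp }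
    rw [Nat.card_congr e, ← MulAction.index_stabilizer_of_transitive N q, Subgroup.card_mul_index]
  -- fixed point numbers are constant on the coset
  have hconst : ∀ n : N, Nat.card {q : G ⧸ M // (g * n) • q = q} = Nat.card {q : G ⧸ M // g • q = q} := by
    intro n
    obtain ⟨x, hx⟩ := hc g hg n n.2
    refine (Nat.card_congr ((MulAction.toPerm x : Equiv.Perm (G ⧸ M)).subtypeEquiv fun q => ?_)).symm
    show g • q = q ↔ (g * (n : G)) • (x • q) = x • q
    rw [← hx, mul_smul, mul_smul, inv_smul_smul, smul_left_cancel_iff]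
  have e : (Σ n : N, {q : G ⧸ M // (g * n) • q = q}) ≃ Σ q : G ⧸ M, {n : N // n • q = g⁻¹ • q} :=
    { toFun := fun z => ⟨z.2.1, z.1, by
        show (z.1 : G) • z.2.1 = g⁻¹ • z.2.1
        rw [eq_inv_smul_iff, ← mul_smul]; exact z.2.2⟩
      invFun := fun z => ⟨z.2.1, z.1, by
        have h : (z.2.1 : G) • z.1 = g⁻¹ • z.1 := z.2.2
        rw [mul_smul, h, smul_inv_smul]⟩
      left_inv := fun z => rfl
      right_inv := fun z => rfl }
  have h := Nat.card_congr e
  rw [Nat.card_sigma, Nat.card_sigma] at h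
  simp only [hconst, Finset.sum_const, Finset.card_univ, smul_eq_mul, Fintype.card_eq_nat_card] at h
  have h2 : (∑ q : G ⧸ M, Nat.card {n : N // n • q = g⁻¹ • q}) * Nat.card (G ⧸ M) =
      Nat.card (G ⧸ M) * Nat.card N := by
    rw [Finset.sum_mul]
    simp only [hfib, Finset.sum_const, Finset.card_univ, smul_eq_mul, Fintype.card_eq_nat_card]
  rw [← h] at h2
  have hpos : 0 < Nat.card N * Nat.card (G ⧸ M) := mul_pos Nat.card_pos Nat.card_pos
  refine Nat.eq_of_mul_eq_mul_left hpos ?_
  linarith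

theorem IsCam.exists_conj_mem (hc : IsCam N) {M : Subgroup G} (hM : M ⊔ N = ⊤) {g : G}
    (hg : g ∉ N) : ∃ x : G, x⁻¹ * g * x ∈ M := by
  obtain ⟨⟨q, hq⟩⟩ := (Nat.card_eq_one_iff_unique.1 (hc.card_fixedPoints_eq_one hM hg)).2
  obtain ⟨x, rfl⟩ := QuotientGroup.mk_surjective q
  refine ⟨x, ?_⟩
  have h : ((g * x : G) : G ⧸ M) = (x : G ⧸ M) := hq
  have := M.inv_mem (QuotientGroup.eq.1 h)
  simpa [mul_assoc] using this

theorem IsCam.mem_of_conj_mem (hc : IsCam N) {M : Subgroup G} (hM : M ⊔ N = ⊤) {g x : G}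
    (hgM : g ∈ M) (hg : g ∉ N) (hx : x⁻¹ * g * x ∈ M) : x ∈ M := by
  haveI := (Nat.card_eq_one_iff_unique.1 (hc.card_fixedPoints_eq_one hM hg)).1
  have h1 : g • ((1 : G) : G ⧸ M) = ((1 : G) : G ⧸ M) := by
    show ((g * 1 : G) : G ⧸ M) = _
    rw [QuotientGroup.eq]; simpa using hgM
  have h2 : g • (x : G ⧸ M) = (x : G ⧸ M) := by
    show ((g * x : G) : G ⧸ M) = _
    rw [QuotientGroup.eq]
    have := M.inv_mem hx
    simpa [mul_assoc] using this
  have h3 : ((1 : G) : G ⧸ M) = (x : G ⧸ M) := congrArg Subtype.val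
    (Subsingleton.elim (⟨_, h1⟩ : {q : G ⧸ M // g • q = q}) ⟨_, h2⟩)
  simpa using QuotientGroup.eq.1 h3

theorem IsCam.subgroupOf (hc : IsCam N) {M : Subgroup G} (hM : M ⊔ N = ⊤) :
    IsCam (N.subgroupOf M) := by
  intro g hg n hn
  obtain ⟨x, hx⟩ := hc g hg n hn
  have hxM : x ∈ M := by
    have h := hc.mem_of_conj_mem hM (g := (g : G) * n) (x := x) (M.mul_mem g.2 n.2)
      (fun h => hg (show (g : G) ∈ N by
        have := N.mul_mem h (N.inv_mem hn)
        simpa [mul_assoc] using this)) (by rw [← hx]; simp [mul_assoc])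
    exact h
  exact ⟨⟨x, hxM⟩, Subtype.ext hx⟩

/-- A `p`-element outside `N` centralizes an element of order `p` of `N` if `p` divides `|N|`. -/
theorem exists_commute_of_pElement {p : ℕ} [hp : Fact p.Prime] (hpN : p ∣ Nat.card N) {g : G} {k : ℕ}
    (hk : orderOf g = p ^ k) : ∃ z ∈ N, z ≠ 1 ∧ Commute g z := by
  letI := MulAction.compHom N ((MulAut.conjNormal (H := N)).comp (Subgroup.zpowers g).subtype)
  have hA : IsPGroup p (Subgroup.zpowers g) :=
    IsPGroup.of_card (n := k) (by rw [Nat.card_zpowers, hk])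
  have h := hA.card_modEq_card_fixedPoints N
  have h1 : (1 : N) ∈ MulAction.fixedPoints (Subgroup.zpowers g) N := fun a =>
    map_one (MulAut.conjNormal (H := N) (a : G))
  haveI : Nonempty (MulAction.fixedPoints (Subgroup.zpowers g) N) := ⟨⟨1, h1⟩⟩
  have hdvd : p ∣ Nat.card (MulAction.fixedPoints (Subgroup.zpowers g) N) :=
    (Nat.ModEq.dvd_iff h dvd_rfl).1 hpN
  haveI : Nontrivial (MulAction.fixedPoints (Subgroup.zpowers g) N) :=
    Finite.one_lt_card_iff_nontrivial.1 (hp.out.one_lt.trans_le (Nat.le_of_dvd Nat.card_pos hdvd))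
  obtain ⟨⟨z, hz⟩, hz1⟩ := exists_ne (⟨1, h1⟩ : MulAction.fixedPoints (Subgroup.zpowers g) N)
  refine ⟨z, z.2, fun h => hz1 (Subtype.ext (Subtype.ext h)), ?_⟩
  have e : g * (z : G) * g⁻¹ = z := congrArg Subtype.val (hz ⟨g, Subgroup.mem_zpowers g⟩)
  exact mul_inv_eq_iff_eq_mul.1 e

/-- A prime-power element of the quotient lifts to one of `G`, up to a prime-to-`p` power. -/
theorem exists_pElement_lift {p : ℕ} (hp : p.Prime) {a : G ⧸ N} {j : ℕ} (ha : orderOf a = p ^ j) :
    ∃ (g : G) (m k : ℕ), (m.Coprime p) ∧ (g : G ⧸ N) = a ^ m ∧ orderOf g = p ^ k := by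
  obtain ⟨g, rfl⟩ := QuotientGroup.mk_surjective a
  obtain ⟨k, m, hm, hgm⟩ := Nat.exists_eq_pow_mul_and_not_dvd (orderOf_pos g).ne' p hp.ne_one
  refine ⟨g ^ m, m, k, (hp.coprime_iff_not_dvd.2 hm).symm, rfl, ?_⟩
  have hm0 : m ≠ 0 := fun h => hm (h ▸ dvd_zero p)
  rw [orderOf_pow_of_dvd hm0 (hgm ▸ dvd_mul_left _ _), hgm, Nat.mul_div_cancel _ (Nat.pos_of_ne_zero hm0)]

theorem pow_ne_one_of_coprime {H : Type*} [Group H] {a : H} {p j m : ℕ} (ha : orderOf a = p ^ j)
    (ha1 : a ≠ 1) (hm : m.Coprime p) : a ^ m ≠ 1 := by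
  intro h
  have h1 := orderOf_dvd_of_pow_eq_one h
  rw [ha] at h1
  have h2 := Nat.eq_one_of_dvd_coprimes (hm.pow_right j) h1 dvd_rfl
  exact ha1 (orderOf_eq_one_iff.1 (ha.trans h2))

theorem exists_other_prime {n p : ℕ} (hn : n ≠ 0) (hp : p.Prime) (hpn : p ∣ n)
    (h : ¬ IsPrimePow n) : ∃ q : ℕ, q.Prime ∧ q ≠ p ∧ q ∣ n := by
  by_contra hc
  push Not at hc
  exact h (isPrimePow_iff_unique_prime_dvd.2 ⟨p, ⟨hp, hpn⟩, fun q hq => by
    by_contra hne
    exact hc q hq.1 hne hq.2⟩)

/-- If a prime divides `|N|` and `|G : N|` then abelian `p`-subgroups of `G ⧸ N` cannot all be cyclic. -/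
theorem IsCam.exists_noncyclic (hc : IsCam N) {p : ℕ} [hp : Fact p.Prime] (hpN : p ∣ Nat.card N)
    (hpI : p ∣ N.index)
    (hcyc : ∀ B : Subgroup (G ⧸ N), IsPGroup p B → IsMulCommutative B → IsCyclic B) : False := by
  classical
  haveI := Fintype.ofFinite (G ⧸ N)
  obtain ⟨a₀, ha₀⟩ := exists_prime_orderOf_dvd_card' (G := G ⧸ N) p (by
    rwa [Subgroup.index_eq_card] at hpI)
  obtain ⟨a₁, ha₁, hmax⟩ := Finset.exists_max_image
    (Finset.univ.filter fun a : G ⧸ N => ∃ j, orderOf a = p ^ j) (fun a => orderOf a)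
    ⟨a₀, Finset.mem_filter.2 ⟨Finset.mem_univ _, 1, by rw [pow_one, ha₀]⟩⟩
  obtain ⟨j, hj⟩ := (Finset.mem_filter.1 ha₁).2
  have hge : p ≤ orderOf a₁ := ha₀ ▸ hmax a₀ (Finset.mem_filter.2 ⟨Finset.mem_univ _, 1, by rw [pow_one, ha₀]⟩)
  obtain ⟨g, m, k, hm, hga, hgk⟩ := exists_pElement_lift hp.out hj
  set a : G ⧸ N := a₁ ^ m with ha
  have hao : orderOf a = p ^ j := by
    rw [ha, (hj ▸ hm.pow_right j : m.Coprime (orderOf a₁)).symm.orderOf_pow, hj]
  have hj1 : 1 ≤ j := by
    rcases Nat.eq_zero_or_pos j with rfl | h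
    · rw [hj, pow_zero] at hge; exact absurd hge (not_le.2 hp.out.one_lt)
    · exact h
  have ha1 : a ≠ 1 := fun h => by
    rw [h, orderOf_one] at hao
    exact (Nat.one_lt_pow (by omega) hp.out.one_lt).ne hao
  have hgN : g ∉ N := fun h => ha1 (hga ▸ (QuotientGroup.eq_one_iff g).2 h)
  -- `⟨a⟩` is a Sylow subgroup of its centralizer
  have hnot : ¬ p ^ (j + 1) ∣ Nat.card (Subgroup.centralizer ({a} : Set (G ⧸ N))) := by
    intro hd
    set C := Subgroup.centralizer ({a} : Set (G ⧸ N)) with hC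
    have haC : a ∈ C := Subgroup.mem_centralizer_singleton_iff.2 rfl
    have hZ : IsPGroup p (Subgroup.zpowers (⟨a, haC⟩ : C)) :=
      IsPGroup.of_card (n := j) (by rw [Nat.card_zpowers, ← Subgroup.orderOf_coe, hao])
    obtain ⟨S, hS⟩ := hZ.exists_le_sylow
    have hScard : p ^ (j + 1) ≤ Nat.card (S : Subgroup C) := by
      rw [S.card_eq_multiplicity]
      exact Nat.pow_le_pow_right hp.out.pos
        ((hp.out.pow_dvd_iff_le_factorization Nat.card_pos.ne').1 hd)
    obtain ⟨s, hs, hsa⟩ : ∃ s ∈ (S : Subgroup C), (s : G ⧸ N) ∉ Subgroup.zpowers a := by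
      by_contra hall
      push Not at hall
      have h1 : Nat.card ((S : Subgroup C).map C.subtype) ≤ p ^ j := by
        rw [← hao, ← Nat.card_zpowers]
        refine Subgroup.card_le_of_le ?_
        rintro _ ⟨s, hs, rfl⟩
        exact hall s hs
      rw [Subgroup.card_map_of_injective C.subtype_injective] at h1
      have := Nat.pow_lt_pow_right hp.out.one_lt (show j < j + 1 by omega)
      omega
    set B := Subgroup.closure ({a, (s : G ⧸ N)} : Set (G ⧸ N)) with hB
    have hBS : B ≤ (S : Subgroup C).map C.subtype := by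
      rw [hB, Subgroup.closure_le]
      rintro _ (rfl | rfl)
      · exact ⟨⟨a, haC⟩, hS (Subgroup.mem_zpowers _), rfl⟩
      · exact ⟨s, hs, rfl⟩
    have hBp : IsPGroup p B := (S.2.map C.subtype).to_le hBS
    have hsc : (s : G ⧸ N) * a = a * (s : G ⧸ N) := Subgroup.mem_centralizer_singleton_iff.1 s.2
    haveI hBc : IsMulCommutative B := Subgroup.isMulCommutative_closure (by
      rintro x (rfl | rfl) y (rfl | rfl) <;> first | rfl | exact hsc | exact hsc.symm)
    obtain ⟨t, ht⟩ := (hcyc B hBp hBc).exists_ofOrder_eq_natCard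
    have haB : a ∈ B := Subgroup.subset_closure (by simp)
    have hsB : (s : G ⧸ N) ∈ B := Subgroup.subset_closure (by simp)
    obtain ⟨i, hi⟩ := IsPGroup.iff_card.1 hBp
    have hle : Nat.card B ≤ p ^ j := by
      rw [← ht, ← hj, ← Subgroup.orderOf_coe]
      exact hmax _ (Finset.mem_filter.2 ⟨Finset.mem_univ _, i, by rw [Subgroup.orderOf_coe, ht, hi]⟩)
    have heq : Subgroup.zpowers a = B := Subgroup.eq_of_le_of_card_ge (Subgroup.zpowers_le.2 haB)
      (by rw [Nat.card_zpowers, hao]; exact hle)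
    exact hsa (heq ▸ hsB)
  -- a commutative `p`-subgroup of the centralizer of `g` which is too large
  obtain ⟨z, hzN, hz1, hgz⟩ := exists_commute_of_pElement hpN hgk
  obtain ⟨kz, -, hkz⟩ := (Nat.dvd_prime_pow hp.out).1 (hgk ▸ hc.orderOf_dvd_of_commute hgN hzN hgz)
  set A := Subgroup.zpowers g ⊔ Subgroup.zpowers z with hA
  have hnorm : Subgroup.zpowers g ≤ Subgroup.normalizer (Subgroup.zpowers z : Set G) := by
    rw [Subgroup.zpowers_le]
    refine Subgroup.mem_normalizer_fintype fun w hw => ?_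
    obtain ⟨i, rfl⟩ := Subgroup.mem_zpowers_iff.1 hw
    rw [(hgz.zpow_right i).eq, mul_inv_cancel_right]
    exact hw
  have hAp : IsPGroup p A :=
    IsPGroup.to_sup_of_normal_right' (IsPGroup.of_card (n := k) (by rw [Nat.card_zpowers, hgk]))
      (IsPGroup.of_card (n := kz) (by rw [Nat.card_zpowers, hkz])) hnorm
  have hAC : A ≤ Subgroup.centralizer ({g} : Set G) := sup_le
    (Subgroup.zpowers_le.2 (Subgroup.mem_centralizer_singleton_iff.2 rfl))
    (Subgroup.zpowers_le.2 (Subgroup.mem_centralizer_singleton_iff.2 hgz.eq.symm))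
  let π : A →* G ⧸ N := (QuotientGroup.mk' N).comp A.subtype
  have hr : p ^ j ∣ Nat.card π.range := by
    rw [← hao]
    refine Subgroup.orderOf_dvd_natCard π.range ⟨⟨g, le_sup_left (b := Subgroup.zpowers z) (Subgroup.mem_zpowers g)⟩, hga⟩
  have hker : p ∣ Nat.card π.ker := by
    have hzA : z ∈ A := le_sup_right (a := Subgroup.zpowers g) (Subgroup.mem_zpowers z)
    obtain ⟨i, hi⟩ := IsPGroup.iff_card.1 (hAp.to_subgroup π.ker)
    rcases Nat.eq_zero_or_pos i with rfl | hi1
    · exfalso
      rw [pow_zero, Subgroup.card_eq_one] at hi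
      have : (⟨z, hzA⟩ : A) ∈ π.ker := (QuotientGroup.eq_one_iff z).2 hzN
      rw [hi, Subgroup.mem_bot] at this
      exact hz1 (congrArg Subtype.val this)
    · rw [hi]; exact dvd_pow_self p hi1.ne'
  refine hnot ?_
  rw [← hga, ← hc.card_centralizer_eq hgN]
  refine dvd_trans ?_ (Subgroup.card_dvd_of_le hAC)
  rw [← π.ker.card_mul_index, Subgroup.index_ker, pow_succ']
  exact mul_dvd_mul hker hr

open scoped IsMulCommutative in
/-- If a prime divides `|N|` and `|G : N|`, then one of them is a prime power. -/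
theorem isPrimePow_of_common_prime : ∀ (n : ℕ) (G : Type u) [Group G] [Finite G], Nat.card G ≤ n →
    ∀ (N : Subgroup G) [N.Normal], IsCam N → ∀ p : ℕ, p.Prime → p ∣ Nat.card N → p ∣ N.index →
      IsPrimePow (Nat.card N) ∨ IsPrimePow N.index := by
  intro n
  induction n with
  | zero =>
    intro G _ _ hc
    have := Nat.card_pos (α := G)
    omega
  | succ n ih =>
    intro G _ _ hn N _ hc p hp hpN hpI
    classical
    by_contra hcon
    push Not at hcon
    obtain ⟨hNp, hIp⟩ := hcon
    -- Sylow subgroups of `N` are normal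
    have step : ∀ r : ℕ, r.Prime → r ∣ Nat.card N → r ∣ N.index → ∀ q : ℕ, q.Prime → q ≠ r →
        q ∣ Nat.card N → ∀ Q : Sylow q N, (((Q : Subgroup N).map N.subtype : Subgroup G)).Normal := by
      intro r hr hrN hrI q hq hqr hqN Q
      haveI := Fact.mk hr
      haveI := Fact.mk hq
      set Q' := (Q : Subgroup N).map N.subtype with hQ'
      rw [← Subgroup.normalizer_eq_top_iff]
      by_contra htop
      set M := Subgroup.normalizer (Q' : Set G) with hM
      have hsup : M ⊔ N = ⊤ := Sylow.normalizer_sup_eq_top Q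
      have hcam := hc.subgroupOf hsup
      have hidx : (N.subgroupOf M).index = N.index := by
        show N.relIndex M = _
        rw [← Subgroup.relIndex_sup_right, hsup, Subgroup.relIndex_top_right]
      have hlt : Nat.card M ≤ n := by
        have h1 := M.card_le_card_group
        have h2 : Nat.card M ≠ Nat.card G := fun e => htop (Subgroup.eq_top_of_card_eq _ e)
        omega
      have hqM : q ∣ Nat.card (N.subgroupOf M) := by
        have hQle : Q'.subgroupOf M ≤ N.subgroupOf M := fun x hx =>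
          show (x : G) ∈ N from (Subgroup.map_subtype_le (Q : Subgroup N)) hx
        refine dvd_trans ?_ (Subgroup.card_dvd_of_le hQle)
        rw [Nat.card_congr (Subgroup.subgroupOfEquivOfLe (Subgroup.le_normalizer (H := Q'))).toEquiv,
          Subgroup.card_map_of_injective N.subtype_injective, Q.card_eq_multiplicity]
        exact dvd_pow_self q (hq.factorization_pos_of_dvd Nat.card_pos.ne' hqN).ne'
      have hrM : r ∣ Nat.card (N.subgroupOf M) := by
        obtain ⟨a, ha⟩ := exists_prime_orderOf_dvd_card' (G := G ⧸ N) r (by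
          rwa [Subgroup.index_eq_card] at hrI)
        obtain ⟨g, m, k, hm, hga, hgk⟩ := exists_pElement_lift hr (j := 1) (by rw [pow_one, ha])
        have hgN : g ∉ N := fun h => pow_ne_one_of_coprime (j := 1) (by rw [pow_one, ha])
          (fun e => hr.ne_one (by rw [← ha, e, orderOf_one])) hm
          (hga ▸ (QuotientGroup.eq_one_iff g).2 h)
        obtain ⟨x, hx⟩ := hc.exists_conj_mem hsup hgN
        have hxN : x⁻¹ * g * x ∉ N := fun h => hgN (by
          simpa [mul_assoc] using (inferInstance : N.Normal).conj_mem _ h x)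
        have hxk : orderOf (x⁻¹ * g * x) = r ^ k := by
          rw [← hgk]
          simpa using MulEquiv.orderOf_eq (MulAut.conj x⁻¹) g
        obtain ⟨z, hzN, hz1, hgz⟩ := exists_commute_of_pElement hrN hxk
        have hzM : z ∈ M := hc.mem_of_conj_mem hsup hx hxN (by
          rw [mul_assoc, hgz.eq, inv_mul_cancel_left]; exact hx)
        obtain ⟨i, -, hi⟩ := (Nat.dvd_prime_pow hr).1 (hxk ▸ hc.orderOf_dvd_of_commute hxN hzN hgz)
        have hd := Subgroup.orderOf_dvd_natCard (N.subgroupOf M) (show (⟨z, hzM⟩ : M) ∈ _ from hzN)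
        rw [← Subgroup.orderOf_coe, hi] at hd
        rcases Nat.eq_zero_or_pos i with rfl | hi1
        · rw [pow_zero, orderOf_eq_one_iff] at hi; exact absurd hi hz1
        · exact (dvd_pow_self r hi1.ne').trans hd
      rcases ih M hlt (N.subgroupOf M) hcam r hr hrM (hidx ▸ hrI) with h | h
      · obtain ⟨s, ⟨-, -⟩, huniq⟩ := isPrimePow_iff_unique_prime_dvd.1 h
        exact hqr ((huniq q ⟨hq, hqM⟩).trans (huniq r ⟨hr, hrM⟩).symm)
      · exact hIp (hidx ▸ h)
    haveI := Fact.mk hp
    obtain ⟨q, hq, hqp, hqN⟩ := exists_other_prime Nat.card_pos.ne' hp hpN hNp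
    haveI := Fact.mk hq
    -- `N` is nilpotent
    haveI hnil : Group.IsNilpotent N := by
      by_cases hcase : ∃ r, r.Prime ∧ r ≠ p ∧ r ∣ Nat.card N ∧ r ∣ N.index
      · obtain ⟨r, hr, hrp, hrN, hrI⟩ := hcase
        refine ((Group.isNilpotent_of_finite_tfae (G := N)).out 0 3).mpr ?_
        intro s hs P
        by_cases hsN : s ∣ Nat.card N
        · have hnor : ((P : Subgroup N).map N.subtype).Normal := by
            by_cases hsp : s = p
            · exact step r hr hrN hrI s hs.out (hsp ▸ hrp.symm) hsN P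
            · exact step p hp hpN hpI s hs.out hsp hsN P
          have := hnor.comap N.subtype
          rwa [Subgroup.comap_map_eq_self_of_injective N.subtype_injective] at this
        · have : Nat.card (P : Subgroup N) = 1 := by
            rw [P.card_eq_multiplicity, Nat.factorization_eq_zero_of_not_dvd hsN, pow_zero]
          rw [Subgroup.card_eq_one] at this
          rw [this]; infer_instance
      · push Not at hcase
        obtain ⟨r, hr, hrp, hrI⟩ := exists_other_prime Subgroup.index_ne_zero_of_finite hp hpI hIp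
        have hrN : ¬ r ∣ Nat.card N := fun h => hcase r hr hrp h hrI
        haveI := Fact.mk hr
        obtain ⟨h, hh⟩ := exists_prime_orderOf_dvd_card' (G := G) r (hrI.trans N.index_dvd_card)
        refine FPF.isNilpotent_of_fpf_subgroup (A := Subgroup.zpowers h) ?_ ?_
        · rw [Ne, Subgroup.zpowers_eq_bot]
          intro e; rw [e, orderOf_one] at hh; exact hr.ne_one hh.symm
        · intro a ha ha1 z hz hcom
          have hao : orderOf a = r := by
            have hd := Subgroup.orderOf_dvd_natCard (Subgroup.zpowers h) ha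
            rw [Nat.card_zpowers, hh] at hd
            exact ((Nat.dvd_prime hr).1 hd).resolve_left (fun e => ha1 (orderOf_eq_one_iff.1 e))
          have haN : a ∉ N := fun h' => hrN (hao ▸ Subgroup.orderOf_dvd_natCard N h')
          have h1 := hc.orderOf_dvd_of_commute haN hz hcom
          rw [hao] at h1
          rcases (Nat.dvd_prime hr).1 h1 with e | e
          · exact orderOf_eq_one_iff.1 e
          · exact absurd (e ▸ Subgroup.orderOf_dvd_natCard N hz) hrN
    -- the `q`-elements of exponent `q` in the centre of `N`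
    let V : Subgroup G :=
      { carrier := {z | z ∈ N ∧ (∀ w ∈ N, w * z = z * w) ∧ z ^ q = 1}
        one_mem' := ⟨N.one_mem, fun w _ => by simp, one_pow q⟩
        mul_mem' := fun {a b} ha hb => ⟨N.mul_mem ha.1 hb.1, fun w hw => by
            rw [← mul_assoc, ha.2.1 w hw, mul_assoc, hb.2.1 w hw, mul_assoc], by
            rw [(show Commute a b from hb.2.1 a ha.1).mul_pow, ha.2.2, hb.2.2, one_mul]⟩
        inv_mem' := fun {a} ha => ⟨N.inv_mem ha.1, fun w hw =>
            ((show Commute w a from ha.2.1 w hw).inv_right).eq, by rw [inv_pow, ha.2.2, inv_one]⟩ }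
    have hVN : V ≤ N := fun z hz => hz.1
    haveI : IsMulCommutative V :=
      ⟨⟨fun a b => Subtype.ext ((b.2.2.1 a a.2.1))⟩⟩
    haveI : V.Normal := by
      refine ⟨fun z hz x => ⟨(inferInstance : N.Normal).conj_mem z hz.1 x, fun w hw => ?_, ?_⟩⟩
      · have h := hz.2.1 (x⁻¹ * w * x) (by simpa using (inferInstance : N.Normal).conj_mem w hw x⁻¹)
        calc w * (x * z * x⁻¹) = x * ((x⁻¹ * w * x) * z) * x⁻¹ := by group
          _ = x * (z * (x⁻¹ * w * x)) * x⁻¹ := by rw [h]
          _ = x * z * x⁻¹ * w := by group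
      · rw [conj_pow, hz.2.2, mul_one, mul_inv_cancel]
    obtain ⟨v, hv1, hvV⟩ : ∃ v : G, v ≠ 1 ∧ v ∈ V := by
      obtain ⟨Q⟩ : Nonempty (Sylow q N) := inferInstance
      have hQnt : Nontrivial (Q : Subgroup N) := by
        rw [← Finite.one_lt_card_iff_nontrivial, Q.card_eq_multiplicity]
        exact Nat.one_lt_pow (hq.factorization_pos_of_dvd Nat.card_pos.ne' hqN).ne' hq.one_lt
      have := Q.2.center_nontrivial
      obtain ⟨i, hi⟩ := IsPGroup.iff_card.1 (Q.2.to_subgroup (Subgroup.center (Q : Subgroup N)))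
      have hi1 : i ≠ 0 := fun h => by
        have : 1 < Nat.card (Subgroup.center (Q : Subgroup N)) := Finite.one_lt_card
        rw [hi, h, pow_zero] at this
        omega
      obtain ⟨w, hw⟩ := exists_prime_orderOf_dvd_card' (G := Subgroup.center (Q : Subgroup N)) q
        (hi ▸ dvd_pow_self q hi1)
      set w' : N := ((w : (Q : Subgroup N)) : N) with hw'
      have hwo : orderOf w' = q := by rw [hw', Subgroup.orderOf_coe, Subgroup.orderOf_coe, hw]
      have hcent : Subgroup.centralizer ({w'} : Set N) = ⊤ := by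
        refine Subgroup.eq_top_of_card_eq _ (Nat.dvd_antisymm (Subgroup.card_subgroup_dvd_card _) ?_)
        rw [← Nat.factorization_prime_le_iff_dvd Nat.card_pos.ne' Nat.card_pos.ne']
        intro s hs
        haveI := Fact.mk hs
        obtain ⟨S⟩ : Nonempty (Sylow s N) := inferInstance
        rw [← hs.pow_dvd_iff_le_factorization Nat.card_pos.ne', ← S.card_eq_multiplicity]
        refine Subgroup.card_dvd_of_le fun y hy => Subgroup.mem_centralizer_singleton_iff.2 ?_
        by_cases hsq : s = q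
        · subst hsq
          haveI := Sylow.normal_of_normalizerCondition Group.normalizerCondition_of_isNilpotent Q
          haveI := Sylow.unique_of_normal Q inferInstance
          have e : S = Q := Subsingleton.elim _ _
          subst e
          exact congrArg Subtype.val (Subgroup.mem_center_iff.1 w.2 ⟨y, hy⟩)
        · exact Subgroup.commute_of_normal_of_disjoint _ _
            (Sylow.normal_of_normalizerCondition Group.normalizerCondition_of_isNilpotent S)
            (Sylow.normal_of_normalizerCondition Group.normalizerCondition_of_isNilpotent Q)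
            (IsPGroup.disjoint_of_ne s q hsq _ _ S.2 Q.2) y w' hy (w : (Q : Subgroup N)).2
      refine ⟨(w' : G), fun e => ?_, w'.2, fun y hy => ?_, ?_⟩
      · rw [← Subgroup.orderOf_coe, e, orderOf_one] at hwo; exact hq.ne_one hwo.symm
      · exact congrArg Subtype.val (show (⟨y, hy⟩ : N) * w' = w' * ⟨y, hy⟩ from
          Subgroup.mem_centralizer_singleton_iff.1 (by rw [hcent]; trivial))
      · rw [← Subgroup.coe_pow, ← hwo, pow_orderOf_eq_one]; rfl
    haveI : Nontrivial V := ⟨⟨⟨v, hvV⟩, 1, fun e => hv1 (congrArg Subtype.val e)⟩⟩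
    let ψ : G ⧸ N →* MulAut V := QuotientGroup.lift N (MulAut.conjNormal (H := V)) fun x hx =>
      MulEquiv.ext fun z => Subtype.ext (by
        rw [MulAut.conjNormal_apply, MulAut.one_apply, z.2.2.1 x hx, mul_inv_cancel_right])
    refine hc.exists_noncyclic hpN hpI fun B hBp hBc => ?_
    haveI := hBc
    refine Frobenius.SmallCyclic.isCyclic_of_comm (A := B) ?_
    intro r s hr hs C hC
    refine Frobenius.isCyclic_of_card_mul_primes (V := V) ((ψ.comp B.subtype).comp C.subtype)
      (fun b hb z hz => ?_) ?_ hr hs hC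
    · by_contra hz1
      obtain ⟨j, hj⟩ := IsPGroup.iff_orderOf.1 hBp (b : B)
      rw [← Subgroup.orderOf_coe] at hj
      obtain ⟨g, m, k, hm, hga, hgk⟩ := exists_pElement_lift hp hj
      have hgN : g ∉ N := fun h => pow_ne_one_of_coprime hj
        (fun e => hb (Subtype.ext (Subtype.ext e))) hm (hga ▸ (QuotientGroup.eq_one_iff g).2 h)
      have hgz : Commute g (z : G) := by
        have e : ψ (g : G ⧸ N) z = z := by
          rw [hga, map_pow]
          exact Equiv.Perm.pow_apply_eq_self_of_apply_eq_self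
            (f := MulAut.toPerm _ (ψ ((b : B) : G ⧸ N))) hz m |> (fun h => by
              rw [← map_pow] at h; exact h)
        exact mul_inv_eq_iff_eq_mul.1 (congrArg Subtype.val e)
      have h1 := hc.orderOf_dvd_of_commute hgN z.2.1 hgz
      rw [hgk, orderOf_eq_prime z.2.2.2 (fun e => hz1 (Subtype.ext e))] at h1
      exact hqp ((Nat.prime_dvd_prime_iff_eq hq hp).1 (hq.dvd_of_dvd_pow h1))
    · obtain ⟨i, hi⟩ := IsPGroup.iff_card.1 (hBp.to_subgroup C)
      have hVq : IsPGroup q V := fun z => ⟨1, Subtype.ext (by rw [pow_one]; exact z.2.2.2)⟩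
      obtain ⟨l, hl⟩ := IsPGroup.iff_card.1 hVq
      rw [hi, hl]
      exact Nat.Coprime.pow i l ((Nat.coprime_primes hp hq).2 hqp.symm)

end Cfsg.Agent.Camina
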