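import Cfsg.Agent.Lib.ClassGraph.MaxClass
import Cfsg.Agent.Lib.ClassGraph.Disconnected
import Cfsg.Agent.Lib.ClassIndex.TwoLargest
import Cfsg.Agent.Lib.ClassIndex.TwoSizes
import Cfsg.Agent.Lib.ClassIndex.SylowTwoSizes

/-!
# Class sizes `{1, n, m, nm}` with `n`, `m` coprime: basic facts (owner: helper75)

* `Four.cent_le`: an element of class size `nm` has its centralizer inside that of a commuting element of coprime order
* `Four.exists_conj_commute_of_le`: inside `C(y)`, `sz y = m`, a `p`-element has a conjugate commuting with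
  such an `x`, for `p` prime to `n`
* `Four.commute_of_sizes` is in `FourSizesCommute`
-/

set_option autoImplicit false
set_option linter.unusedSectionVars false
set_option linter.style.haveILetI false

open Subgroup
open scoped commutatorElement Pointwise

namespace Cfsg.Agent.FourSizes

open Cfsg.Agent.ClassGraph (sz cls stab mem_stab)

variable {G : Type*} [Group G] [Finite G]

local notation "cent" x:max => Subgroup.centralizer ({x} : Set _)

/-- `x` has `p`-power order. -/
def Prim (p : ℕ) (x : G) : Prop := p.Prime ∧ ∃ k, orderOf x = p ^ k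

theorem mem_cent {g x : G} : g ∈ cent x ↔ g * x = x * g := mem_centralizer_singleton_iff

theorem mem_cent_iff_commute {g x : G} : g ∈ cent x ↔ Commute g x := mem_centralizer_singleton_iff

theorem Prim.coprime {p q : ℕ} {x y : G} (hx : Prim p x) (hy : Prim q y) (h : p ≠ q) :
    (orderOf x).Coprime (orderOf y) := by
  obtain ⟨hp, k, hk⟩ := hx
  obtain ⟨hq, l, hl⟩ := hy
  rw [hk, hl]
  exact Nat.Coprime.pow k l ((Nat.coprime_primes hp hq).2 h)

theorem Prim.conj {p : ℕ} {x : G} (hx : Prim p x) (g : G) : Prim p (g * x * g⁻¹) := by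
  obtain ⟨hp, k, hk⟩ := hx
  exact ⟨hp, k, by rw [← hk]; exact MulEquiv.orderOf_eq (MulAut.conj g) x⟩

theorem Prim.of_mem_cls {p : ℕ} {x y : G} (hx : Prim p x) (hy : y ∈ cls x) : Prim p y := by
  obtain ⟨g, rfl⟩ := hy
  exact hx.conj g

theorem Prim.pow_eq_one {p : ℕ} {x : G} (hx : Prim p x) : ∃ k, x ^ p ^ k = 1 := by
  obtain ⟨-, k, hk⟩ := hx
  exact ⟨k, hk ▸ pow_orderOf_eq_one x⟩

theorem prim_of_pow_eq_one {p : ℕ} (hp : p.Prime) {x : G} {k : ℕ} (h : x ^ p ^ k = 1) : Prim p x := by
  obtain ⟨j, -, hj⟩ := (Nat.dvd_prime_pow hp).1 (orderOf_dvd_of_pow_eq_one h)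
  exact ⟨hp, j, hj⟩

theorem Prim.mul {p : ℕ} {x y : G} (hx : Prim p x) (hy : Prim p y) (hc : Commute x y) :
    Prim p (x * y) := by
  obtain ⟨k, hk⟩ := hx.pow_eq_one
  obtain ⟨l, hl⟩ := hy.pow_eq_one
  refine prim_of_pow_eq_one hx.1 (k := k + l) ?_
  rw [hc.mul_pow, pow_add, pow_mul, hk, one_pow, one_mul, mul_comm, pow_mul, hl, one_pow]

theorem Prim.inv {p : ℕ} {x : G} (hx : Prim p x) : Prim p x⁻¹ := by
  obtain ⟨hp, k, hk⟩ := hx
  exact ⟨hp, k, by rw [orderOf_inv, hk]⟩

theorem mem_cls_symm {a b : G} (h : b ∈ cls a) : a ∈ cls b := by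
  obtain ⟨g, rfl⟩ := h
  exact ⟨g⁻¹, by group⟩

theorem cls_eq_of_mem {a b : G} (h : b ∈ cls a) : cls b = cls a := by
  obtain ⟨g, rfl⟩ := h
  ext y
  constructor
  · rintro ⟨x, rfl⟩; exact ⟨x * g, by group⟩
  · rintro ⟨x, rfl⟩; exact ⟨x * g⁻¹, by group⟩

theorem sz_inv (a : G) : sz a⁻¹ = sz a := by
  have h : (cent a⁻¹ : Subgroup G) = cent a := by
    ext g
    rw [mem_cent_iff_commute, mem_cent_iff_commute]
    exact ⟨fun h => by simpa using h.inv_right, fun h => h.inv_right⟩
  show (cent a⁻¹ : Subgroup G).index = (cent a : Subgroup G).index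
  rw [h]

theorem sz_eq_one {g : G} : sz g = 1 ↔ g ∈ center G := TwoLargest.sz_eq_one_iff

theorem mem_cent_of_center {x g : G} (h : x ∈ center G) : g ∈ cent x :=
  mem_cent.2 (mem_center_iff.1 h g)

theorem mem_cent_of_center_left {z u : G} (hz : z ∈ center G) : z ∈ cent u :=
  mem_cent.2 (mem_center_iff.1 hz u).symm

/-- a `p`-element is conjugate into any subgroup of index prime to `p` -/
theorem exists_conj_mem {G : Type*} [Group G] [Finite G] {p : ℕ} [Fact p.Prime] {x : G}
    (hx : ∃ k, orderOf x = p ^ k) (K : Subgroup G) (hK : ¬ p ∣ K.index) : ∃ g : G, g⁻¹ * x * g ∈ K := by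
  obtain ⟨k, hk⟩ := hx
  have hP : IsPGroup p (zpowers x) := IsPGroup.of_card (n := k) (by rw [Nat.card_zpowers, hk])
  obtain ⟨q, hq⟩ := hP.nonempty_fixed_point_of_prime_not_dvd_card (G ⧸ K) (by rwa [← index_eq_card])
  obtain ⟨g, rfl⟩ := QuotientGroup.mk_surjective q
  refine ⟨g, ?_⟩
  have h := hq ⟨x, mem_zpowers x⟩
  change ((x * g : G) : G ⧸ K) = (g : G ⧸ K) at h
  have h2 := QuotientGroup.eq.1 h.symm
  rwa [← mul_assoc] at h2

/-- if all prime power parts of `x` commute with `g`, so does `x` -/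
theorem commute_of_parts {x g : G}
    (h : ∀ (q : ℕ) (y : G), Prim q y → y ∈ zpowers x → Commute g y) : Commute g x := by
  have htop := TwoSizes.eq_top_of_forall_prime_pow ((cent g).subgroupOf (zpowers x))
    fun q k y hq hy => by
      rw [mem_subgroupOf, mem_cent_iff_commute]
      exact (h q y ⟨hq, k, by rw [orderOf_coe]; exact hy⟩ y.2).symm
  have : (⟨x, mem_zpowers x⟩ : zpowers x) ∈ (cent g).subgroupOf (zpowers x) := by
    rw [htop]; trivial
  exact (mem_cent_iff_commute.1 (mem_subgroupOf.1 this)).symm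

theorem exists_noncentral_part {x : G} (hx : x ∉ center G) :
    ∃ (q : ℕ) (y : G), Prim q y ∧ y ∈ zpowers x ∧ y ∉ center G := by
  by_contra hno
  push Not at hno
  exact hx (mem_center_iff.2 fun g => commute_of_parts fun q y hy hmem =>
    mem_center_iff.1 (hno q y hy hmem) g)

/-- The hypothesis. -/
structure Four (G : Type*) [Group G] (n m : ℕ) : Prop where
  hn : 1 < n
  hm : 1 < m
  hcop : n.Coprime m
  sizes : ∀ x : G, sz x = 1 ∨ sz x = n ∨ sz x = m ∨ sz x = n * m
  exn : ∃ x : G, sz x = n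
  exm : ∃ x : G, sz x = m
  exnm : ∃ x : G, sz x = n * m

variable {n m : ℕ}

theorem Four.symm (F : Four G n m) : Four G m n :=
  ⟨F.hm, F.hn, F.hcop.symm, fun x => by
    rcases F.sizes x with h | h | h | h
    · exact Or.inl h
    · exact Or.inr (Or.inr (Or.inl h))
    · exact Or.inr (Or.inl h)
    · exact Or.inr (Or.inr (Or.inr (h.trans (mul_comm n m)))),
  F.exm, F.exn, by obtain ⟨x, hx⟩ := F.exnm; exact ⟨x, hx.trans (mul_comm n m)⟩⟩

theorem Four.ne (F : Four G n m) : n ≠ m := fun h => by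
  have := F.hcop
  rw [h, Nat.coprime_self] at this
  have := F.hm
  omega

theorem Four.not_dvd (F : Four G n m) : ¬ n ∣ m := fun h =>
  absurd (Nat.eq_one_of_dvd_coprimes F.hcop dvd_rfl h) (by have := F.hn; omega)

theorem Four.le_nm (F : Four G n m) (x : G) : sz x ≤ n * m := by
  have := F.hn
  have := F.hm
  rcases F.sizes x with h | h | h | h <;> rw [h] <;> nlinarith

theorem Four.noncentral (F : Four G n m) {x : G} (h : sz x = n) : x ∉ center G := fun hz => by
  have := sz_eq_one.2 hz
  have := F.hn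
  omega

theorem Four.noncentral_nm (F : Four G n m) {x : G} (h : sz x = n * m) : x ∉ center G := fun hz => by
  have := sz_eq_one.2 hz
  have := F.hn
  have := F.hm
  nlinarith

theorem Four.eq_of_dvd (F : Four G n m) {x : G} (h : sz x ∣ n) (hx : x ∉ center G) : sz x = n := by
  have hne : sz x ≠ 1 := fun h1 => hx (sz_eq_one.1 h1)
  rcases F.sizes x with h1 | h1 | h1 | h1
  · exact absurd h1 hne
  · exact h1
  · exact absurd (h1 ▸ h : m ∣ n) F.symm.not_dvd
  · exact absurd ((dvd_mul_left m n).trans (h1 ▸ h)) F.symm.not_dvd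

/-- a prime power part of the same class size -/
theorem Four.exists_prim (F : Four G n m) : ∃ (p : ℕ) (a : G), Prim p a ∧ sz a = n := by
  obtain ⟨x, hx⟩ := F.exn
  obtain ⟨q, y, hy, hmem, hyZ⟩ := exists_noncentral_part (F.noncentral hx)
  exact ⟨q, y, hy, F.eq_of_dvd (hx ▸ index_dvd_of_le (ClassGraph.cent_le_of_mem_zpowers hmem)) hyZ⟩

theorem Four.index_inf (F : Four G n m) {a b : G} (ha : sz a = n) (hb : sz b = m) :
    (cent a ⊓ cent b : Subgroup G).index = n * m := by
  refine le_antisymm ?_ ?_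
  · calc (cent a ⊓ cent b : Subgroup G).index ≤ (cent a : Subgroup G).index * (cent b : Subgroup G).index :=
        Subgroup.index_inf_le
      _ = n * m := by
        rw [show (cent a : Subgroup G).index = n from ha, show (cent b : Subgroup G).index = m from hb]
  · refine Nat.le_of_dvd (Nat.pos_of_ne_zero index_ne_zero_of_finite) (F.hcop.mul_dvd_of_dvd_of_dvd ?_ ?_)
    · exact ha ▸ index_dvd_of_le inf_le_left
    · exact hb ▸ index_dvd_of_le inf_le_right

theorem inf_le_cent_mul (a b : G) : cent a ⊓ cent b ≤ cent (a * b) := fun g hg =>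
  mem_cent_iff_commute.2 ((mem_cent_iff_commute.1 hg.1).mul_right (mem_cent_iff_commute.1 hg.2))

theorem cent_mul_eq {a b : G} (h : Commute a b) (hco : (orderOf a).Coprime (orderOf b)) :
    cent (a * b) = cent a ⊓ cent b :=
  le_antisymm (le_inf (TwoLargest.cent_mul_coprime h hco).1 (TwoLargest.cent_mul_coprime h hco).2)
    (inf_le_cent_mul a b)

theorem Four.sz_mul (F : Four G n m) {a b : G} (ha : sz a = n) (hb : sz b = m) (h : Commute a b)
    (hco : (orderOf a).Coprime (orderOf b)) : sz (a * b) = n * m := by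
  show (cent (a * b) : Subgroup G).index = n * m
  rw [cent_mul_eq h hco]
  exact F.index_inf ha hb

/-- a centralizer of index `nm` between two subgroups of that index -/
theorem eq_of_index_le {H K : Subgroup G} (h : H ≤ K) (hi : H.index ≤ K.index) : H = K := by
  refine Subgroup.eq_of_le_of_card_ge h ?_
  have e1 := H.card_mul_index
  have e2 := K.card_mul_index
  have hpos : 0 < H.index := Nat.pos_of_ne_zero index_ne_zero_of_finite
  refine Nat.le_of_mul_le_mul_right ?_ hpos
  calc Nat.card K * H.index ≤ Nat.card K * K.index := Nat.mul_le_mul_left _ hi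
    _ = Nat.card H * H.index := e2.trans e1.symm

/-- two commuting classes of coprime size commute elementwise -/
theorem commute_cls {a b a' : G} (hco : (sz a).Coprime (sz b)) (hc : Commute a b) (ha' : a' ∈ cls a) :
    Commute a' b := by
  obtain ⟨g, rfl⟩ := ha'
  obtain ⟨k, hk, x, hx, rfl⟩ := Solvable.exists_mul_of_coprime_index (H := cent a) (K := cent b) hco g
  have e1 : x * a * x⁻¹ = a := by rw [mem_cent.1 hx, mul_inv_cancel_right]
  have e2 : k * x * a * (k * x)⁻¹ = k * a * k⁻¹ := by
    calc k * x * a * (k * x)⁻¹ = k * (x * a * x⁻¹) * k⁻¹ := by group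
      _ = k * a * k⁻¹ := by rw [e1]
  rw [e2]
  exact (((mem_cent_iff_commute.1 hk).mul_left hc).mul_left (mem_cent_iff_commute.1 hk).inv_left)

theorem exists_cls_commute {p : ℕ} {x y : G} (hx : Prim p x) (h : ¬ p ∣ sz y) :
    ∃ x' ∈ cls x, Commute x' y := by
  obtain ⟨g, hg⟩ := ClassGraph.exists_conj_commute hx.1 hx.2.choose_spec h
  exact ⟨g * x * g⁻¹, ⟨g, rfl⟩, hg⟩

theorem Four.commute_of_not_dvd (F : Four G n m) {a b a' : G} {r : ℕ} (ha : sz a = n) (hb : sz b = m)
    (hbr : Prim r b) (hr : ¬ r ∣ n) (ha' : a' ∈ cls a) : Commute a' b := by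
  obtain ⟨b', ⟨g, rfl⟩, hc⟩ := exists_cls_commute (y := a) hbr (ha ▸ hr)
  have hc' : Commute (g⁻¹ * a * g) b := by
    have := congrArg (fun z => g⁻¹ * z * g) hc.eq
    simp only [mul_assoc, inv_mul_cancel_left, inv_mul_cancel, mul_one] at this
    show g⁻¹ * a * g * b = b * (g⁻¹ * a * g)
    simp only [mul_assoc]
    exact this.symm
  have hmem : g⁻¹ * a * g ∈ cls a := ⟨g⁻¹, by group⟩
  refine commute_cls ?_ hc' (cls_eq_of_mem hmem ▸ ha')
  rw [TwoLargest.sz_of_mem_cls hmem, ha, hb]
  exact F.hcop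

/-- an element of class size `nm` has a smallest centralizer -/
theorem Four.cent_le (F : Four G n m) {u y : G} (hu : sz u = n * m) (hc : Commute u y)
    (hco : (orderOf u).Coprime (orderOf y)) : cent u ≤ cent y := by
  have h1 := (TwoLargest.cent_mul_coprime hc hco).1
  have h2 := TwoLargest.cent_eq_of_le h1 (hu.symm ▸ F.le_nm (u * y))
  exact h2 ▸ (TwoLargest.cent_mul_coprime hc hco).2

/-- inside `C(y)`, a `p`-element has a conjugate commuting with `x` -/
theorem Four.exists_conj_commute_of_le (F : Four G n m) {x y a : G} {p : ℕ} (hy : sz y = m)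
    (hx : sz x = n * m) (hle : cent x ≤ cent y) (ha : Prim p a) (hay : Commute a y) (hp : ¬ p ∣ n) :
    ∃ a' ∈ cls a, Commute a' x := by
  haveI := Fact.mk ha.1
  set H : Subgroup G := cent y
  have hidx : ((cent x).subgroupOf H).index = n := by
    have h1 := relIndex_mul_index hle
    rw [show (cent y : Subgroup G).index = m from hy, show (cent x : Subgroup G).index = n * m from hx] at h1
    exact Nat.eq_of_mul_eq_mul_right (by have := F.hm; omega) h1
  obtain ⟨g, hg⟩ := exists_conj_mem (p := p) (x := (⟨a, mem_cent_iff_commute.2 hay⟩ : H))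
    (by obtain ⟨k, hk⟩ := ha.2; exact ⟨k, by rw [orderOf_mk, hk]⟩) ((cent x).subgroupOf H)
    (by rw [hidx]; exact hp)
  exact ⟨(g : G)⁻¹ * a * g, ⟨(g : G)⁻¹, by group⟩, mem_cent_iff_commute.1 (mem_subgroupOf.1 hg)⟩

/-- two commuting elements of class size `n < m` and coprime orders have the same centralizer -/
theorem Four.cent_eq_of_small (F : Four G n m) (hlt : n < m) {a d : G} (ha : sz a = n) (hd : sz d = n)
    (h : Commute a d) (hco : (orderOf a).Coprime (orderOf d)) : cent a = cent d := by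
  have hle : sz (a * d) ≤ n * n := by
    show (cent (a * d) : Subgroup G).index ≤ _
    rw [cent_mul_eq h hco]
    refine Subgroup.index_inf_le.trans ?_
    rw [show (cent a : Subgroup G).index = n from ha, show (cent d : Subgroup G).index = n from hd]
  have hdvd : n ∣ sz (a * d) := ha ▸ index_dvd_of_le (TwoLargest.cent_mul_coprime h hco).1
  have hn := F.hn
  have : sz (a * d) = n := by
    rcases F.sizes (a * d) with h1 | h1 | h1 | h1
    · rw [h1] at hdvd; have := Nat.le_of_dvd one_pos hdvd; omega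
    · exact h1
    · exact absurd (h1 ▸ hdvd) F.not_dvd
    · rw [h1] at hle; nlinarith
  have e1 := TwoLargest.cent_eq_of_le (TwoLargest.cent_mul_coprime h hco).1 (by rw [this, ha])
  have e2 := TwoLargest.cent_eq_of_le (TwoLargest.cent_mul_coprime h hco).2 (by rw [this, hd])
  exact e1.symm.trans e2

end Cfsg.Agent.FourSizes
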