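import Cfsg.Agent.Lib.ClassIndex.FourSizes

/-!
# Class sizes `{1, n, m, nm}`: classes of sizes `n` and `m` commute (owner: helper75)

* `Four.commute_of_sizes`: primary elements of class sizes `n` and `m` commute
-/

set_option autoImplicit false
set_option linter.unusedSectionVars false
set_option linter.style.haveILetI false

open Subgroup
open scoped commutatorElement Pointwise

namespace Cfsg.Agent.FourSizes

open Cfsg.Agent.ClassGraph (sz cls stab mem_stab)

variable {G : Type*} [Group G] [Finite G] {n m : ℕ}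

local notation "cent" x:max => Subgroup.centralizer ({x} : Set _)

/-- `T` is an abelian normal `p`-subgroup translating the class of `b`, on which `b` acts freely. -/
structure Trans (T : Subgroup G) (b : G) (p : ℕ) : Prop where
  normal : T.Normal
  comm : ∀ t ∈ T, ∀ t' ∈ T, t * t' = t' * t
  prim : ∀ t ∈ T, Prim p t
  trans : T ≤ stab b
  free : ∀ t ∈ T, Commute t b → t = 1

theorem Trans.conj_b {T : Subgroup G} {b : G} {p : ℕ} (hT : Trans T b p) {t : G} (ht : t ∈ T) :
    b * t * b⁻¹ ∈ T := hT.normal.conj_mem t ht b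

/-- every element of `T` is a commutator with `b` -/
theorem Trans.surj {T U : Subgroup G} {b : G} {p : ℕ} (hT : Trans T b p) (hU : U ≤ T)
    (hUb : ∀ t ∈ U, b * t * b⁻¹ ∈ U) {z : G} (hz : z ∈ U) : ∃ x ∈ U, x⁻¹ * (b * x * b⁻¹) = z := by
  let f : U → U := fun x => ⟨(x : G)⁻¹ * (b * x * b⁻¹), U.mul_mem (U.inv_mem x.2) (hUb x x.2)⟩
  have hinj : Function.Injective f := by
    intro x y hxy
    have h : (x : G)⁻¹ * (b * x * b⁻¹) = (y : G)⁻¹ * (b * y * b⁻¹) := congrArg Subtype.val hxy
    have h2 : (x : G) * (y : G)⁻¹ = 1 := by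
      refine hT.free _ (T.mul_mem (hU x.2) (T.inv_mem (hU y.2))) ?_
      have e2 : b * ((x : G) * (y : G)⁻¹) * b⁻¹ = (x : G) * (y : G)⁻¹ := by
        calc b * ((x : G) * (y : G)⁻¹) * b⁻¹ = (b * x * b⁻¹) * (b * y * b⁻¹)⁻¹ := by group
          _ = ((x : G) * ((x : G)⁻¹ * (b * x * b⁻¹))) * (b * y * b⁻¹)⁻¹ := by group
          _ = (x : G) * (y : G)⁻¹ := by rw [h]; group
      exact (mul_inv_eq_iff_eq_mul.1 e2).symm
    exact Subtype.ext (mul_inv_eq_one.1 h2)
  obtain ⟨x, hx⟩ := (Finite.injective_iff_surjective.1 hinj) ⟨z, hz⟩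
  exact ⟨x, x.2, congrArg Subtype.val hx⟩

/-- a fixed point of `b` in `T T'` is trivial -/
theorem Trans.free_mul {T T' : Subgroup G} {b : G} {p : ℕ} (hT : Trans T b p) (hT' : Trans T' b p)
    {t t' : G} (ht : t ∈ T) (ht' : t' ∈ T') (hc : Commute (t * t') b) : t * t' = 1 := by
  have e : t⁻¹ * (b * t * b⁻¹) = t' * (b * t' * b⁻¹)⁻¹ := by
    have h1 : b * t * b⁻¹ * (b * t' * b⁻¹) = t * t' := by
      calc b * t * b⁻¹ * (b * t' * b⁻¹) = b * (t * t') * b⁻¹ := by group
        _ = t * t' := by rw [hc.symm.eq, mul_inv_cancel_right]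
    calc t⁻¹ * (b * t * b⁻¹) = t⁻¹ * (b * t * b⁻¹ * (b * t' * b⁻¹)) * (b * t' * b⁻¹)⁻¹ := by group
      _ = t' * (b * t' * b⁻¹)⁻¹ := by rw [h1]; group
  have hz : t⁻¹ * (b * t * b⁻¹) ∈ T ⊓ T' :=
    ⟨T.mul_mem (T.inv_mem ht) (hT.conj_b ht), e ▸ T'.mul_mem ht' (T'.inv_mem (hT'.conj_b ht'))⟩
  obtain ⟨x, hx, hxe⟩ := hT.surj (U := T ⊓ T') inf_le_left
    (fun y hy => ⟨hT.conj_b hy.1, hT'.conj_b hy.2⟩) hz
  have h2 : t * x⁻¹ = 1 := by
    refine hT.free _ (T.mul_mem ht (T.inv_mem hx.1)) ?_
    have e2 : b * (t * x⁻¹) * b⁻¹ = t * x⁻¹ := by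
      calc b * (t * x⁻¹) * b⁻¹ = t * (t⁻¹ * (b * t * b⁻¹)) * (b * x * b⁻¹)⁻¹ := by group
        _ = t * x⁻¹ := by rw [← hxe]; group
    exact (mul_inv_eq_iff_eq_mul.1 e2).symm
  have htT' : t ∈ T' := by
    rw [mul_inv_eq_one] at h2
    exact h2 ▸ hx.2
  exact hT'.free _ (T'.mul_mem htT' ht') hc

/-- Non-commuting elements `a`, `b` of sizes `n < m`: the commutators of `a` translate the class of `b`. -/
theorem Four.exists_trans (F : Four G n m) (hlt : n < m) {p r : ℕ} {a b : G} (hap : Prim p a)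
    (hbr : Prim r b) (hpr : p ≠ r) (ha : sz a = n) (hb : sz b = m) (hc : ¬ Commute a b) :
    ∃ T : Subgroup G, Trans T b p ∧ (∀ a' ∈ cls a, a⁻¹ * a' ∈ T) ∧
      ∀ K : Subgroup G, (∀ a' ∈ cls a, a⁻¹ * a' ∈ K) → T ≤ K := by
  have hco : (sz a).Coprime (sz b) := by rw [ha, hb]; exact F.hcop
  have hk : sz (a * b) = m := by
    have h1 := TwoLargest.le_sz_mul_right hco
    rw [hb] at h1
    have := F.hn
    rcases F.sizes (a * b) with h | h | h | h
    · omega
    · omega
    · exact h
    · exfalso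
      refine hc ?_
      have e : cent a ⊓ cent b = cent (a * b) := eq_of_index_le (inf_le_cent_mul a b)
        (by rw [F.index_inf ha hb, show (cent (a * b) : Subgroup G).index = n * m from h])
      have h2 : Commute (a * b) a := mem_cent_iff_commute.1
        (e.ge (mem_cent.2 rfl) : a * b ∈ cent a ⊓ cent b).1
      have h3 : a * b * a = a * (a * b) := h2.eq
      rw [mul_assoc] at h3
      exact (mul_left_cancel h3).symm
  set T := closure {t : G | ∃ a' ∈ cls a, t = a⁻¹ * a'} with hT
  have hTs : T ≤ stab b := by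
    refine (closure_le _).2 ?_
    rintro - ⟨-, ⟨g, rfl⟩, rfl⟩
    exact TwoLargest.trans_mem hco (by rw [hk, hb]) g
  have hTc : ∀ t ∈ T, ∀ a' ∈ cls a, Commute t a' := fun t ht a' ha' =>
    mem_cent_iff_commute.1 (ClassGraph.stab_le_centralizer (a := b)
      (by rw [TwoLargest.sz_of_mem_cls ha']; exact hco) (hTs ht))
  have hn : T.Normal := by
    refine ⟨fun t ht g => ?_⟩
    have hle : T ≤ T.comap (MulAut.conj g).toMonoidHom := by
      refine (closure_le _).2 ?_
      rintro - ⟨a', ha', rfl⟩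
      show g * (a⁻¹ * a') * g⁻¹ ∈ T
      have e : g * (a⁻¹ * a') * g⁻¹ = (a⁻¹ * (g * a * g⁻¹))⁻¹ * (a⁻¹ * (g * a' * g⁻¹)) := by group
      rw [e]
      exact T.mul_mem (T.inv_mem (subset_closure ⟨_, ⟨g, rfl⟩, rfl⟩))
        (subset_closure ⟨_, ClassGraph.cls_conj ha' g, rfl⟩)
    exact hle ht
  have hcomm : ∀ t ∈ T, ∀ t' ∈ T, t * t' = t' * t := by
    have hle : T ≤ centralizer (T : Set G) := by
      refine (closure_le _).2 ?_
      rintro - ⟨a', ha', rfl⟩
      rw [SetLike.mem_coe, mem_centralizer_iff]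
      intro t ht
      exact ((hTc t ht a (TwoLargest.mem_cls_self a)).inv_right.mul_right (hTc t ht a' ha')).eq
    exact fun t ht t' ht' => (mem_centralizer_iff.1 (hle ht) t' ht').symm
  have hprim : ∀ t ∈ T, Prim p t := by
    intro t ht
    refine closure_induction ?_ ?_ ?_ ?_ ht
    · rintro - ⟨a', ha', rfl⟩
      refine hap.inv.mul (hap.of_mem_cls ha') ?_
      have h1 := hTc _ (subset_closure ⟨a', ha', rfl⟩ : a⁻¹ * a' ∈ T) a (TwoLargest.mem_cls_self a)
      have h2 : Commute a' a := by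
        have := (Commute.refl a).mul_left h1
        rwa [mul_inv_cancel_left] at this
      exact h2.symm.inv_left
    · exact ⟨hap.1, 0, by simp⟩
    · exact fun x y hx hy h1 h2 => h1.mul h2 (hcomm x hx y hy)
    · exact fun x _ h1 => h1.inv
  refine ⟨T, ⟨hn, hcomm, hprim, hTs, fun t ht htb => ?_⟩, fun a' ha' => subset_closure ⟨a', ha', rfl⟩,
    fun K hK => (closure_le _).2 fun t ⟨a', ha', e⟩ => e ▸ hK a' ha'⟩
  obtain ⟨-, l, hl⟩ := hbr.of_mem_cls (mem_stab.1 (hTs ht) b (TwoLargest.mem_cls_self b))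
  have h1 : t ∈ zpowers (t * b) := by
    rw [htb.eq]
    exact ClassGraph.mem_zpowers_mul htb.symm (hbr.coprime (hprim t ht) (Ne.symm hpr))
  have h2 : orderOf t ∣ r ^ l := hl ▸ orderOf_dvd_of_mem_zpowers h1
  obtain ⟨k, hk⟩ := (hprim t ht).2
  rw [← orderOf_eq_one_iff]
  exact Nat.eq_one_of_dvd_coprimes (Nat.Coprime.pow k l ((Nat.coprime_primes hap.1 hbr.1).2 hpr))
    (dvd_of_eq hk) h2

/-- The configuration `a ∈ T` is impossible. -/
theorem Four.false_of_inside (F : Four G n m) (hlt : n < m) {p r : ℕ} {a b : G} {T₀ : Subgroup G}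
    (hap : Prim p a) (hbr : Prim r b) (hpr : p ≠ r) (ha : sz a = n) (hb : sz b = m)
    (hc : ¬ Commute a b) (hT₀ : Trans T₀ b p) (haT : a ∈ T₀) : False := by
  have hn1 := F.hn
  have hm1 := F.hm
  have := hT₀.normal
  set T := closure (cls a) with hTdef
  have hTle : T ≤ T₀ := (closure_le _).2 fun x ⟨g, hg⟩ => hg ▸ hT₀.normal.conj_mem a haT g
  have hTn : T.Normal := by
    refine ⟨fun t ht g => ?_⟩
    have hle : T ≤ T.comap (MulAut.conj g).toMonoidHom :=
      (closure_le _).2 fun x hx => subset_closure (ClassGraph.cls_conj hx g)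
    exact hle ht
  have hT : Trans T b p := ⟨hTn, fun t ht t' ht' => hT₀.comm t (hTle ht) t' (hTle ht'),
    fun t ht => hT₀.prim t (hTle ht), hTle.trans hT₀.trans, fun t ht => hT₀.free t (hTle ht)⟩
  have hcardT : n < Nat.card T := by
    have h1 : cls a ⊆ (T : Set G) \ {1} := fun x hx => ⟨subset_closure hx, fun h1 => by
      have hx1 : x = 1 := h1
      obtain ⟨g, hg⟩ := hx
      rw [hx1] at hg
      exact F.noncentral ha ((conj_eq_one_iff.1 hg) ▸ one_mem _)⟩
    have h2 := Set.ncard_le_ncard h1 (Set.toFinite _)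
    rw [ClassGraph.ncard_cls, ha] at h2
    have h3 : ((T : Set G) \ {1}).ncard < (T : Set G).ncard :=
      Set.ncard_sdiff_singleton_lt_of_mem T.one_mem (Set.toFinite _)
    rw [← Nat.card_coe_set_eq (T : Set G)] at h3
    exact lt_of_le_of_lt h2 h3
  set D : Subgroup G := cent a ⊓ cent b with hD
  have hDi : D.index = n * m := F.index_inf ha hb
  -- a non-central primary element of `D` is an `r`-element of size `m`
  have key : ∀ (s : ℕ) (d : G), Prim s d → d ∈ D → d ∉ center G → s = r ∧ sz d = m := by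
    intro s d hds hdD hdZ
    have hda : Commute d a := mem_cent_iff_commute.1 hdD.1
    have hdb : Commute d b := mem_cent_iff_commute.1 hdD.2
    rcases F.sizes d with h | h | h | h
    · exact absurd (sz_eq_one.1 h) hdZ
    · exfalso
      by_cases hsp : s = p
      · subst hsp
        have hy : Prim s (a * d) := hap.mul hds hda.symm
        have hyb : ¬ Commute (a * d) b := fun h' => hc (by
          have h'' := h'.mul_left hdb.inv_left
          rwa [mul_inv_cancel_right] at h'')
        have hysz : sz (a * d) = n := by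
          have hle : sz (a * d) ≤ n * n := by
            show (cent (a * d) : Subgroup G).index ≤ _
            refine (Nat.le_of_dvd (Nat.pos_of_ne_zero index_ne_zero_of_finite)
              (index_dvd_of_le (inf_le_cent_mul a d))).trans (Subgroup.index_inf_le.trans ?_)
            rw [show (cent a : Subgroup G).index = n from ha, show (cent d : Subgroup G).index = n from h]
          rcases F.sizes (a * d) with h1 | h1 | h1 | h1
          · exact absurd (mem_center_iff.1 (sz_eq_one.1 h1) b).symm hyb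
          · exact h1
          · exfalso
            have h2 := TwoLargest.le_sz_mul_right (g := a⁻¹) (h := a * d)
              (by rw [sz_inv, ha, h1]; exact F.hcop)
            rw [inv_mul_cancel_left, h1, h] at h2
            omega
          · rw [h1] at hle; nlinarith
        obtain ⟨T', hT', hT'mem, -⟩ := F.exists_trans hlt hy hbr hpr hysz hb hyb
        have hle : cent b ≤ cent d := by
          intro g hg
          rw [mem_cent_iff_commute] at hg
          set d' := g * d * g⁻¹
          set a' := g * a * g⁻¹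
          have ht : (d⁻¹ * (a⁻¹ * a') * d)⁻¹ ∈ T := T.inv_mem (by
            simpa using hTn.conj_mem _ (T.mul_mem (T.inv_mem (subset_closure (TwoLargest.mem_cls_self a)))
              (subset_closure ⟨g, rfl⟩ : a' ∈ T)) d⁻¹)
          have ht' : (a * d)⁻¹ * (g * (a * d) * g⁻¹) ∈ T' := hT'mem _ ⟨g, rfl⟩
          have hd' : Commute d' b := (hg.mul_left hdb).mul_left hg.inv_left
          have e : (d⁻¹ * (a⁻¹ * a') * d)⁻¹ * ((a * d)⁻¹ * (g * (a * d) * g⁻¹)) = d⁻¹ * d' := by
            simp only [a', d']; group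
          have h1 := hT.free_mul hT' ht ht' (by rw [e]; exact hdb.inv_left.mul_left hd')
          rw [e, inv_mul_eq_one] at h1
          rw [mem_cent]
          exact mul_inv_eq_iff_eq_mul.1 h1.symm
        exact F.not_dvd (h ▸ hb ▸ index_dvd_of_le hle)
      · have he := F.cent_eq_of_small hlt ha h hda.symm (hap.coprime hds (Ne.symm hsp))
        exact hc (mem_cent_iff_commute.1 (he.symm ▸ mem_cent_iff_commute.2 hdb.symm : b ∈ cent a)).symm
    · refine ⟨?_, h⟩
      by_contra hsr
      have hTd : T ≤ cent d := (closure_le _).2 fun x hx =>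
        mem_cent_iff_commute.2 (commute_cls (by rw [ha, h]; exact F.hcop) hda.symm hx)
      let f : T → cent d ⧸ (cent b).subgroupOf (cent d) := fun t =>
        ((⟨t, hTd t.2⟩ : cent d) : cent d ⧸ (cent b).subgroupOf (cent d))
      have hinj : Function.Injective f := by
        intro t t' htt
        have h1 := mem_subgroupOf.1 (QuotientGroup.eq.1 htt)
        have h2 : (t : G)⁻¹ * t' = 1 :=
          hT.free _ (T.mul_mem (T.inv_mem t.2) t'.2) (mem_cent_iff_commute.1 h1)
        exact Subtype.ext (inv_mul_eq_one.1 h2)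
      have h1 := Nat.card_le_card_of_injective f hinj
      rw [← index_eq_card] at h1
      have h1' : Nat.card T ≤ (cent b ⊓ cent d).relIndex (cent d) := by
        rw [inf_relIndex_right]; exact h1
      have h2 := relIndex_mul_index (inf_le_right : cent b ⊓ cent d ≤ cent d)
      have h3 := F.le_nm (b * d)
      have h4 : (cent b ⊓ cent d : Subgroup G).index ≤ n * m := by
        rw [← cent_mul_eq hdb.symm (hbr.coprime hds (Ne.symm hsr))]
        exact h3
      rw [show (cent d : Subgroup G).index = m from h] at h2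
      have h5 : Nat.card T * m ≤ n * m := le_trans (le_trans (Nat.mul_le_mul_right m h1') h2.le) h4
      have := Nat.le_of_mul_le_mul_right h5 (by omega)
      omega
    · exfalso
      by_cases hsp : s = p
      · subst hsp
        have hle := F.cent_le h hdb (hds.coprime hbr hpr)
        exact hc (mem_cent_iff_commute.1 (hle (mem_cent_iff_commute.2 hda.symm)))
      · have hle := F.cent_le h hda (hds.coprime hap hsp)
        exact hc (mem_cent_iff_commute.1 (hle (mem_cent_iff_commute.2 hdb.symm))).symm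
  -- `D` has a non-central primary element
  obtain ⟨u, hu⟩ := F.exnm
  obtain ⟨x, hxD, hxZ⟩ : ∃ x ∈ D, x ∉ center G := by
    by_contra hno
    push Not at hno
    have hZu : center G ≤ cent u := fun z hz => mem_cent_of_center_left hz
    have hZlt : center G < cent u := lt_of_le_of_ne hZu fun e =>
      F.noncentral_nm hu (e ▸ mem_cent.2 rfl)
    have h2 := Subgroup.index_strictAnti hZlt
    have h3 := Nat.le_of_dvd (Nat.pos_of_ne_zero index_ne_zero_of_finite) (index_dvd_of_le (hno : D ≤ center G))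
    rw [show (cent u : Subgroup G).index = n * m from hu] at h2
    omega
  obtain ⟨s, d, hds, hdmem, hdZ⟩ := exists_noncentral_part hxZ
  obtain ⟨rfl, hdm⟩ := key s d hds ((zpowers_le.2 hxD) hdmem) hdZ
  -- compare the `p`-parts
  haveI := Fact.mk hap.1
  have hdD : d ∈ D := (zpowers_le.2 hxD) hdmem
  have hda : Commute a d := (mem_cent_iff_commute.1 hdD.1).symm
  set E : Subgroup G := cent (a * d) with hE
  have hEi : E.index = n * m := F.sz_mul ha hdm hda (hap.coprime hds hpr)
  have hcardE : Nat.card E = Nat.card D := by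
    refine Nat.eq_of_mul_eq_mul_right (show 0 < n * m by positivity) ?_
    conv_lhs => rw [← hEi, E.card_mul_index]
    rw [← hDi, D.card_mul_index]
  obtain ⟨SD⟩ : Nonempty (Sylow p D) := inferInstance
  have hSDZ : (SD : Subgroup D).map D.subtype ≤ center G := by
    rintro - ⟨z, hz, rfl⟩
    by_contra hzZ
    obtain ⟨k, hk⟩ := IsPGroup.iff_orderOf.1 SD.2 ⟨z, hz⟩
    rw [orderOf_mk] at hk
    exact hpr (key p (z : G) ⟨hap.1, k, by rw [orderOf_coe]; exact hk⟩ z.2 hzZ).1
  have haE : a ∈ E := mem_cent_iff_commute.2 ((Commute.refl a).mul_right hda)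
  have hS₁ : (SD : Subgroup D).map D.subtype ⊔ zpowers a ≤ E := by
    refine sup_le (fun z hz => ?_) (zpowers_le.2 haE)
    exact mem_cent_of_center_left (hSDZ hz)
  have hpg : IsPGroup p ((SD : Subgroup D).map D.subtype ⊔ zpowers a : Subgroup G) := by
    obtain ⟨k, hk⟩ := hap.2
    refine IsPGroup.to_sup_of_normal_left' (SD.2.map D.subtype)
      (IsPGroup.of_card (n := k) (by rw [Nat.card_zpowers, hk])) ?_
    refine zpowers_le.2 (mem_normalizer_iff.2 fun y => ?_)
    constructor
    · intro hy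
      rwa [mem_center_iff.1 (hSDZ hy) a, mul_inv_cancel_right]
    · intro hy
      have h1 : y = a * y * a⁻¹ := by
        have h2 := mem_center_iff.1 (hSDZ hy) a⁻¹
        calc y = a⁻¹ * (a * y * a⁻¹) * a := by group
          _ = a * y * a⁻¹ := by rw [h2, inv_mul_cancel_right]
      rwa [h1]
  obtain ⟨j, hj⟩ := IsPGroup.iff_card.1 hpg
  have h1 : p ^ j ∣ Nat.card D := hcardE ▸ hj ▸ card_dvd_of_le hS₁
  have h2 : Nat.card ((SD : Subgroup D).map D.subtype) = p ^ (Nat.card D).factorization p := by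
    rw [card_map_of_injective D.subtype_injective, SD.card_eq_multiplicity]
  have heq := Subgroup.eq_of_le_of_card_ge (le_sup_left : (SD : Subgroup D).map D.subtype ≤ _ ⊔ zpowers a)
    (by
      rw [h2, hj]
      exact Nat.pow_le_pow_right hap.1.pos
        ((hap.1.pow_dvd_iff_le_factorization Nat.card_pos.ne').1 h1))
  exact F.noncentral ha (hSDZ (heq ▸ mem_sup_right (mem_zpowers a)))

theorem Four.commute_small (F : Four G n m) (hlt : n < m) {p r : ℕ} {a b : G} (hap : Prim p a)
    (hbr : Prim r b) (ha : sz a = n) (hb : sz b = m) : Commute a b := by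
  by_contra hc
  have hrn : r ∣ n := by
    by_contra h
    exact hc (F.commute_of_not_dvd ha hb hbr h (TwoLargest.mem_cls_self a))
  have hpm : p ∣ m := by
    by_contra h
    exact hc (F.symm.commute_of_not_dvd hb ha hap h (TwoLargest.mem_cls_self b)).symm
  have hpr : p ≠ r := fun h => hbr.1.ne_one (Nat.eq_one_of_dvd_coprimes F.hcop hrn (h ▸ hpm))
  obtain ⟨T, hT, hTmem, hTmin⟩ := F.exists_trans hlt hap hbr hpr ha hb hc
  have := hT.normal
  obtain ⟨s, hs, hse⟩ := hT.surj (U := T) le_rfl (fun t ht => hT.conj_b ht)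
    (hTmem (b * a * b⁻¹) ⟨b, rfl⟩)
  have ha0 : Commute (a * s⁻¹) b := by
    have e : b * (a * s⁻¹) * b⁻¹ = a * s⁻¹ := by
      calc b * (a * s⁻¹) * b⁻¹ = a * (a⁻¹ * (b * a * b⁻¹)) * (b * s * b⁻¹)⁻¹ := by group
        _ = a * s⁻¹ := by rw [← hse]; group
    exact (mul_inv_eq_iff_eq_mul.1 e).symm
  have hsb : ¬ Commute s b := fun h => hc (by
    have h' := ha0.mul_left h
    rwa [inv_mul_cancel_right] at h')
  -- what fixes `a` and `b` fixes `s`
  have hle : cent a ⊓ cent b ≤ cent s := by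
    rintro g ⟨hga, hgb⟩
    rw [mem_cent]
    have hgs : g * s * g⁻¹ ∈ T := hT.normal.conj_mem s hs g
    have hgb' : Commute g b := mem_cent_iff_commute.1 hgb
    have hga' : Commute g a := mem_cent_iff_commute.1 hga
    have h3 : g * (s⁻¹ * (b * s * b⁻¹)) * g⁻¹ = s⁻¹ * (b * s * b⁻¹) := by
      rw [hse]
      have : Commute g (a⁻¹ * (b * a * b⁻¹)) :=
        hga'.inv_right.mul_right ((hgb'.mul_right hga').mul_right hgb'.inv_right)
      rw [this.eq, mul_inv_cancel_right]
    have hgbi : g * b⁻¹ = b⁻¹ * g := hgb'.inv_right.eq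
    have h4 : (g * s * g⁻¹)⁻¹ * (b * (g * s * g⁻¹) * b⁻¹) = s⁻¹ * (b * s * b⁻¹) := by
      rw [← h3]
      calc (g * s * g⁻¹)⁻¹ * (b * (g * s * g⁻¹) * b⁻¹)
          = g * s⁻¹ * g⁻¹ * ((b * g) * s * (g⁻¹ * b⁻¹)) := by group
        _ = g * s⁻¹ * g⁻¹ * ((g * b) * s * (b⁻¹ * g⁻¹)) := by rw [hgb'.eq, hgb'.symm.inv_inv.eq]
        _ = g * (s⁻¹ * (b * s * b⁻¹)) * g⁻¹ := by group
    have h5 : g * s * g⁻¹ * s⁻¹ = 1 := by
      refine hT.free _ (T.mul_mem hgs (T.inv_mem hs)) ?_
      have e : b * (g * s * g⁻¹ * s⁻¹) * b⁻¹ = g * s * g⁻¹ * s⁻¹ := by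
        calc b * (g * s * g⁻¹ * s⁻¹) * b⁻¹
            = g * s * g⁻¹ * ((g * s * g⁻¹)⁻¹ * (b * (g * s * g⁻¹) * b⁻¹)) * (b * s * b⁻¹)⁻¹ := by group
          _ = g * s * g⁻¹ * s⁻¹ := by rw [h4]; group
      exact (mul_inv_eq_iff_eq_mul.1 e).symm
    exact mul_inv_eq_iff_eq_mul.1 (mul_inv_eq_one.1 h5)
  rcases F.sizes s with h | h | h | h
  · exact hsb (mem_center_iff.1 (sz_eq_one.1 h) b).symm
  · exact F.false_of_inside hlt (hT.prim s hs) hbr hpr h hb hsb hT hs
  · have hn1 := F.hn
    have hco : (sz a).Coprime (sz s⁻¹) := by rw [sz_inv, ha, h]; exact F.hcop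
    have h0 : sz (a * s⁻¹) = m := by
      have h1 := TwoLargest.le_sz_mul_right hco
      rw [sz_inv, h] at h1
      rcases F.sizes (a * s⁻¹) with h2 | h2 | h2 | h2
      · omega
      · omega
      · exact h2
      · exfalso
        have hle2 : cent a ⊓ cent b ≤ cent (a * s⁻¹) := fun g hg =>
          mem_cent_iff_commute.2 ((mem_cent_iff_commute.1 hg.1).mul_right
            (mem_cent_iff_commute.1 (hle hg)).inv_right)
        have e := eq_of_index_le hle2
          (by rw [F.index_inf ha hb, show (cent (a * s⁻¹) : Subgroup G).index = n * m from h2])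
        exact hc (mem_cent_iff_commute.1 (e.ge (mem_cent_iff_commute.2 ha0.symm)).1).symm
    have hsub : T ≤ stab s⁻¹ := hTmin _ fun a' ⟨g, hg⟩ => hg ▸
      TwoLargest.trans_mem hco (by rw [h0, sz_inv, h]) g
    have h6 := mem_stab.1 (hsub hs) s⁻¹ (TwoLargest.mem_cls_self _)
    rw [mul_inv_cancel] at h6
    obtain ⟨g, hg⟩ := h6
    refine hsb ?_
    rw [conj_eq_one_iff, inv_eq_one] at hg
    rw [hg]
    exact Commute.one_left b
  · refine hsb (mem_cent_iff_commute.1 ?_)
    have e := eq_of_index_le hle (by rw [F.index_inf ha hb, show (cent s : Subgroup G).index = n * m from h])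
    exact (e.ge (mem_cent.2 rfl : s ∈ cent s)).2

theorem Four.commute_of_sizes (F : Four G n m) {p r : ℕ} {a b : G} (hap : Prim p a) (hbr : Prim r b)
    (ha : sz a = n) (hb : sz b = m) : Commute a b := by
  rcases lt_or_gt_of_ne F.ne with h | h
  · exact F.commute_small h hap hbr ha hb
  · exact (F.symm.commute_small h hbr hap hb ha).symm

theorem Four.commute_cls_of_sizes (F : Four G n m) {p r : ℕ} {a b a' b' : G} (hap : Prim p a)
    (hbr : Prim r b) (ha : sz a = n) (hb : sz b = m) (ha' : a' ∈ cls a) (hb' : b' ∈ cls b) :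
    Commute a' b' :=
  F.commute_of_sizes (hap.of_mem_cls ha') (hbr.of_mem_cls hb') ((TwoLargest.sz_of_mem_cls ha').trans ha)
    ((TwoLargest.sz_of_mem_cls hb').trans hb)

end Cfsg.Agent.FourSizes
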