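import Cfsg.Agent.Lib.ClassIndex.FourSizesCommute
import Cfsg.Agent.Lib.ClassIndex.PxQ

/-!
# Class sizes `{1, n, m, nm}`: no crossed primary elements (owner: helper75)

* `Four.not_dvd_prim`: the prime of a primary element of class size `n` does not divide `m`
-/

set_option autoImplicit false
set_option linter.unusedSectionVars false
set_option linter.style.haveILetI false

open Subgroup
open scoped Pointwise

namespace Cfsg.Agent.FourSizes

open Cfsg.Agent.ClassGraph (sz cls)

variable {G : Type*} [Group G] [Finite G] {n m : ℕ}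

local notation "cent" x:max => Subgroup.centralizer ({x} : Set _)

/-- `x` commutes with no conjugate of `a`. -/
def Avoids (a x : G) : Prop := ∀ a' ∈ cls a, ¬ Commute a' x

theorem Commute_of_mem_zpowers {g y u : G} (h : Commute g u) (hy : y ∈ zpowers u) : Commute g y := by
  obtain ⟨i, rfl⟩ := mem_zpowers_iff.1 hy
  exact h.zpow_right i

theorem exists_part (x : G) {q : ℕ} (hq : q.Prime) :
    ∃ u w : G, x = u * w ∧ Commute u w ∧ u ∈ zpowers x ∧ w ∈ zpowers x ∧ Prim q u ∧ ¬ q ∣ orderOf w ∧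
      ∀ y ∈ zpowers x, Prim q y → y ∈ zpowers u := by
  haveI := Fact.mk hq
  obtain ⟨u, w, hx, hc, ⟨i, hi⟩, ⟨j, hj⟩, hu, hw⟩ := SylowTwoSizes.exists_parts (r := q) x
  refine ⟨u, w, hx, hc, hi ▸ npow_mem_zpowers x i, hj ▸ npow_mem_zpowers x j, ⟨hq, hu⟩, hw,
    fun y hy hyq => ?_⟩
  obtain ⟨k, rfl⟩ := mem_zpowers_iff.1 hy
  have hxu : Commute x u := by rw [hi]; exact Commute.self_pow x i
  have hwk : w ^ k = (u ^ k)⁻¹ * x ^ k := by
    rw [hx, hc.mul_zpow, inv_mul_cancel_left]
  have hwq : Prim q (w ^ k) := by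
    rw [hwk]
    refine Prim.mul (Prim.inv ?_) hyq ((hxu.zpow_zpow k k).symm.inv_left)
    obtain ⟨l, hl⟩ := hu
    obtain ⟨j', -, hj'⟩ := (Nat.dvd_prime_pow hq).1 (hl ▸ orderOf_dvd_of_mem_zpowers (zpow_mem (mem_zpowers u) k))
    exact ⟨hq, j', hj'⟩
  obtain ⟨-, l, hl⟩ := hwq
  have h1 : w ^ k = 1 := orderOf_eq_one_iff.1 (Nat.eq_one_of_dvd_coprimes
    (Nat.Coprime.pow_left l (hq.coprime_iff_not_dvd.2 hw)) (dvd_of_eq hl)
    (orderOf_dvd_of_mem_zpowers (zpow_mem (mem_zpowers w) k)))
  rw [hx, hc.mul_zpow, h1, mul_one]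
  exact zpow_mem (mem_zpowers u) k

theorem exists_cls_commute' {p : ℕ} {x y : G} (hx : Prim p x) (h : ¬ p ∣ sz y) :
    ∃ y' ∈ cls y, Commute y' x := by
  obtain ⟨-, ⟨g, rfl⟩, hc⟩ := exists_cls_commute hx h
  refine ⟨g⁻¹ * y * g, ⟨g⁻¹, by group⟩, ?_⟩
  have := congrArg (fun z => g⁻¹ * z * g) hc.eq
  simp only [mul_assoc, inv_mul_cancel_left, inv_mul_cancel, mul_one] at this
  show g⁻¹ * y * g * x = x * (g⁻¹ * y * g)
  simp only [mul_assoc]
  exact this.symm

theorem Four.sz_of_cls {a a' : G} (ha : sz a = n) (h : a' ∈ cls a) : sz a' = n :=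
  (TwoLargest.sz_of_mem_cls h).trans ha

theorem Four.commute_of_sz_m (F : Four G n m) {p : ℕ} {a x : G} (hap : Prim p a) (ha : sz a = n)
    (hx : sz x = m) : Commute a x :=
  commute_of_parts fun q y hy hmem => by
    by_cases hyZ : y ∈ center G
    · exact mem_center_iff.1 hyZ a
    · exact F.commute_of_sizes hap hy ha
        (F.symm.eq_of_dvd (hx ▸ index_dvd_of_le (ClassGraph.cent_le_of_mem_zpowers hmem)) hyZ)

theorem Four.sz_of_avoids (F : Four G n m) {p : ℕ} {a x : G} (hap : Prim p a) (ha : sz a = n)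
    (hp : ¬ p ∣ n) (hav : Avoids a x) : sz x = n * m := by
  rcases F.sizes x with h | h | h | h
  · exact absurd (mem_center_iff.1 (sz_eq_one.1 h) a) (hav a (TwoLargest.mem_cls_self a))
  · obtain ⟨a', ha', hc⟩ := exists_cls_commute hap (h ▸ hp : ¬ p ∣ sz x)
    exact absurd hc (hav a' ha')
  · exact absurd (F.commute_of_sz_m hap ha h) (hav a (TwoLargest.mem_cls_self a))
  · exact h

theorem exists_avoids {a : G} (ha : a ∉ center G) : ∃ x, Avoids a x := by
  by_contra hno
  simp only [Avoids, not_exists, not_forall, not_not, exists_prop] at hno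
  refine ha ?_
  have htop : cent a = ⊤ := ClassIndex.eq_top_of_conj_cover fun g => by
    obtain ⟨a', ⟨c, rfl⟩, hc⟩ := hno g
    refine ⟨c, mem_cent.2 ?_⟩
    calc c⁻¹ * g * c * a = c⁻¹ * (g * (c * a * c⁻¹)) * c := by group
      _ = c⁻¹ * (c * a * c⁻¹ * g) * c := by rw [hc.symm.eq]
      _ = a * (c⁻¹ * g * c) := by group
  exact mem_center_iff.2 fun g => mem_cent.1 (htop.ge (mem_top g))

theorem Four.prime_dvd_of_avoids {r : ℕ} {a u : G} (ha : sz a = n) (hu : Prim r u)
    (hav : Avoids a u) : r ∣ n := by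
  by_contra h
  obtain ⟨a', ha', hc⟩ := exists_cls_commute' hu (ha ▸ h : ¬ r ∣ sz a)
  exact hav a' ha' hc

/-- a primary element avoiding the class of `a` -/
theorem Four.exists_prim_avoids (F : Four G n m) {p : ℕ} {a : G} (hap : Prim p a) (ha : sz a = n)
    (hp : ¬ p ∣ n)
    (hsame : ∀ (q q' : ℕ) (y w : G), Prim q y → Prim q' w → sz y = n → sz w = n → q ≠ q' → Commute y w →
      cent y = cent w) :
    ∃ (r : ℕ) (u : G), Prim r u ∧ sz u = n * m ∧ Avoids a u := by
  obtain ⟨x, hav⟩ := exists_avoids (F.noncentral ha)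
  have hx := F.sz_of_avoids hap ha hp hav
  by_contra hno
  have hpart : ∀ (q : ℕ) (y : G), Prim q y → y ∈ zpowers x → sz y ≠ n * m := fun q y hy hmem hsz => by
    have e := TwoLargest.cent_eq_of_le (ClassGraph.cent_le_of_mem_zpowers hmem) (by rw [hx, hsz])
    exact hno ⟨q, y, hy, hsz, fun a' ha' hc =>
      hav a' ha' (mem_cent_iff_commute.1 (e.ge (mem_cent_iff_commute.2 hc)))⟩
  by_cases hw : ∃ (q : ℕ) (w : G), Prim q w ∧ w ∈ zpowers x ∧ sz w = n
  · obtain ⟨q', w, hw, hwmem, hwn⟩ := hw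
    obtain ⟨a', ha', hc⟩ := exists_cls_commute hap (hwn ▸ hp : ¬ p ∣ sz w)
    refine hav a' ha' (commute_of_parts fun q y hy hmem => ?_)
    rcases F.sizes y with h | h | h | h
    · exact mem_center_iff.1 (sz_eq_one.1 h) a'
    · have e : cent w = cent y := by
        by_cases hqq : q' = q
        · subst hqq
          obtain ⟨u, -, -, -, humem, -, hu, -, hall⟩ := exists_part x hy.1
          have hwu := ClassGraph.cent_le_of_mem_zpowers (hall w hwmem hw)
          have hyu := ClassGraph.cent_le_of_mem_zpowers (hall y hmem hy)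
          have hdvd : n ∣ sz u := hwn ▸ index_dvd_of_le hwu
          have hun : sz u = n := by
            rcases F.sizes u with h' | h' | h' | h'
            · exfalso; have := Nat.le_of_dvd one_pos (h' ▸ hdvd); have := F.hn; omega
            · exact h'
            · exact absurd (h' ▸ hdvd) F.not_dvd
            · exact absurd h' (hpart _ u hu humem)
          exact (TwoLargest.cent_eq_of_le hwu (by rw [hun, hwn])).symm.trans
            (TwoLargest.cent_eq_of_le hyu (by rw [hun, h]))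
        · refine hsame q' q w y hw hy hwn h hqq ?_
          obtain ⟨i, rfl⟩ := mem_zpowers_iff.1 hwmem
          exact (Commute_of_mem_zpowers (Commute.refl x) hmem).zpow_left i
      exact mem_cent_iff_commute.1 (e.le (mem_cent_iff_commute.2 hc))
    · exact F.commute_of_sizes (hap.of_mem_cls ha') hy (Four.sz_of_cls ha ha') h
    · exact absurd h (hpart q y hy hmem)
  · refine hav a (TwoLargest.mem_cls_self a) (commute_of_parts fun q y hy hmem => ?_)
    rcases F.sizes y with h | h | h | h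
    · exact mem_center_iff.1 (sz_eq_one.1 h) a
    · exact absurd ⟨q, y, hy, hmem, h⟩ hw
    · exact F.commute_of_sizes hap hy ha h
    · exact absurd h (hpart q y hy hmem)

/-- all primary elements of class size `m` share the prime of an avoiding element -/
theorem Four.prime_eq_of_avoids (F : Four G n m) {p r s : ℕ} {a u b : G} (hap : Prim p a) (ha : sz a = n)
    (hp : ¬ p ∣ n) (hu : Prim r u) (hsz : sz u = n * m) (hav : Avoids a u) (hbs : Prim s b)
    (hb : sz b = m) : s = r := by
  by_contra hsr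
  have hrn : r ∣ n := Four.prime_dvd_of_avoids ha hu hav
  have hrm : ¬ r ∣ m := fun h => hu.1.ne_one (Nat.eq_one_of_dvd_coprimes F.hcop hrn h)
  obtain ⟨b', hb', hc⟩ := exists_cls_commute' hu (hb ▸ hrm : ¬ r ∣ sz b)
  have hb'm : sz b' = m := Four.sz_of_cls hb hb'
  have hle := F.cent_le hsz hc.symm (hu.coprime (hbs.of_mem_cls hb') (Ne.symm hsr))
  obtain ⟨a', ha', hc'⟩ := F.exists_conj_commute_of_le hb'm hsz hle hap
    (F.commute_of_sizes hap (hbs.of_mem_cls hb') ha hb'm) hp
  exact hav a' ha' hc'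

theorem commute_all_of_parts {p : ℕ} [Fact p.Prime]
    (h : ∀ (q : ℕ) (y : G), q ≠ p → Prim q y → y ∈ center G)
    (hR : ∀ R : Subgroup G, IsPGroup p R → ∀ x ∈ R, ∀ y ∈ R, Commute x y) : ∀ x y : G, Commute x y := by
  obtain ⟨S⟩ : Nonempty (Sylow p G) := inferInstance
  have htop : centralizer ((S : Subgroup G) : Set G) = ⊤ := ClassIndex.eq_top_of_conj_cover fun g => by
    obtain ⟨u, w, rfl, -, -, -, hu, hw, -⟩ := exists_part g (Fact.out : p.Prime)
    have hwZ : w ∈ center G := by
      refine mem_center_iff.2 fun c => (commute_of_parts fun q y hy hmem => ?_).eq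
      by_cases hqp : q = p
      · subst hqp
        obtain ⟨-, k, hk⟩ := hy
        have : y = 1 := orderOf_eq_one_iff.1 (Nat.eq_one_of_dvd_coprimes
          (Nat.Coprime.pow_left k ((Fact.out : q.Prime).coprime_iff_not_dvd.2 hw)) (dvd_of_eq hk)
          (orderOf_dvd_of_mem_zpowers hmem))
        rw [this]; exact Commute.one_right c
      · exact mem_center_iff.1 (h q y hqp hy) c
    obtain ⟨c, hc⟩ := exists_conj_mem hu.2 (S : Subgroup G) S.not_dvd_index
    refine ⟨c, mem_centralizer_iff.2 fun s hs => ?_⟩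
    have e : c⁻¹ * (u * w) * c = c⁻¹ * u * c * w := by
      calc c⁻¹ * (u * w) * c = c⁻¹ * u * (w * c) := by group
        _ = c⁻¹ * u * (c * w) := by rw [← mem_center_iff.1 hwZ c]
        _ = c⁻¹ * u * c * w := by group
    rw [e]
    exact ((hR _ S.2 s hs _ hc).mul_right (mem_center_iff.1 hwZ s)).eq
  have hall : ∀ y : G, y ∈ center G := by
    intro y
    have := TwoSizes.eq_top_of_forall_prime_pow (center G) fun q k y hq hy => by
      by_cases hqp : q = p
      · subst hqp
        obtain ⟨c, hc⟩ := exists_conj_mem ⟨k, hy⟩ (S : Subgroup G) S.not_dvd_index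
        have hz : c⁻¹ * y * c ∈ center G := mem_center_iff.2 fun g =>
          ((mem_centralizer_iff.1 (htop.ge (mem_top g)) _ hc).symm)
        have e : y = c⁻¹ * y * c := by
          calc y = c * (c⁻¹ * y * c) * c⁻¹ := by group
            _ = c⁻¹ * y * c := by rw [mem_center_iff.1 hz c, mul_inv_cancel_right]
        rw [e]; exact hz
      · exact h q y hqp ⟨hq, k, hy⟩
    rw [this]; trivial
  exact fun x y => mem_center_iff.1 (hall y) x

/-- an `r`-element outside the centre in a subgroup of the order of `C(u)` -/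
theorem exists_noncentral_prim {r : ℕ} {u : G} (hu : Prim r u) (huZ : u ∉ center G) {H : Subgroup G}
    (hcard : Nat.card H = Nat.card (cent u : Subgroup G)) : ∃ z ∈ H, Prim r z ∧ z ∉ center G := by
  haveI := Fact.mk hu.1
  by_contra hno
  push Not at hno
  obtain ⟨S⟩ : Nonempty (Sylow r H) := inferInstance
  have hSZ : (S : Subgroup H).map H.subtype ≤ center G := by
    rintro - ⟨z, hz, rfl⟩
    obtain ⟨k, hk⟩ := IsPGroup.iff_orderOf.1 S.2 ⟨z, hz⟩
    rw [orderOf_mk] at hk
    exact hno (z : G) z.2 ⟨hu.1, k, by rw [orderOf_coe]; exact hk⟩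
  have hle : (S : Subgroup H).map H.subtype ⊔ zpowers u ≤ cent u :=
    sup_le (fun z hz => mem_cent_of_center_left (hSZ hz)) (zpowers_le.2 (mem_cent.2 rfl))
  have hpg : IsPGroup r ((S : Subgroup H).map H.subtype ⊔ zpowers u : Subgroup G) := by
    obtain ⟨k, hk⟩ := hu.2
    haveI : ((S : Subgroup H).map H.subtype).Normal :=
      ⟨fun z hz g => by rw [mem_center_iff.1 (hSZ hz) g, mul_inv_cancel_right]; exact hz⟩
    exact (S.2.map H.subtype).to_sup_of_normal_left
      (IsPGroup.of_card (n := k) (by rw [Nat.card_zpowers, hk]))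
  obtain ⟨j, hj⟩ := IsPGroup.iff_card.1 hpg
  have h1 : r ^ j ∣ Nat.card H := hcard ▸ hj ▸ card_dvd_of_le hle
  have h2 : Nat.card ((S : Subgroup H).map H.subtype) = r ^ (Nat.card H).factorization r := by
    rw [card_map_of_injective H.subtype_injective, S.card_eq_multiplicity]
  have heq := Subgroup.eq_of_le_of_card_ge (le_sup_left : (S : Subgroup H).map H.subtype ≤ _ ⊔ zpowers u)
    (by
      rw [h2, hj]
      exact Nat.pow_le_pow_right hu.1.pos ((hu.1.pow_dvd_iff_le_factorization Nat.card_pos.ne').1 h1))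
  exact huZ (hSZ (heq ▸ mem_sup_right (mem_zpowers u)))

/-- the `p`-subgroups of `C(z)` are abelian -/
theorem Four.pgroup_comm (F : Four G n m) {p r : ℕ} [Fact p.Prime] {u z : G} (hu : Prim r u) (hrp : r ≠ p)
    (hp : ¬ p ∣ n) (hsz : sz u = n * m) (hz : sz z = m) (hc : Commute u z) {R : Subgroup G}
    (hR : IsPGroup p R) (hRz : R ≤ cent z) : ∀ x ∈ R, ∀ y ∈ R, Commute x y := by
  set K : Subgroup G := cent z with hK
  obtain ⟨S₀⟩ : Nonempty (Sylow p (cent u : Subgroup G)) := inferInstance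
  set P₀ := (S₀ : Subgroup (cent u : Subgroup G)).map (cent u : Subgroup G).subtype with hP₀
  have hP₀p : IsPGroup p P₀ := S₀.2.map _
  have hle : ∀ y ∈ P₀, cent u ≤ cent y := by
    intro y hy
    have hy' : y ∈ cent u := by obtain ⟨y', -, rfl⟩ := hy; exact y'.2
    obtain ⟨k, hk⟩ := IsPGroup.iff_orderOf.1 hP₀p ⟨y, hy⟩
    rw [orderOf_mk] at hk
    exact F.cent_le hsz (mem_cent_iff_commute.1 hy').symm (hu.coprime ⟨Fact.out, k, hk⟩ hrp)
  have hP₀K : P₀ ≤ K := fun y hy =>
    mem_cent_iff_commute.2 (mem_cent_iff_commute.1 (hle y hy (mem_cent_iff_commute.2 hc.symm))).symm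
  have hP₀c : ∀ x ∈ P₀, ∀ y ∈ P₀, Commute x y := fun x hx y hy => mem_cent_iff_commute.1 (hle y hy
    (by obtain ⟨x', -, rfl⟩ := hx; exact x'.2))
  have hcards : Nat.card K = n * Nat.card (cent u : Subgroup G) := by
    have e1 := K.card_mul_index
    have e2 := (cent u : Subgroup G).card_mul_index
    rw [show (cent u : Subgroup G).index = n * m from hsz] at e2
    rw [show K.index = m from hz, ← e2] at e1
    refine Nat.eq_of_mul_eq_mul_right (show 0 < m by have := F.hm; omega) ?_
    rw [e1]; ring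
  let S₁ : Sylow p K := Sylow.ofCard (P₀.subgroupOf K) (by
    rw [Nat.card_congr (Subgroup.subgroupOfEquivOfLe hP₀K).toEquiv, hP₀,
      card_map_of_injective (cent u : Subgroup G).subtype_injective, S₀.card_eq_multiplicity, hcards,
      Nat.factorization_mul (by have := F.hn; omega) Nat.card_pos.ne', Finsupp.add_apply,
      Nat.factorization_eq_zero_of_not_dvd hp, zero_add])
  have hRK : IsPGroup p (R.subgroupOf K) := hR.comap_of_injective _ K.subtype_injective
  obtain ⟨S, hS⟩ := hRK.exists_le_sylow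
  intro x hx y hy
  let e := S.equiv S₁
  have key : ∀ s t : S, s * t = t * s := fun s t => e.injective (by
    rw [map_mul, map_mul]
    refine Subtype.ext (Subtype.ext ?_)
    exact (hP₀c _ (mem_subgroupOf.1 (e s).2) _ (mem_subgroupOf.1 (e t).2)).eq)
  exact congrArg (fun s : S => ((s : K) : G))
    (key ⟨⟨x, hRz hx⟩, hS (mem_subgroupOf.2 hx)⟩ ⟨⟨y, hRz hy⟩, hS (mem_subgroupOf.2 hy)⟩)

theorem Four.false_small (F : Four G n m) (hlt : n < m) {p : ℕ} {a : G} (hap : Prim p a) (ha : sz a = n)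
    (hpm : p ∣ m) : False := by
  haveI := Fact.mk hap.1
  have hp : ¬ p ∣ n := fun h => hap.1.ne_one (Nat.eq_one_of_dvd_coprimes F.hcop h hpm)
  obtain ⟨r, u, hu, hsz, hav⟩ := F.exists_prim_avoids hap ha hp
    fun q q' y w hy hw hyn hwn hne hc => F.cent_eq_of_small hlt hyn hwn hc (hy.coprime hw hne)
  have hrn : r ∣ n := Four.prime_dvd_of_avoids ha hu hav
  have hrp : r ≠ p := fun h => hp (h ▸ hrn)
  have hrm : ¬ r ∣ m := fun h => hu.1.ne_one (Nat.eq_one_of_dvd_coprimes F.hcop hrn h)
  have hallm : ∀ (s : ℕ) (b : G), Prim s b → sz b = m → s = r := fun s b hbs hb =>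
    F.prime_eq_of_avoids hap ha hp hu hsz hav hbs hb
  obtain ⟨s₀, b, hbr, hb⟩ := F.symm.exists_prim
  obtain rfl := hallm s₀ b hbr hb
  obtain ⟨s, v, hv, hvsz, hvav⟩ := F.symm.exists_prim_avoids hbr hb hrm
    fun q q' y w hy hw hym hwm hne _ => absurd ((hallm q y hy hym).trans (hallm q' w hw hwm).symm) hne
  obtain rfl : p = s := F.symm.prime_eq_of_avoids hbr hb hrm hv hvsz hvav hap ha
  have hvsz' : sz v = n * m := hvsz.trans (mul_comm m n)
  set H : Subgroup G := cent v with hH
  have hp' : ∀ (q : ℕ) (y : G), q ≠ p → Prim q y → y ∈ H → H ≤ cent y := fun q y hq hy hmem =>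
    F.cent_le hvsz' (mem_cent_iff_commute.1 hmem).symm (hv.coprime hy (Ne.symm hq))
  have hcard : Nat.card H = Nat.card (cent u : Subgroup G) := by
    refine Nat.eq_of_mul_eq_mul_right (show 0 < n * m by have := F.hn; have := F.hm; positivity) ?_
    conv_lhs => rw [← show H.index = n * m from hvsz', H.card_mul_index]
    rw [← show (cent u : Subgroup G).index = n * m from hsz, Subgroup.card_mul_index]
  obtain ⟨z, hzH, hz, hzZ⟩ := exists_noncentral_prim hu (F.noncentral_nm hsz) hcard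
  have hHz : H ≤ cent z := hp' _ z hrp hz hzH
  have hzm : sz z = m := by
    rcases F.sizes z with h | h | h | h
    · exact absurd (sz_eq_one.1 h) hzZ
    · exact absurd (F.symm.prime_eq_of_avoids hbr hb hrm hv hvsz hvav hz h) hrp
    · exact h
    · exfalso
      have e := TwoLargest.cent_eq_of_le hHz (by rw [hvsz', h])
      obtain ⟨b', hb', hc⟩ := exists_cls_commute' hz (hb ▸ hrm : ¬ _ ∣ sz b)
      exact hvav b' hb' (mem_cent_iff_commute.1 (e.ge (mem_cent_iff_commute.2 hc)))
  obtain ⟨u', hu', hc⟩ := exists_cls_commute hu (hzm ▸ hrm : ¬ _ ∣ sz z)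
  have hHcomm : ∀ x y : H, Commute x y := commute_all_of_parts (p := p)
    (fun q y hq hy => mem_center_iff.2 fun g => Subtype.ext (mem_cent.1
      (hp' q (y : G) hq ⟨hy.1, by obtain ⟨k, hk⟩ := hy.2; exact ⟨k, by rw [orderOf_coe]; exact hk⟩⟩ y.2 g.2)))
    (fun R hR x hx y hy => Subtype.ext (F.pgroup_comm (hu.of_mem_cls hu') hrp hp (Four.sz_of_cls hsz hu') hzm hc
      (hR.map H.subtype) (by rintro - ⟨x', -, rfl⟩; exact hHz x'.2) _ ⟨x, hx, rfl⟩ _ ⟨y, hy, rfl⟩).eq)
  obtain ⟨a', ha', hca⟩ := exists_cls_commute' hv (ha ▸ hp : ¬ p ∣ sz a)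
  have hle : H ≤ cent a' := fun g hg => mem_cent.2
    (congrArg Subtype.val (hHcomm ⟨g, hg⟩ ⟨a', mem_cent_iff_commute.2 hca⟩).eq)
  obtain ⟨b', hb', hcb⟩ := F.symm.exists_conj_commute_of_le (Four.sz_of_cls ha ha') hvsz hle hbr
    (F.commute_of_sizes (hap.of_mem_cls ha') hbr (Four.sz_of_cls ha ha') hb).symm hrm
  exact hvav b' hb' hcb

theorem Four.false_large (F : Four G n m) (hlt : n < m)
    (hno : ∀ (q : ℕ) (a : G), Prim q a → sz a = n → ¬ q ∣ m) {r : ℕ} {b : G} (hbr : Prim r b)
    (hb : sz b = m) (hrn : r ∣ n) : False := by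
  have hrm : ¬ r ∣ m := fun h => hbr.1.ne_one (Nat.eq_one_of_dvd_coprimes F.hcop hrn h)
  obtain ⟨p, a, hap, ha⟩ := F.exists_prim
  have hpm : ¬ p ∣ m := hno p a hap ha
  classical
  have hex : ∃ k, ∃ x, Avoids b x ∧ orderOf x = k := by
    obtain ⟨x, hx⟩ := exists_avoids (F.symm.noncentral hb)
    exact ⟨_, x, hx, rfl⟩
  obtain ⟨x, hav, hxo⟩ := Nat.find_spec hex
  have hmin : ∀ w, Avoids b w → orderOf x ≤ orderOf w := fun w hw => hxo ▸ Nat.find_le ⟨w, hw, rfl⟩
  have hx : sz x = n * m := (F.symm.sz_of_avoids hbr hb hrm hav).trans (mul_comm m n)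
  have key : ∀ (q : ℕ) (u w : G), x = u * w → Commute u w → u ∈ zpowers x → Prim q u →
      ¬ q ∣ orderOf w → u ≠ 1 → sz u = m := by
    intro q u w hxe hc humem hu hw hu1
    have hno' : ∀ b₁ ∈ cls b, Avoids b u ∨ sz u = m ∨ Commute b₁ u := by
      intro b₁ hb₁
      rcases F.sizes u with h | h | h | h
      · exact Or.inr (Or.inr (mem_center_iff.1 (sz_eq_one.1 h) b₁))
      · exact Or.inr (Or.inr (F.commute_of_sizes hu (hbr.of_mem_cls hb₁) h (Four.sz_of_cls hb hb₁)).symm)
      · exact Or.inr (Or.inl h)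
      · refine Or.inl fun b' hb' hc' => hav b' hb' ?_
        have e := TwoLargest.cent_eq_of_le (ClassGraph.cent_le_of_mem_zpowers humem) (by rw [hx, h])
        exact mem_cent_iff_commute.1 (e.ge (mem_cent_iff_commute.2 hc'))
    by_contra hne
    by_cases hua : Avoids b u
    · have hsz : sz u = m * n := F.symm.sz_of_avoids hbr hb hrm hua
      obtain rfl := F.symm.prime_eq_of_avoids hbr hb hrm hu hsz hua hap ha
      exact hpm (Four.prime_dvd_of_avoids hb hu hua)
    · have hall : ∀ b₁ ∈ cls b, Commute b₁ u := fun b₁ hb₁ => by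
        rcases hno' b₁ hb₁ with h | h | h
        · exact absurd h hua
        · exact absurd h hne
        · exact h
      have hwav : Avoids b w := fun b₁ hb₁ hc' => hav b₁ hb₁ (hxe ▸ (hall b₁ hb₁).mul_right hc')
      have h1 := hmin w hwav
      obtain ⟨hqp, k, hk⟩ := hu
      rw [hxe, hc.orderOf_mul_eq_mul_orderOf_of_coprime
        (hk ▸ Nat.Coprime.pow_left k (hqp.coprime_iff_not_dvd.2 hw))] at h1
      have h2 : orderOf u ≠ 1 := fun h => hu1 (orderOf_eq_one_iff.1 h)
      have h3 := orderOf_pos u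
      have h4 := orderOf_pos w
      have h5 := Nat.mul_le_mul_right (orderOf w) (show 2 ≤ orderOf u by omega)
      omega
  have hax : Commute a x := commute_of_parts fun q y hy hmem => by
    obtain ⟨u, w, hxe, hc, humem, -, hu, hw, hall⟩ := exists_part x hy.1
    refine Commute_of_mem_zpowers ?_ (hall y hmem hy)
    by_cases hu1 : u = 1
    · rw [hu1]; exact Commute.one_right a
    · exact F.commute_of_sizes hap hu ha (key q u w hxe hc humem hu hw hu1)
  obtain ⟨u, w, hxe, huw, humem, hwmem, hu, hw, -⟩ := exists_part x hap.1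
  by_cases hu1 : u = 1
  · rw [hu1, one_mul] at hxe
    have hco : (orderOf x).Coprime (orderOf a) := by
      obtain ⟨hpp, k, hk⟩ := hap
      rw [hk, hxe]
      exact (Nat.Coprime.pow_left k (hpp.coprime_iff_not_dvd.2 hw)).symm
    obtain ⟨b', hb', hc⟩ := F.symm.exists_conj_commute_of_le ha (hx.trans (mul_comm n m))
      (F.cent_le hx hax.symm hco) hbr (F.commute_of_sizes hap hbr ha hb).symm hrm
    exact hav b' hb' hc
  have hum : sz u = m := key p u w hxe huw humem hu hw hu1
  have hau : Commute a u := Commute_of_mem_zpowers hax humem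
  have hn1 := F.hn
  rcases F.sizes (a * u) with h | h | h | h
  · have h1 := TwoLargest.le_sz_mul_right (g := a) (h := u) (by rw [ha, hum]; exact F.hcop)
    rw [h, hum] at h1
    have := F.hm
    omega
  · have h1 := TwoLargest.le_sz_mul_right (g := a) (h := u) (by rw [ha, hum]; exact F.hcop)
    rw [h, hum] at h1
    omega
  · have hco : (sz a).Coprime (sz u) := by rw [ha, hum]; exact F.hcop
    refine F.noncentral ha (mem_center_iff.2 fun g => ?_)
    have ht := TwoLargest.trans_mem hco (by rw [h, hum]) g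
    have h1 : orderOf (a⁻¹ * (g * a * g⁻¹)) ∣ m :=
      (Subgroup.orderOf_dvd_natCard _ ht).trans (hum ▸ ClassGraph.card_stab_dvd u)
    have hta : Commute (a⁻¹ * (g * a * g⁻¹)) a :=
      mem_cent_iff_commute.1 (ClassGraph.stab_le_centralizer hco ht)
    have hga : Commute a (g * a * g⁻¹) := by
      have := (Commute.refl a).mul_right hta.symm
      rwa [mul_inv_cancel_left] at this
    obtain ⟨-, k, hk⟩ := hap.inv.mul (hap.conj g) hga.inv_left
    have h2 : a⁻¹ * (g * a * g⁻¹) = 1 := orderOf_eq_one_iff.1 (Nat.eq_one_of_dvd_coprimes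
      (Nat.Coprime.pow_left k (hap.1.coprime_iff_not_dvd.2 hpm)) (dvd_of_eq hk) h1)
    exact mul_inv_eq_iff_eq_mul.1 (inv_mul_eq_one.1 h2).symm
  · obtain ⟨b', hb', hcb⟩ := exists_cls_commute hbr (hum ▸ hrm : ¬ r ∣ sz u)
    have hba : Commute b' a :=
      (F.commute_of_sizes hap (hbr.of_mem_cls hb') ha (Four.sz_of_cls hb hb')).symm
    have hwa : Commute w a := (Commute_of_mem_zpowers hax hwmem).symm
    have hwy : Commute (a * u) w := (hwa.mul_right huw.symm).symm
    obtain ⟨hpp, k, hk⟩ := hap.mul hu hau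
    have hle := F.cent_le h hwy (by rw [hk]; exact Nat.Coprime.pow_left k (hpp.coprime_iff_not_dvd.2 hw))
    have hbw : Commute b' w :=
      mem_cent_iff_commute.1 (hle (mem_cent_iff_commute.2 (hba.mul_right hcb)))
    exact hav b' hb' (hxe ▸ hcb.mul_right hbw)

theorem Four.not_dvd_prim (F : Four G n m) {p : ℕ} {a : G} (hap : Prim p a) (ha : sz a = n) : ¬ p ∣ m := by
  intro hpm
  rcases lt_or_gt_of_ne F.ne with h | h
  · exact F.false_small h hap ha hpm
  · exact F.symm.false_large h (fun q b hb hbs hq => F.symm.false_small h hb hbs hq) hap ha hpm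

end Cfsg.Agent.FourSizes
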