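import Cfsg.Agent.Lib.TwoPrimes.Basic

/-!
# Two primes at distance at least four in Bertrand's interval (owner: helper75)

`exists_gap_primes`: for `9 ≤ n` there are primes `n < p`, `p + 4 ≤ q ≤ 2 n`.
-/

namespace Cfsg.Agent.TwoPrimesGap

open Nat

theorem centralBinom_le_of_primes (n : ℕ) (n_large : 2 < n) (T : Finset ℕ) (hT : T.card ≤ 2)
    (h : ∀ p : ℕ, p.Prime → n < p → p ≤ 2 * n → p ∈ T) (hTn : ∀ p ∈ T, n < p ∧ p ≤ 2 * n) :
    centralBinom n ≤ (2 * n) ^ 2 * ((2 * n) ^ sqrt (2 * n) * 4 ^ (2 * n / 3)) := by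
  have n_pos : 0 < n := (Nat.zero_le _).trans_lt n_large
  have n2_pos : 1 ≤ 2 * n := Nat.mul_pos two_pos n_pos
  let f x := x ^ n.centralBinom.factorization x
  let A := T ∪ Finset.range (2 * n / 3 + 1)
  have hA : centralBinom n = ∏ p ∈ A, f p := by
    refine (Eq.trans ?_ n.prod_pow_factorization_centralBinom).symm
    apply Finset.prod_subset
    · intro x hx
      simp only [A, Finset.mem_union, Finset.mem_range] at hx
      rw [Finset.mem_range]
      rcases hx with hx | hx
      · have := hTn x hx; omega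
      · omega
    intro x hx h2x
    simp only [A, Finset.mem_union, Finset.mem_range, not_or, not_lt] at h2x
    rw [Finset.mem_range] at hx
    show x ^ _ = 1
    by_cases hxp : x.Prime
    · by_cases hxn : x ≤ n
      · rw [factorization_centralBinom_of_two_mul_self_lt_three_mul n_large hxn (by omega), pow_zero]
      · exact absurd (h x hxp (by omega) (by omega)) h2x.1
    · rw [factorization_eq_zero_of_not_prime n.centralBinom hxp, pow_zero]
  have hdisj : Disjoint T (Finset.range (2 * n / 3 + 1)) := by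
    rw [Finset.disjoint_left]
    intro x hx hx'
    rw [Finset.mem_range] at hx'
    have := hTn x hx
    omega
  rw [hA, Finset.prod_union hdisj]
  refine Nat.mul_le_mul ?_ ?_
  · refine (Finset.prod_le_prod' fun p _ => (?_ : f p ≤ 2 * n)).trans ?_
    · exact pow_factorization_choose_le (Nat.mul_pos two_pos n_pos)
    rw [Finset.prod_const]
    exact pow_right_mono₀ n2_pos hT
  let S := {p ∈ Finset.range (2 * n / 3 + 1) | Nat.Prime p}
  have : ∏ x ∈ S, f x = ∏ x ∈ Finset.range (2 * n / 3 + 1), f x := by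
    refine Finset.prod_filter_of_ne fun p _ h => ?_
    contrapose h; dsimp only [f]
    rw [factorization_eq_zero_of_not_prime n.centralBinom h, pow_zero]
  rw [← this, ← Finset.prod_filter_mul_prod_filter_not S (· ≤ sqrt (2 * n))]
  apply mul_le_mul'
  · refine (Finset.prod_le_prod' fun p _ => (?_ : f p ≤ 2 * n)).trans ?_
    · exact pow_factorization_choose_le (Nat.mul_pos two_pos n_pos)
    have : (Finset.Icc 1 (sqrt (2 * n))).card = sqrt (2 * n) := by rw [Nat.card_Icc, Nat.add_sub_cancel]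
    rw [Finset.prod_const]
    refine pow_right_mono₀ n2_pos ((Finset.card_le_card fun x hx => ?_).trans this.le)
    obtain ⟨h1, h2⟩ := Finset.mem_filter.1 hx
    exact Finset.mem_Icc.mpr ⟨(Finset.mem_filter.1 h1).2.one_lt.le, h2⟩
  · refine le_trans ?_ (primorial_le_four_pow (2 * n / 3))
    refine (Finset.prod_le_prod' fun p hp => (?_ : f p ≤ p)).trans ?_
    · obtain ⟨h1, h2⟩ := Finset.mem_filter.1 hp
      refine (pow_right_mono₀ (Finset.mem_filter.1 h1).2.one_lt.le ?_).trans (pow_one p).le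
      exact Nat.factorization_choose_le_one (sqrt_lt'.mp <| not_le.1 h2)
    refine Finset.prod_le_prod_of_subset_of_one_le' (Finset.filter_subset _ _) ?_
    exact fun p hp _ => (Finset.mem_filter.1 hp).2.one_lt.le

theorem main_inequality {n : ℕ} (hn : 8192 ≤ n) :
    n * ((2 * n) ^ 2 * ((2 * n) ^ sqrt (2 * n) * 4 ^ (2 * n / 3))) ≤ 4 ^ n := by
  set s := sqrt (2 * n) with hs
  have hs128 : 128 ≤ s := by rw [hs, Nat.le_sqrt]; omega
  have hk : 2 * n ≤ 2 ^ (2 * (s / 16)) := by
    have h1 : 2 * n < (s + 1) * (s + 1) := Nat.lt_succ_sqrt _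
    have h2 := Nat.mul_le_mul (TwoPrimes.succ_le_two_pow_div hs128) (TwoPrimes.succ_le_two_pow_div hs128)
    rw [← pow_add, ← two_mul] at h2
    omega
  have hsq : s * s ≤ 2 * n := Nat.sqrt_le _
  have h16 : 16 * (s / 16) ≤ s := Nat.mul_div_le s 16
  have hexp : s / 16 * (s + 3) + 2 * n / 3 ≤ n := by
    have h4 : 16 * (s / 16) * (s + 3) ≤ s * (s + 3) := Nat.mul_le_mul_right _ h16
    have h5 : 3 * (s * (s + 3)) ≤ 8 * (s * s) := by nlinarith
    have h6 : 48 * (s / 16 * (s + 3)) ≤ 16 * n := by nlinarith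
    omega
  calc n * ((2 * n) ^ 2 * ((2 * n) ^ s * 4 ^ (2 * n / 3)))
      ≤ (2 * n) * ((2 * n) ^ 2 * ((2 * n) ^ s * 4 ^ (2 * n / 3))) := Nat.mul_le_mul_right _ (by omega)
    _ = (2 * n) ^ (s + 3) * 4 ^ (2 * n / 3) := by ring
    _ ≤ (2 ^ (2 * (s / 16))) ^ (s + 3) * 4 ^ (2 * n / 3) :=
        Nat.mul_le_mul_right _ (Nat.pow_le_pow_left hk _)
    _ = 4 ^ (s / 16 * (s + 3) + 2 * n / 3) := by
        rw [pow_mul, show (2 : ℕ) ^ 2 = 4 from rfl, ← pow_mul, ← pow_add]
    _ ≤ 4 ^ n := Nat.pow_le_pow_right (by norm_num) hexp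

theorem gap_step (lo hi p q : ℕ) (hp : p.Prime) (hq : q.Prime) (hne : p + 4 ≤ q) (h1 : hi ≤ p)
    (h2 : q ≤ 2 * lo) {m : ℕ}
    (H : m < lo → ∃ p q : ℕ, p.Prime ∧ q.Prime ∧ m < p ∧ p + 4 ≤ q ∧ q ≤ 2 * m) (hm : m < hi) :
    ∃ p q : ℕ, p.Prime ∧ q.Prime ∧ m < p ∧ p + 4 ≤ q ∧ q ≤ 2 * m := by
  by_cases hlo : m < lo
  · exact H hlo
  · exact ⟨p, q, hp, hq, by omega, hne, by omega⟩

/-- For `9 ≤ m` there are primes `m < p` and `p + 4 ≤ q ≤ 2 m`. -/
theorem exists_gap_primes (m : ℕ) (hm : 9 ≤ m) :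
    ∃ p q : ℕ, p.Prime ∧ q.Prime ∧ m < p ∧ p + 4 ≤ q ∧ q ≤ 2 * m := by
  by_cases hlarge : 8192 ≤ m
  · by_contra hc
    push Not at hc
    let T := (Finset.Icc (m + 1) (2 * m)).filter Nat.Prime
    have hmem : ∀ p, p ∈ T ↔ (m < p ∧ p ≤ 2 * m) ∧ p.Prime := fun p => by
      simp [T, Nat.add_one_le_iff]
    have hT : T.card ≤ 2 := by
      by_contra h
      obtain ⟨a, ha, b, hb, c, hc', hab, hac, hbc⟩ := Finset.two_lt_card.1 (by omega : 2 < T.card)
      rw [hmem] at ha hb hc'
      have hodd : ∀ x : ℕ, x.Prime → m < x → x % 2 = 1 := fun x hx hlt =>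
        (hx.eq_two_or_odd).resolve_left (by omega)
      have := hodd a ha.2 ha.1.1
      have := hodd b hb.2 hb.1.1
      have := hodd c hc'.2 hc'.1.1
      have k : ∀ u v : ℕ, u.Prime → v.Prime → m < u → v ≤ 2 * m → v < u + 4 := by
        intro u v hu hv hu' hv'
        by_contra hh
        have := hc u v hu hv hu' (by omega)
        omega
      have := k a b ha.2 hb.2 ha.1.1 hb.1.2
      have := k b a hb.2 ha.2 hb.1.1 ha.1.2
      have := k a c ha.2 hc'.2 ha.1.1 hc'.1.2
      have := k c a hc'.2 ha.2 hc'.1.1 ha.1.2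
      have := k b c hb.2 hc'.2 hb.1.1 hc'.1.2
      have := k c b hc'.2 hb.2 hc'.1.1 hb.1.2
      omega
    have h1 := centralBinom_le_of_primes m (by omega) T hT
      (fun p hp h h' => (hmem p).2 ⟨⟨h, h'⟩, hp⟩) (fun p hp => ((hmem p).1 hp).1)
    have h2 := Nat.four_pow_lt_mul_centralBinom m (by omega)
    have h3 := main_inequality hlarge
    have h4 := Nat.mul_le_mul_left m h1
    omega
  · refine gap_step 5443 8192 10867 10883 (by norm_num1) (by norm_num1) (by norm_num1) (by norm_num1)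
      (by norm_num1) ?_ (by omega)
    refine gap_step 2731 5443 5443 5449 (by norm_num1) (by norm_num1) (by norm_num1) (by norm_num1)
      (by norm_num1) ?_
    refine gap_step 1373 2731 2731 2741 (by norm_num1) (by norm_num1) (by norm_num1) (by norm_num1)
      (by norm_num1) ?_
    refine gap_step 691 1373 1373 1381 (by norm_num1) (by norm_num1) (by norm_num1) (by norm_num1)
      (by norm_num1) ?_
    refine gap_step 353 691 691 701 (by norm_num1) (by norm_num1) (by norm_num1) (by norm_num1)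
      (by norm_num1) ?_
    refine gap_step 181 353 353 359 (by norm_num1) (by norm_num1) (by norm_num1) (by norm_num1)
      (by norm_num1) ?_
    refine gap_step 97 181 181 193 (by norm_num1) (by norm_num1) (by norm_num1) (by norm_num1)
      (by norm_num1) ?_
    refine gap_step 53 97 97 103 (by norm_num1) (by norm_num1) (by norm_num1) (by norm_num1)
      (by norm_num1) ?_
    refine gap_step 31 53 53 61 (by norm_num1) (by norm_num1) (by norm_num1) (by norm_num1)
      (by norm_num1) ?_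
    refine gap_step 19 31 31 37 (by norm_num1) (by norm_num1) (by norm_num1) (by norm_num1)
      (by norm_num1) ?_
    refine gap_step 13 19 19 23 (by norm_num1) (by norm_num1) (by norm_num1) (by norm_num1)
      (by norm_num1) ?_
    refine gap_step 9 13 13 17 (by norm_num1) (by norm_num1) (by norm_num1) (by norm_num1)
      (by norm_num1) ?_
    omega

end Cfsg.Agent.TwoPrimesGap
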