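import Cfsg.Agent.EqLemmas
import Cfsg.Agent.Lib.SubgroupCount.Basic
import Cfsg.Agent.Lib.PGroup.MaximalClass
import Cfsg.Agent.S0841

/-!
# Kulakoff's congruence (owner: helper75)

* `card_between`: subgroups of given index above a normal subgroup of a `p`-group, mod `p`
* `sum_over_maximal`: enumeration principle modulo `p ^ 2`
* `kulakoff`: the number of subgroups of order `p ^ k` modulo `p ^ 2`
-/

set_option autoImplicit false

open Subgroup
open scoped commutatorElement

namespace Cfsg.Agent.Kulakoff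

universe u

section basic
variable {G : Type u} [Group G] [Finite G] {p : ℕ} [hp : Fact p.Prime]

/-- number of subgroups of order `p ^ k` -/
noncomputable def sk (G : Type u) [Group G] (p k : ℕ) : ℕ :=
  Nat.card {H : Subgroup G // Nat.card H = p ^ k}

theorem sk_eq_filter [Fintype (Subgroup G)] (M : Subgroup G) (k : ℕ)
    [DecidablePred fun H : Subgroup G => H ≤ M ∧ Nat.card H = p ^ k] :
    sk M p k = (Finset.univ.filter fun H : Subgroup G => H ≤ M ∧ Nat.card H = p ^ k).card := by
  have e : sk M p k = Nat.card {H : Subgroup G // H ≤ M ∧ Nat.card H = p ^ k} := by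
    refine Nat.card_congr
      { toFun := fun H => ⟨H.1.map M.subtype, map_subtype_le _, by
          rw [card_map_of_injective M.subtype_injective, H.2]⟩
        invFun := fun H => ⟨H.1.subgroupOf M, by
          rw [Nat.card_congr (subgroupOfEquivOfLe H.2.1).toEquiv, H.2.2]⟩
        left_inv := fun H => Subtype.ext (comap_map_eq_self_of_injective M.subtype_injective _)
        right_inv := fun H => Subtype.ext (by
          show (H.1.subgroupOf M).map M.subtype = H.1
          rw [subgroupOf_map_subtype, inf_eq_left.2 H.2.1]) }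
  rw [e, Nat.card_eq_fintype_card, Fintype.card_subtype]

/-- Subgroups of given index above a normal subgroup of a `p`-group. -/
theorem card_between (A : Subgroup G) [A.Normal] {e s : ℕ} (hA : A.index = p ^ e) (hs : s ≤ e) :
    Nat.card {K : Subgroup G // A ≤ K ∧ K.index = p ^ s} ≡ 1 [MOD p] := by
  haveI := hp
  have hQ : Nat.card (G ⧸ A) = p ^ e := by rw [← index_eq_card, hA]
  have hcomap : ∀ S : Subgroup (G ⧸ A), (S.comap (QuotientGroup.mk' A)).index = S.index :=
    fun S => index_comap_of_surjective S (QuotientGroup.mk'_surjective A)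
  have hiff : ∀ S : Subgroup (G ⧸ A), S.index = p ^ s ↔ Nat.card S = p ^ (e - s) := by
    intro S
    have h := S.card_mul_index
    rw [hQ, show p ^ e = p ^ (e - s) * p ^ s by rw [← pow_add, Nat.sub_add_cancel hs]] at h
    constructor
    · intro e1; rw [e1] at h; exact Nat.eq_of_mul_eq_mul_right (pow_pos hp.out.pos _) h
    · intro e1; rw [e1] at h; exact Nat.eq_of_mul_eq_mul_left (pow_pos hp.out.pos _) h
  have e1 : Nat.card {K : Subgroup G // A ≤ K ∧ K.index = p ^ s} =
      Nat.card {S : Subgroup (G ⧸ A) // Nat.card S = p ^ (e - s)} := by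
    have hback : ∀ K : Subgroup G, A ≤ K → (K.map (QuotientGroup.mk' A)).comap (QuotientGroup.mk' A) = K :=
      fun K hK => comap_map_eq_self (by rw [QuotientGroup.ker_mk']; exact hK)
    refine Nat.card_congr
      { toFun := fun K => ⟨K.1.map (QuotientGroup.mk' A), (hiff _).1 (by
          rw [← hcomap, hback K.1 K.2.1]; exact K.2.2)⟩
        invFun := fun S => ⟨S.1.comap (QuotientGroup.mk' A), by
            exact le_trans (le_of_eq (QuotientGroup.ker_mk' A).symm)
              ((QuotientGroup.mk' A).ker_le_comap S.1), by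
            rw [hcomap]; exact (hiff _).2 S.2⟩
        left_inv := fun K => Subtype.ext (hback K.1 K.2.1)
        right_inv := fun S => Subtype.ext
          (map_comap_eq_self_of_surjective (QuotientGroup.mk'_surjective A) _) }
  rw [e1]
  exact SubgroupCount.card_subgroup_prime_pow_modEq_one hp.out
    (hQ ▸ pow_dvd_pow p (Nat.sub_le e s))

theorem normal_of_commutator_le {K : Subgroup G} (h : _root_.commutator G ≤ K) : K.Normal :=
  Subgroup.Normal.of_commutator_le (G := G) (H := K) h

theorem normal_of_index_p (hG : IsPGroup p G) {M : Subgroup G} (hM : M.index = p) : M.Normal := by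
  refine PGroup.isCoatom_normal hG ⟨fun h => hp.out.ne_one (by rw [← hM, h, index_top]), fun N hN => ?_⟩
  have h1 : N.index ∣ p := hM ▸ index_dvd_of_le hN.le
  rcases (Nat.dvd_prime hp.out).1 h1 with h2 | h2
  · exact index_eq_one.1 h2
  · refine absurd ?_ hN.ne
    refine Subgroup.eq_of_le_of_card_ge hN.le (le_of_eq ?_)
    have e1 := N.card_mul_index
    have e2 := M.card_mul_index
    rw [h2, ← e2, hM] at e1
    exact Nat.eq_of_mul_eq_mul_right hp.out.pos e1

theorem isCoatom_of_index_p (hG : IsPGroup p G) {M : Subgroup G} (hM : M.index = p) : IsCoatom M := by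
  refine ⟨fun h => hp.out.ne_one (by rw [← hM, h, index_top]), fun N hN => ?_⟩
  have h1 : N.index ∣ p := hM ▸ index_dvd_of_le hN.le
  rcases (Nat.dvd_prime hp.out).1 h1 with h2 | h2
  · exact index_eq_one.1 h2
  · refine absurd ?_ hN.ne
    refine Subgroup.eq_of_le_of_card_ge hN.le (le_of_eq ?_)
    have e1 := N.card_mul_index
    have e2 := M.card_mul_index
    rw [h2, ← e2, hM] at e1
    exact Nat.eq_of_mul_eq_mul_right hp.out.pos e1

/-- In a group of order `p ^ 2` and exponent `p` above a subgroup: the subgroups of index `p`. -/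
theorem card_above_sq (hG : IsPGroup p G) {L : Subgroup G} (hL : frattini G ≤ L) (hi : L.index = p ^ 2) :
    Nat.card {M : Subgroup G // L ≤ M ∧ M.index = p} = p + 1 := by
  haveI : L.Normal := normal_of_commutator_le ((PGroup.commutator_le_frattini hG).trans hL)
  have hQ : Nat.card (G ⧸ L) = p ^ 2 := by rw [← index_eq_card, hi]
  have he : ∀ q : G ⧸ L, q ^ p = 1 := by
    intro q
    obtain ⟨g, rfl⟩ := QuotientGroup.mk_surjective q
    rw [← QuotientGroup.mk_pow]
    exact (QuotientGroup.eq_one_iff _).2 (hL (PGroup.pow_mem_frattini hG g))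
  rw [← PGroup.card_order_p_of_sq hQ he]
  have hcomap : ∀ S : Subgroup (G ⧸ L), (S.comap (QuotientGroup.mk' L)).index = S.index :=
    fun S => index_comap_of_surjective S (QuotientGroup.mk'_surjective L)
  have hiff : ∀ S : Subgroup (G ⧸ L), S.index = p ↔ Nat.card S = p := by
    intro S
    have h := S.card_mul_index
    rw [hQ, sq] at h
    constructor
    · intro e; rw [e] at h; exact Nat.eq_of_mul_eq_mul_right hp.out.pos h
    · intro e; rw [e] at h; exact Nat.eq_of_mul_eq_mul_left hp.out.pos h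
  have hback : ∀ K : Subgroup G, L ≤ K → (K.map (QuotientGroup.mk' L)).comap (QuotientGroup.mk' L) = K :=
    fun K hK => comap_map_eq_self (by rw [QuotientGroup.ker_mk']; exact hK)
  refine Nat.card_congr
    { toFun := fun K => ⟨K.1.map (QuotientGroup.mk' L), (hiff _).1 (by
        rw [← hcomap, hback K.1 K.2.1]; exact K.2.2)⟩
      invFun := fun S => ⟨S.1.comap (QuotientGroup.mk' L), by
          exact le_trans (le_of_eq (QuotientGroup.ker_mk' L).symm)
            ((QuotientGroup.mk' L).ker_le_comap S.1), by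
          rw [hcomap]; exact (hiff _).2 S.2⟩
      left_inv := fun K => Subtype.ext (hback K.1 K.2.1)
      right_inv := fun S => Subtype.ext
        (map_comap_eq_self_of_surjective (QuotientGroup.mk'_surjective L) _) }

/-- The index-`p` subgroups above `A ⊇ Φ(G)`, modulo `p ^ 2`. -/
theorem card_max_above (hG : IsPGroup p G) {A : Subgroup G} (hA : frattini G ≤ A) {e : ℕ}
    (he : A.index = p ^ e) (he2 : 2 ≤ e) :
    Nat.card {M : Subgroup G // A ≤ M ∧ M.index = p} ≡ 1 + p [MOD p ^ 2] := by
  classical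
  haveI := Fintype.ofFinite (Subgroup G)
  haveI hAn : A.Normal := normal_of_commutator_le ((PGroup.commutator_le_frattini hG).trans hA)
  obtain ⟨⟨M₀, hAM, hM₀⟩⟩ : Nonempty {M : Subgroup G // A ≤ M ∧ M.index = p} := by
    by_contra hempty
    haveI := not_nonempty_iff.1 hempty
    have h := card_between (p := p) A (s := 1) he (by omega)
    rw [pow_one, Nat.card_of_isEmpty] at h
    rw [Nat.ModEq, Nat.zero_mod, Nat.mod_eq_of_lt hp.out.one_lt] at h
    exact zero_ne_one h
  let S := (Finset.univ.filter fun M : Subgroup G => A ≤ M ∧ M.index = p).erase M₀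
  let T := Finset.univ.filter fun L : Subgroup G => A ≤ L ∧ L ≤ M₀ ∧ L.index = p ^ 2
  have hmap : ∀ M ∈ S, M ⊓ M₀ ∈ T := by
    intro M hM
    simp only [S, Finset.mem_erase, Finset.mem_filter, Finset.mem_univ, true_and] at hM
    obtain ⟨hne, hAMl, hMi⟩ := hM
    simp only [T, Finset.mem_filter, Finset.mem_univ, true_and]
    refine ⟨le_inf hAMl hAM, inf_le_right, ?_⟩
    haveI := normal_of_index_p hG hM₀
    haveI := normal_of_index_p hG hMi
    have hsup : M ⊔ M₀ = ⊤ := by
      rcases (le_sup_right : M₀ ≤ M ⊔ M₀).eq_or_lt with h | h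
      · exfalso
        have hle : M ≤ M₀ := h ▸ le_sup_left
        exact hne (Subgroup.eq_of_le_of_card_ge hle (by
          have e1 := M.card_mul_index
          have e2 := M₀.card_mul_index
          rw [hMi, ← e2, hM₀] at e1
          exact (Nat.eq_of_mul_eq_mul_right hp.out.pos e1).ge))
      · exact (isCoatom_of_index_p hG hM₀).2 _ h
    have h1 : M₀.relIndex M = p := by
      rw [← Subgroup.relIndex_sup_right, hsup, relIndex_top_right, hM₀]
    rw [← relIndex_top_right, ← relIndex_mul_relIndex (M ⊓ M₀) M ⊤ inf_le_left le_top,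
      inf_relIndex_left, h1, relIndex_top_right, hMi, sq]
  have hfib : ∀ L ∈ T, (S.filter fun M => M ⊓ M₀ = L).card = p := by
    intro L hL
    simp only [T, Finset.mem_filter, Finset.mem_univ, true_and] at hL
    obtain ⟨hAL, hLM, hLi⟩ := hL
    have hcount := card_above_sq hG (hA.trans hAL) hLi
    rw [Nat.card_eq_fintype_card, Fintype.card_subtype] at hcount
    have e : (S.filter fun M => M ⊓ M₀ = L) =
        (Finset.univ.filter fun M : Subgroup G => L ≤ M ∧ M.index = p).erase M₀ := by
      ext M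
      simp only [S, Finset.mem_filter, Finset.mem_erase, Finset.mem_univ, true_and]
      constructor
      · rintro ⟨⟨hne, -, hMi⟩, rfl⟩
        exact ⟨hne, inf_le_left, hMi⟩
      · rintro ⟨hne, hLM', hMi⟩
        refine ⟨⟨hne, hAL.trans hLM', hMi⟩, ?_⟩
        have hm := hmap M (by
          simp only [S, Finset.mem_erase, Finset.mem_filter, Finset.mem_univ, true_and]
          exact ⟨hne, hAL.trans hLM', hMi⟩)
        simp only [T, Finset.mem_filter, Finset.mem_univ, true_and] at hm
        refine (Subgroup.eq_of_le_of_card_ge (le_inf hLM' hLM) ?_).symm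
        have e1 := L.card_mul_index
        have e2 := (M ⊓ M₀).card_mul_index
        rw [hLi, ← e2, hm.2.2] at e1
        exact (Nat.eq_of_mul_eq_mul_right (pow_pos hp.out.pos 2) e1).ge
    rw [e, Finset.card_erase_of_mem (by simp [hLM, hM₀]), hcount]
    omega
  have hT : T.card ≡ 1 [MOD p] := by
    have hS₀ : IsPGroup p M₀ := hG.to_subgroup M₀
    haveI : (A.subgroupOf M₀).Normal := hAn.comap _
    have hidx : (A.subgroupOf M₀).index = p ^ (e - 1) := by
      refine Nat.eq_of_mul_eq_mul_right hp.out.pos ?_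
      rw [← pow_succ, show e - 1 + 1 = e by omega, ← he]
      show A.relIndex M₀ * p = A.index
      rw [← hM₀]
      exact relIndex_mul_index hAM
    have h := card_between (p := p) (A.subgroupOf M₀) (s := 1) hidx (by omega)
    have e1 : Nat.card {K : Subgroup M₀ // A.subgroupOf M₀ ≤ K ∧ K.index = p ^ 1} = T.card := by
      have : Nat.card {K : Subgroup M₀ // A.subgroupOf M₀ ≤ K ∧ K.index = p ^ 1} =
          Nat.card {L : Subgroup G // A ≤ L ∧ L ≤ M₀ ∧ L.index = p ^ 2} := by
        refine Nat.card_congr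
          { toFun := fun K => ⟨K.1.map M₀.subtype, fun a ha => ⟨⟨a, hAM ha⟩, K.2.1 ha, rfl⟩,
              map_subtype_le _, by
              rw [index_map_subtype, K.2.2, hM₀, pow_one, sq]⟩
            invFun := fun L => ⟨L.1.subgroupOf M₀, fun a ha => L.2.1 ha, by
              refine Nat.eq_of_mul_eq_mul_right hp.out.pos ?_
              refine Eq.trans ?_ (L.2.2.2.trans (by rw [pow_one, sq]))
              show L.1.relIndex M₀ * p = L.1.index
              exact (congrArg (L.1.relIndex M₀ * ·) hM₀.symm).trans (relIndex_mul_index L.2.2.1)⟩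
            left_inv := fun K => Subtype.ext (comap_map_eq_self_of_injective M₀.subtype_injective _)
            right_inv := fun L => Subtype.ext (by
              show (L.1.subgroupOf M₀).map M₀.subtype = L.1
              rw [subgroupOf_map_subtype, inf_eq_left.2 L.2.2.1]) }
      rw [this, Nat.card_eq_fintype_card, Fintype.card_subtype]
    rwa [e1] at h
  have hS : S.card = T.card * p := by
    rw [Finset.card_eq_sum_card_fiberwise hmap, Finset.sum_eq_card_nsmul hfib, smul_eq_mul]
  have htot : Nat.card {M : Subgroup G // A ≤ M ∧ M.index = p} = S.card + 1 := by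
    rw [Nat.card_eq_fintype_card, Fintype.card_subtype, Finset.card_erase_add_one]
    simp [hAM, hM₀]
  rw [htot, hS, add_comm]
  refine Nat.ModEq.add_left 1 ?_
  have h := hT.mul_right' p
  rwa [one_mul, ← sq] at h

theorem frattini_index (hG : IsPGroup p G) (hnc : ¬ IsCyclic G) :
    ∃ e, 2 ≤ e ∧ (frattini G).index = p ^ e := by
  obtain ⟨e, he⟩ := hG.index (frattini G)
  refine ⟨e, ?_, he⟩
  by_contra hlt
  apply hnc
  rcases Nat.eq_zero_or_pos e with rfl | hpos
  · rw [pow_zero, index_eq_one] at he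
    exact PGroup.isCyclic_of_sup_frattini (x := 1) (by rw [he, sup_top_eq])
  · obtain rfl : e = 1 := by omega
    rw [pow_one] at he
    obtain ⟨x, hx⟩ : ∃ x, x ∉ frattini G := by
      by_contra h
      push Not at h
      rw [(eq_top_iff' _).2 h, index_top] at he
      exact hp.out.ne_one he.symm
    refine PGroup.isCyclic_of_sup_frattini (x := x) ((isCoatom_of_index_p hG he).2 _ ?_)
    refine lt_of_le_of_ne le_sup_right fun h => hx ?_
    rw [h]
    exact le_sup_left (b := frattini G) (mem_zpowers x)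

theorem card_max (hG : IsPGroup p G) (hnc : ¬ IsCyclic G) :
    Nat.card {M : Subgroup G // M.index = p} ≡ 1 + p [MOD p ^ 2] := by
  obtain ⟨e, he2, he⟩ := frattini_index hG hnc
  have := card_max_above hG le_rfl he he2
  have e1 : Nat.card {M : Subgroup G // frattini G ≤ M ∧ M.index = p} =
      Nat.card {M : Subgroup G // M.index = p} :=
    Nat.card_congr (Equiv.subtypeEquivRight fun M =>
      ⟨fun h => h.2, fun h => ⟨frattini_le_coatom (isCoatom_of_index_p hG h), h⟩⟩)
  rwa [e1] at this

/-- The enumeration principle modulo `p ^ 2`. -/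
theorem sum_over_maximal [Fintype {M : Subgroup G // M.index = p}] {m k : ℕ}
    (hG : Nat.card G = p ^ m) (hnc : ¬ IsCyclic G) (hk : k + 2 ≤ m) :
    (∑ M : {M : Subgroup G // M.index = p}, sk M.1 p k) ≡ sk G p k + p [MOD p ^ 2] := by
  classical
  haveI := Fintype.ofFinite (Subgroup G)
  have hP : IsPGroup p G := IsPGroup.of_card hG
  let Mx := Finset.univ.filter fun M : Subgroup G => M.index = p
  let Two := Finset.univ.filter fun K : Subgroup G => frattini G ≤ K ∧ K.index = p ^ 2
  let Hs := Finset.univ.filter fun H : Subgroup G => Nat.card H = p ^ k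
  let c : Subgroup G → ℕ := fun H => (Mx.filter fun M => H ≤ M).card
  let n2 : Subgroup G → ℕ := fun H => (Two.filter fun K => H ≤ K).card
  -- the two counts above a proper subgroup
  have hlocal : ∀ H ∈ Hs, c H ≡ 1 + p * n2 H [MOD p ^ 2] := by
    intro H hH
    simp only [Hs, Finset.mem_filter, Finset.mem_univ, true_and] at hH
    set A := H ⊔ frattini G with hA
    haveI : A.Normal := normal_of_commutator_le ((PGroup.commutator_le_frattini hP).trans le_sup_right)
    obtain ⟨e, he⟩ := hP.index A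
    have he0 : e ≠ 0 := fun h => by
      rw [h, pow_zero, index_eq_one] at he
      rw [PGroup.eq_top_of_sup_frattini he, card_top, hG] at hH
      have := Nat.pow_right_injective hp.out.two_le hH
      omega
    have hc : c H = Nat.card {M : Subgroup G // A ≤ M ∧ M.index = p} := by
      rw [Nat.card_eq_fintype_card, Fintype.card_subtype]
      refine congrArg Finset.card (Finset.ext fun M => ?_)
      simp only [Mx, Finset.mem_filter, Finset.mem_univ, true_and]
      exact ⟨fun h => ⟨sup_le h.2 (frattini_le_coatom (isCoatom_of_index_p hP h.1)), h.1⟩,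
        fun h => ⟨h.2, le_sup_left.trans h.1⟩⟩
    have hn2 : n2 H = Nat.card {K : Subgroup G // A ≤ K ∧ K.index = p ^ 2} := by
      rw [Nat.card_eq_fintype_card, Fintype.card_subtype]
      refine congrArg Finset.card (Finset.ext fun K => ?_)
      simp only [Two, Finset.mem_filter, Finset.mem_univ, true_and]
      exact ⟨fun h => ⟨sup_le h.2 h.1.1, h.1.2⟩,
        fun h => ⟨⟨le_sup_right.trans h.1, h.2⟩, le_sup_left.trans h.1⟩⟩
    by_cases he2 : 2 ≤ e
    · rw [hc, hn2]
      refine (card_max_above hP le_sup_right he he2).trans (Nat.ModEq.add_left 1 ?_)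
      have h := (card_between (p := p) A he he2).symm.mul_left' p
      rwa [mul_one, ← sq] at h
    · obtain rfl : e = 1 := by omega
      rw [pow_one] at he
      have h1 : n2 H = 0 := by
        rw [hn2]
        have : IsEmpty {K : Subgroup G // A ≤ K ∧ K.index = p ^ 2} := ⟨fun K => by
          have := Nat.le_of_dvd hp.out.pos (he ▸ K.2.2 ▸ index_dvd_of_le K.2.1)
          have h2 := hp.out.one_lt
          nlinarith⟩
        exact Nat.card_of_isEmpty
      have h2 : c H = 1 := by
        rw [hc, Nat.card_eq_one_iff_unique]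
        refine ⟨⟨fun M N => ?_⟩, ⟨⟨A, le_rfl, he⟩⟩⟩
        have hM : A = M.1 := by
          rcases M.2.1.eq_or_lt with h | h
          · exact h
          · exact absurd ((isCoatom_of_index_p hP he).2 _ h) fun ht =>
              hp.out.ne_one (by rw [← M.2.2, ht, index_top])
        have hN : A = N.1 := by
          rcases N.2.1.eq_or_lt with h | h
          · exact h
          · exact absurd ((isCoatom_of_index_p hP he).2 _ h) fun ht =>
              hp.out.ne_one (by rw [← N.2.2, ht, index_top])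
        exact Subtype.ext (hM.symm.trans hN)
      rw [h1, h2, mul_zero, add_zero]
  -- double counting
  have hswap : ∀ (S : Finset (Subgroup G)),
      ∑ M ∈ S, (Finset.univ.filter fun H : Subgroup G => H ≤ M ∧ Nat.card H = p ^ k).card =
        ∑ H ∈ Hs, (S.filter fun M => H ≤ M).card := by
    intro S
    have h := Finset.sum_card_bipartiteAbove_eq_sum_card_bipartiteBelow (s := S) (t := Hs)
      (r := fun M H => H ≤ M)
    refine Eq.trans (Finset.sum_congr rfl fun M _ => congrArg Finset.card (Finset.ext fun H => ?_)) h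
    simp [Hs, Finset.bipartiteAbove, and_comm]
  have hskG : sk G p k = Hs.card := by
    rw [sk, Nat.card_eq_fintype_card, Fintype.card_subtype]
  have hL : (∑ M : {M : Subgroup G // M.index = p}, sk M.1 p k) = ∑ H ∈ Hs, c H := by
    rw [← hswap Mx, ← Finset.sum_subtype Mx (by simp [Mx]) (fun M => sk M p k)]
    exact Finset.sum_congr rfl fun M _ => sk_eq_filter M k
  have hK : (∑ K ∈ Two, sk K p k) = ∑ H ∈ Hs, n2 H := by
    rw [← hswap Two]
    exact Finset.sum_congr rfl fun M _ => sk_eq_filter M k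
  have h1 : (∑ H ∈ Hs, c H) ≡ Hs.card + p * ∑ H ∈ Hs, n2 H [MOD p ^ 2] := by
    have h := Nat.ModEq.sum (s := Hs) hlocal
    rwa [Finset.sum_add_distrib, Finset.sum_const, smul_eq_mul, mul_one, ← Finset.mul_sum] at h
  have hTwo : Two.card ≡ 1 [MOD p] := by
    obtain ⟨e, he2, he⟩ := frattini_index hP hnc
    have h := card_between (p := p) (frattini G) (s := 2) he he2
    rwa [Nat.card_eq_fintype_card, Fintype.card_subtype] at h
  have h2 : (∑ K ∈ Two, sk K p k) ≡ 1 [MOD p] := by
    refine (Nat.ModEq.sum (f := fun K : Subgroup G => sk K p k) (g := fun _ => 1) fun K hK' => ?_).trans ?_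
    · simp only [Two, Finset.mem_filter, Finset.mem_univ, true_and] at hK'
      refine SubgroupCount.card_subgroup_prime_pow_modEq_one hp.out ?_
      have h := K.card_mul_index
      rw [hK'.2, hG, show p ^ m = p ^ (m - 2) * p ^ 2 by rw [← pow_add]; congr 1; omega] at h
      rw [Nat.eq_of_mul_eq_mul_right (pow_pos hp.out.pos 2) h]
      exact pow_dvd_pow p (by omega)
    · rw [Finset.sum_const, smul_eq_mul, mul_one]; exact hTwo
  rw [hL, hskG]
  refine h1.trans (Nat.ModEq.add_left _ ?_)
  have h3 := (hK ▸ h2).mul_left' p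
  rwa [mul_one, ← sq] at h3

theorem sk_of_isCyclic [IsCyclic G] {m k : ℕ} (hG : Nat.card G = p ^ m) (hk : k ≤ m) : sk G p k = 1 := by
  classical
  haveI := Fintype.ofFinite G
  obtain ⟨H₀, hH₀⟩ := Sylow.exists_subgroup_card_pow_prime p (G := G) (hG ▸ pow_dvd_pow p hk)
  have key : ∀ H : Subgroup G, Nat.card H = p ^ k →
      (Finset.univ.filter fun a : G => a ∈ H) = Finset.univ.filter fun a : G => a ^ (p ^ k) = 1 := by
    intro H hH
    refine Finset.eq_of_subset_of_card_le (fun a ha => ?_) ?_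
    · simp only [Finset.mem_filter, Finset.mem_univ, true_and] at ha ⊢
      exact orderOf_dvd_iff_pow_eq_one.1 (hH ▸ Subgroup.orderOf_dvd_natCard H ha)
    · refine le_trans (IsCyclic.card_pow_eq_one_le (pow_pos hp.out.pos k)) (le_of_eq ?_)
      rw [← hH, Nat.card_eq_fintype_card, Fintype.card_subtype]
  rw [sk, Nat.card_eq_one_iff_unique]
  refine ⟨⟨fun H K => Subtype.ext (Subgroup.ext fun a => ?_)⟩, ⟨⟨H₀, hH₀⟩⟩⟩
  have h1 := congrArg (fun s => a ∈ s) ((key H.1 H.2).trans (key K.1 K.2).symm)
  simpa using h1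

end basic

/-! ### Maximal subgroups -/

/-- A non-cyclic `2`-group of maximal class, by the index of the derived subgroup. -/
def MC (p : ℕ) (G : Type u) [Group G] : Prop :=
  p = 2 ∧ ¬ IsCyclic G ∧ (_root_.commutator G).index = 4

section maximal
variable {G : Type u} [Group G] [Finite G] {p : ℕ} [hp : Fact p.Prime]

theorem four_le_index_commutator (hG : IsPGroup p G) (hnc : ¬ IsCyclic G) :
    p ^ 2 ≤ (_root_.commutator G).index := by
  obtain ⟨e, he2, he⟩ := frattini_index hG hnc
  refine le_trans ?_ (Nat.le_of_dvd (Nat.pos_of_ne_zero index_ne_zero_of_finite)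
    (index_dvd_of_le (PGroup.commutator_le_frattini hG)))
  rw [he]
  exact Nat.pow_le_pow_right hp.out.pos he2

/-- Commutators with an element normalizing an abelian index-`p` subgroup generate the derived group. -/
theorem commutator_eq_range {A : Subgroup G} [A.Normal] [IsCyclic A] (hA : A.index = p) {b : G}
    (hb : b ∉ A) (hG : IsPGroup p G) {a : G} (ha : zpowers a = A) :
    _root_.commutator G = zpowers ⁅b, a⁆ := by
  have haA : a ∈ A := ha ▸ mem_zpowers a
  have hcA : ⁅b, a⁆ ∈ A := by
    rw [commutatorElement_def]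
    exact A.mul_mem ((inferInstance : A.Normal).conj_mem a haA b) (A.inv_mem haA)
  refine le_antisymm ?_ ?_
  · have hgen : Subgroup.closure ({a, b} : Set G) = ⊤ := by
      refine (isCoatom_of_index_p hG hA).2 _ (lt_of_le_of_ne ?_ fun h => hb ?_)
      · rw [← ha, zpowers_le]; exact subset_closure (by simp)
      · rw [h]; exact subset_closure (by simp)
    haveI hn : (zpowers ⁅b, a⁆).Normal := by
      refine ⟨fun x hx g => ?_⟩
      obtain ⟨i, rfl⟩ := mem_zpowers_iff.1 hx
      rw [← conj_zpow]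
      refine zpow_mem ?_ i
      -- a subgroup of a cyclic normal subgroup is normal
      haveI : Finite A := inferInstance
      obtain ⟨r, hr⟩ := MonoidHom.map_cyclic ((MulAut.conjNormal (H := A) g).toMonoidHom)
      have := congrArg Subtype.val (hr ⟨_, hcA⟩)
      simp only [MulEquiv.coe_toMonoidHom, MulAut.conjNormal_apply, SubgroupClass.coe_zpow] at this
      rw [this]
      exact zpow_mem (mem_zpowers _) r
    rw [_root_.commutator_def, commutator_le]
    intro u _ v _
    exact PGroup.commutator_mem_of_generators (N := zpowers ⁅b, a⁆) hgen (mem_zpowers _) u v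
  · rw [zpowers_le]
    exact commutator_mem_commutator (mem_top b) (mem_top a)

theorem cyclic_max_dvd {m : ℕ} (hG : Nat.card G = p ^ m) (hm : 3 ≤ m) (hnc : ¬ IsCyclic G)
    (hMC : ¬ MC p G) : p ∣ Nat.card {M : Subgroup G // M.index = p ∧ IsCyclic M} := by
  classical
  rcases isEmpty_or_nonempty {M : Subgroup G // M.index = p ∧ IsCyclic M} with hE | ⟨⟨A, hA, hAc⟩⟩
  · rw [Nat.card_of_isEmpty]; exact dvd_zero p
  have hP : IsPGroup p G := IsPGroup.of_card hG
  haveI := normal_of_index_p hP hA
  haveI := hAc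
  obtain ⟨n, rfl⟩ : ∃ n, m = n + 1 := ⟨m - 1, by omega⟩
  have hAcard : Nat.card A = p ^ n := by
    have h := A.card_mul_index
    rw [hA, hG, pow_succ] at h
    exact Nat.eq_of_mul_eq_mul_right hp.out.pos h
  obtain ⟨a, haA⟩ := (A.isCyclic_iff_exists_zpowers_eq_top).mp hAc
  have hao : orderOf a = p ^ n := by rw [← Nat.card_zpowers, haA, hAcard]
  obtain ⟨b, hb⟩ : ∃ b, b ∉ A := by
    by_contra h
    push Not at h
    rw [(eq_top_iff' A).2 h, index_top] at hA
    exact hp.out.ne_one hA.symm
  have hbp : b ^ p ∈ A := hA ▸ A.pow_index_mem b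
  have hconj : b * a * b⁻¹ ∈ zpowers a := by
    rw [haA]; exact (inferInstance : A.Normal).conj_mem a (haA ▸ mem_zpowers a) b
  have hbpc : Commute (b ^ p) a := by
    obtain ⟨i, hi⟩ := mem_zpowers_iff.1 (haA ▸ hbp)
    rw [← hi]; exact Commute.zpow_self a i
  obtain ⟨r, hr⟩ := mem_zpowers_iff.1 hconj
  have hcomm : ⁅b, a⁆ = a ^ (r - 1) := by
    rw [commutatorElement_def, ← hr, zpow_sub_one]
  have hD := commutator_eq_range hA hb hP haA
  -- the commutator has order dividing `p`
  have hc1 : ⁅b, a⁆ ^ p = 1 := by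
    have hd := PGroup.dvd_pow_sub_one hao hr.symm hbpc
    have h1 : ((p ^ (n - 1) : ℕ) : ℤ) ∣ r - 1 := by
      by_cases hp2 : p = 2
      · subst hp2
        obtain ⟨j, rfl⟩ : ∃ j, n = j + 2 := ⟨n - 2, by omega⟩
        push_cast at hd ⊢
        rcases PGroup.two_dvd_sub_one_or_add_one (m := j + 1) hd with h1 | ⟨t, ht⟩
        · simpa using h1
        rcases Nat.eq_zero_or_pos j with rfl | hj
        · exact ⟨t - 1, by simp at ht ⊢; linarith⟩
        exfalso
        refine hMC ⟨rfl, hnc, ?_⟩
        have hodd : Odd (2 ^ j * t - 1 : ℤ) :=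
          Even.sub_odd (Even.mul_right ((Int.even_pow).2 ⟨even_two, hj.ne'⟩) t) odd_one
        have hr1 : r - 1 = 2 * (2 ^ j * t - 1) := by rw [pow_succ] at ht; linarith
        have ho2 : orderOf (a ^ 2) = 2 ^ (j + 1) := by
          rw [orderOf_pow_of_dvd two_ne_zero (hao ▸ dvd_pow_self 2 (by omega)), hao, pow_succ,
            Nat.mul_div_cancel _ two_pos]
        have hord : Nat.card (zpowers ⁅b, a⁆) = 2 ^ (j + 1) := by
          rw [Nat.card_zpowers, hcomm, hr1, zpow_mul, zpow_ofNat, ← ho2]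
          have hco : (orderOf (a ^ 2)).Coprime (2 ^ j * t - 1 : ℤ).natAbs := by
            rw [ho2]
            exact Nat.Coprime.pow_left _ (Nat.coprime_two_left.2 (Int.natAbs_odd.2 hodd))
          rcases Int.natAbs_eq (2 ^ j * t - 1 : ℤ) with h | h <;> rw [h]
          · rw [zpow_natCast]; exact hco.orderOf_pow
          · rw [zpow_neg, orderOf_inv, zpow_natCast]; exact hco.orderOf_pow
        have h := (_root_.commutator G).card_mul_index
        rw [hD, hord, hG] at h
        rw [hD]
        refine Nat.eq_of_mul_eq_mul_left (pow_pos two_pos (j + 1)) ?_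
        rw [h]; ring
      · exact (PGroup.int_dvd_sub_one_of_pow hp.out hp2 hd (by omega)).2
    rw [hcomm, ← zpow_natCast, ← zpow_mul, ← orderOf_dvd_iff_zpow_eq_one, hao]
    obtain ⟨q, hq⟩ := h1
    refine ⟨q, ?_⟩
    rw [hq, show p ^ n = p ^ (n - 1) * p by rw [← pow_succ]; congr 1; omega]
    push_cast
    ring
  have hDc : _root_.commutator G ≤ center G := by
    by_cases hc0 : ⁅b, a⁆ = 1
    · rw [hD, hc0, zpowers_one_eq_bot]; exact bot_le
    have hn' : (_root_.commutator G).Normal := inferInstance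
    rw [hD] at hn' ⊢
    haveI := hn'
    exact PGroup.le_center_of_card_eq hP (by rw [Nat.card_zpowers, orderOf_eq_prime hc1 hc0])
  have hDp : ∀ x ∈ _root_.commutator G, x ^ p = 1 := by
    intro x hx
    rw [hD] at hx
    obtain ⟨i, rfl⟩ := mem_zpowers_iff.1 hx
    rw [← zpow_natCast, ← zpow_mul, mul_comm, zpow_mul, zpow_natCast, hc1, one_zpow]
  -- the power map is a homomorphism
  have hpow : ∀ x y : G, (x * y) ^ p ^ (n - 1) = x ^ p ^ (n - 1) * y ^ p ^ (n - 1) := by
    intro x y
    rw [S0841.result hDc x y]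
    refine mul_eq_left.2 ?_
    set d := y⁻¹ * x⁻¹ * y * x
    have hd : d ∈ _root_.commutator G := by
      have := commutator_mem_commutator (mem_top y⁻¹) (mem_top x⁻¹)
      rw [commutatorElement_def, inv_inv, inv_inv] at this
      exact this
    obtain ⟨l, hl⟩ : ∃ l, n - 1 = l + 1 := ⟨n - 2, by omega⟩
    by_cases hp2 : p = 2
    · subst hp2
      rcases Nat.eq_zero_or_pos l with hl0 | hlpos
      · have hab : _root_.commutator G = ⊥ := by
          by_contra h
          refine hMC ⟨rfl, hnc, ?_⟩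
          have e := (_root_.commutator G).card_mul_index
          have hc0 : ⁅b, a⁆ ≠ 1 := fun h0 => h (by rw [hD, h0, zpowers_one_eq_bot])
          rw [hG, hD, Nat.card_zpowers, orderOf_eq_prime hc1 hc0, ← hD,
            show n + 1 = 3 by omega] at e
          omega
        rw [hab, mem_bot] at hd
        rw [hd, one_pow]
      · obtain ⟨l', rfl⟩ : ∃ l', l = l' + 1 := ⟨l - 1, by omega⟩
        refine orderOf_dvd_iff_pow_eq_one.1 ((orderOf_dvd_of_pow_eq_one (hDp d hd)).trans ?_)
        rw [hl, pow_succ 2 (l' + 1), show 2 ^ (l' + 1) * 2 * (2 ^ (l' + 1) * 2 - 1) =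
          2 ^ (l' + 1) * (2 ^ (l' + 1) * 2 - 1) * 2 by ring, Nat.mul_div_cancel _ two_pos]
        exact Dvd.dvd.mul_right (dvd_pow_self 2 (by omega)) _
    · refine orderOf_dvd_iff_pow_eq_one.1 ((orderOf_dvd_of_pow_eq_one (hDp d hd)).trans ?_)
      obtain ⟨t, ht⟩ := (hp.out.odd_of_ne_two hp2).pow (n := n - 1)
      rw [show p ^ (n - 1) - 1 = 2 * t by omega, ← mul_assoc, mul_comm _ 2, mul_assoc,
        Nat.mul_div_cancel_left _ two_pos]
      exact Dvd.dvd.mul_right (dvd_pow_self p (by omega)) _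
  let f : G →* G := MonoidHom.mk' (fun x => x ^ p ^ (n - 1)) hpow
  have hexp : ∀ x : G, x ^ p ^ n = 1 := by
    intro x
    obtain ⟨k, hk, hok⟩ := (Nat.dvd_prime_pow hp.out).1 (hG ▸ orderOf_dvd_natCard x)
    have hkn : k ≤ n := by
      by_contra hcon
      exact hnc (isCyclic_of_orderOf_eq_card x (by rw [hok, hG, show k = n + 1 by omega]))
    exact orderOf_dvd_iff_pow_eq_one.1 (hok ▸ pow_dvd_pow p hkn)
  have hn1 : p ^ n = p ^ (n - 1) * p := by rw [← pow_succ]; congr 1; omega
  have hwo : orderOf (f a) = p := by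
    show orderOf (a ^ p ^ (n - 1)) = p
    rw [orderOf_pow_of_dvd (pow_ne_zero _ hp.out.ne_zero) (hao ▸ hn1 ▸ dvd_mul_right _ _), hao, hn1,
      Nat.mul_div_cancel_left _ (pow_pos hp.out.pos _)]
  have hrange : f.range = zpowers (f a) := by
    refine le_antisymm ?_ (zpowers_le.2 ⟨a, rfl⟩)
    rintro - ⟨x, rfl⟩
    refine PGroup.mem_zpowers_of_isCyclic (p := p) hAc ?_ ?_ hwo ?_
    · exact A.pow_mem (haA ▸ mem_zpowers a) _
    · show x ^ p ^ (n - 1) ∈ A
      rw [show n - 1 = 1 + (n - 2) by omega, pow_add, pow_one, pow_mul]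
      exact A.pow_mem (hA ▸ A.pow_index_mem x) _
    · show (x ^ p ^ (n - 1)) ^ p = 1
      rw [← pow_mul, ← hn1]; exact hexp x
  have hker : f.ker.index = p := by rw [index_ker, hrange, Nat.card_zpowers, hwo]
  have hgen : ∀ (M : Subgroup G) (x : G), M.index = p → x ∈ M → x ∉ f.ker → M = zpowers x := by
    intro M x hM hx hxk
    symm
    refine Subgroup.eq_of_le_of_card_ge (zpowers_le.2 hx) (le_of_eq ?_)
    rw [Nat.card_zpowers, orderOf_eq_prime_pow (p := p) (n := n - 1) hxk (by
      rw [show n - 1 + 1 = n by omega]; exact hexp x), show n - 1 + 1 = n by omega]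
    have h := M.card_mul_index
    rw [hM, hG, pow_succ] at h
    exact Nat.eq_of_mul_eq_mul_right hp.out.pos h
  have hiff : ∀ M : Subgroup G, M.index = p → (IsCyclic M ↔ M ≠ f.ker) := by
    intro M hM
    constructor
    · rintro hc rfl
      obtain ⟨x, hx⟩ := (f.ker.isCyclic_iff_exists_zpowers_eq_top).mp hc
      have h1 : x ^ p ^ (n - 1) = 1 := MonoidHom.mem_ker.1 (hx ▸ mem_zpowers x)
      have h2 := f.ker.card_mul_index
      rw [hker, ← hx, Nat.card_zpowers, hG, pow_succ] at h2
      have h3 := Nat.le_of_dvd (pow_pos hp.out.pos _)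
        (Nat.eq_of_mul_eq_mul_right hp.out.pos h2 ▸ orderOf_dvd_of_pow_eq_one h1)
      exact absurd h3 (not_le.2 (Nat.pow_lt_pow_right hp.out.one_lt (by omega)))
    · intro hne
      obtain ⟨x, hx, hxk⟩ : ∃ x ∈ M, x ∉ f.ker := by
        by_contra h
        push Not at h
        refine hne (Subgroup.eq_of_le_of_card_ge h (le_of_eq ?_))
        have e1 := M.card_mul_index
        have e2 := f.ker.card_mul_index
        rw [hM, ← e2, hker] at e1
        exact (Nat.eq_of_mul_eq_mul_right hp.out.pos e1).symm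
      rw [hgen M x hM hx hxk]
      infer_instance
  haveI := Fintype.ofFinite (Subgroup G)
  have hmax := card_max hP hnc
  rw [Nat.card_eq_fintype_card, Fintype.card_subtype] at hmax
  rw [Nat.card_eq_fintype_card, Fintype.card_subtype]
  have e : (Finset.univ.filter fun M : Subgroup G => M.index = p ∧ IsCyclic M) =
      (Finset.univ.filter fun M : Subgroup G => M.index = p).erase f.ker := by
    ext M
    simp only [Finset.mem_filter, Finset.mem_erase, Finset.mem_univ, true_and]
    exact ⟨fun h => ⟨(hiff M h.1).1 h.2, h.1⟩, fun h => ⟨h.2, (hiff M h.2).2 h.1⟩⟩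
  rw [e]
  have hmem : f.ker ∈ Finset.univ.filter fun M : Subgroup G => M.index = p := by simp [hker]
  rw [← Finset.card_erase_add_one hmem, add_comm 1 p] at hmax
  have h1 : _ ≡ p [MOD p ^ 2] := hmax.add_right_cancel'
  exact (h1.of_dvd (dvd_pow_self p two_ne_zero)).dvd_iff (dvd_refl p) |>.2 dvd_rfl

end maximal

section two
variable {G : Type u} [Group G] [Finite G]

/-- The shape of a `2`-group whose derived subgroup has index four. -/
theorem mc_data {n : ℕ} (hn : 2 ≤ n) (hG : Nat.card G = 2 ^ (n + 1)) (h4 : (_root_.commutator G).index = 4) :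
    ∃ a : G, orderOf a = 2 ^ n ∧ (zpowers a).index = 2 ∧
      (∀ x, x ∉ zpowers a → x ^ 4 = 1 ∧ x * a ^ 2 * x⁻¹ = (a ^ 2)⁻¹) ∧
      (n = 2 → ∀ x, x ∉ zpowers a → ∀ y, y ∉ zpowers a → y ^ 2 = x ^ 2) := by
  haveI : Fact (Nat.Prime 2) := ⟨Nat.prime_two⟩
  obtain ⟨a, b, hao, hb, hb2, hba, hcen, -⟩ := PGroup.two_group_data (by omega) hG h4
  rw [Nat.add_sub_cancel] at hao
  rw [show n + 1 - 2 = n - 1 by omega] at hcen
  have hai : (zpowers a).index = 2 := by
    have h := (zpowers a).card_mul_index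
    rw [Nat.card_zpowers, hao, hG, pow_succ] at h
    exact Nat.eq_of_mul_eq_mul_left (pow_pos two_pos _) h
  haveI := normal_of_index_eq_two hai
  have hz2 : ∀ z ∈ center G, z ^ 2 = 1 := by
    intro z hz
    rw [hcen] at hz
    obtain ⟨i, rfl⟩ := mem_zpowers_iff.1 hz
    rw [← zpow_natCast _ 2, ← zpow_mul, mul_comm, zpow_mul, zpow_natCast, ← pow_mul,
      ← pow_succ, show n - 1 + 1 = n by omega, ← hao, pow_orderOf_eq_one, one_zpow]
  set z₀ := b * a * b⁻¹ * a with hz₀
  have hcm : ∀ (g : G), Commute z₀ g := fun g => (mem_center_iff.1 hba g).symm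
  have hbab : b * a * b⁻¹ = z₀ * a⁻¹ := by rw [hz₀, mul_inv_cancel_right]
  have hdec : ∀ x, x ∉ zpowers a → ∃ i : ℤ, x = a ^ i * b := fun x hx => by
    obtain ⟨i, hi⟩ := mem_zpowers_iff.1
      ((mul_mem_iff_of_index_two hai).2 (iff_of_false hx (fun h => hb (inv_mem_iff.1 h))) : x * b⁻¹ ∈ zpowers a)
    exact ⟨i, by rw [hi, inv_mul_cancel_right]⟩
  have hconj : ∀ x, x ∉ zpowers a → x * a * x⁻¹ = z₀ * a⁻¹ := by
    intro x hx
    obtain ⟨i, rfl⟩ := hdec x hx
    calc a ^ i * b * a * (a ^ i * b)⁻¹ = a ^ i * (b * a * b⁻¹) * (a ^ i)⁻¹ := by group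
      _ = a ^ i * (z₀ * a⁻¹) * (a ^ i)⁻¹ := by rw [hbab]
      _ = z₀ * a⁻¹ := by
        have : Commute (a ^ i) (z₀ * a⁻¹) :=
          (hcm (a ^ i)).symm.mul_right (((Commute.refl a).zpow_left i).inv_right)
        rw [this.eq, mul_inv_cancel_right]
  have hsq : ∀ x, x ∉ zpowers a → ∃ i : ℤ, x ^ 2 = z₀ ^ i * b ^ 2 := by
    intro x hx
    obtain ⟨i, rfl⟩ := hdec x hx
    refine ⟨i, ?_⟩
    calc (a ^ i * b) ^ 2 = a ^ i * (b * a ^ i * b⁻¹) * (b * b) := by rw [sq]; group
      _ = a ^ i * (z₀ ^ i * (a⁻¹) ^ i) * (b * b) := by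
        rw [← conj_zpow, hbab, (hcm a⁻¹).mul_zpow]
      _ = z₀ ^ i * b ^ 2 := by
        rw [← mul_assoc (a ^ i), ((hcm (a ^ i)).zpow_left i).symm.eq, inv_zpow, mul_inv_cancel_right, sq]
  refine ⟨a, hao, hai, fun x hx => ⟨?_, ?_⟩, ?_⟩
  · obtain ⟨i, hi⟩ := hsq x hx
    rw [show 4 = 2 * 2 from rfl, pow_mul, hi]
    exact hz2 _ (mul_mem (zpow_mem hba i) hb2)
  · rw [← conj_pow, hconj x hx, (hcm a⁻¹).mul_pow, hz2 _ hba, one_mul, inv_pow]
  · intro hn2 x hx y hy
    subst hn2
    have hz1 : z₀ = 1 := by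
      by_contra hne
      have hz : z₀ ∈ zpowers (a ^ 2 ^ (2 - 1)) := hcen ▸ hba
      have hoz : orderOf (a ^ 2) = 2 := by
        rw [orderOf_pow_of_dvd two_ne_zero (by rw [hao]; norm_num), hao]; norm_num
      have hza : z₀ = a ^ 2 := by
        obtain ⟨k, hk⟩ := mem_zpowers_iff.1 hz
        rw [show (2 : ℕ) ^ (2 - 1) = 2 from rfl] at hk
        rw [← hk, ← zpow_mod_orderOf, hoz] at hne ⊢
        rcases Int.emod_two_eq k with h | h
        · exact absurd (by push_cast; rw [h, zpow_zero]) hne
        · push_cast; rw [h, zpow_one]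
      have hc : Commute b a := by
        have := hbab
        rw [hza, sq, mul_inv_cancel_right] at this
        show b * a = a * b
        conv_rhs => rw [← this]
        group
      have hbot : _root_.commutator G = ⊥ := by
        have hgen : closure {a, b} = (⊤ : Subgroup G) := by
          rw [← PGroup.sup_zpowers_eq_closure]
          exact PGroup.eq_sup_zpowers_of_card (IsPGroup.of_card hG) le_top
            (by rw [card_top, ← (zpowers a).card_mul_index, hai, mul_comm]) (mem_top b) hb
        rw [eq_bot_iff, _root_.commutator_def, commutator_le]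
        exact fun u _ v _ => PGroup.commutator_mem_of_generators (N := ⊥) hgen
          (mem_bot.mpr (commutatorElement_eq_one_iff_commute.mpr hc)) u v
      rw [hbot, index_bot, hG] at h4
      norm_num at h4
    obtain ⟨i, hi⟩ := hsq x hx
    obtain ⟨j, hj⟩ := hsq y hy
    rw [hi, hj, hz1, one_zpow, one_zpow]

theorem cyclic_max_odd {m : ℕ} (hG : Nat.card G = 2 ^ m) (hm : 3 ≤ m) (hMC : MC 2 G) :
    Odd (Nat.card {M : Subgroup G // M.index = 2 ∧ IsCyclic M}) := by
  classical
  haveI : Fact (Nat.Prime 2) := ⟨Nat.prime_two⟩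
  obtain ⟨-, hnc, h4⟩ := hMC
  obtain ⟨n, rfl⟩ : ∃ n, m = n + 1 := ⟨m - 1, by omega⟩
  obtain ⟨a, hao, hai, hx4, hsq⟩ := mc_data (by omega) hG h4
  have hP : IsPGroup 2 G := IsPGroup.of_card hG
  have hout : ∀ M : Subgroup G, M.index = 2 → M ≠ zpowers a → ∃ x ∈ M, x ∉ zpowers a := by
    intro M hM hne
    by_contra h
    push Not at h
    refine hne (Subgroup.eq_of_le_of_card_ge h (le_of_eq ?_))
    have e1 := M.card_mul_index
    have e2 := (zpowers a).card_mul_index
    rw [hM, ← e2, hai] at e1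
    exact (Nat.eq_of_mul_eq_mul_right two_pos e1).symm
  have hcard : ∀ M : Subgroup G, M.index = 2 → Nat.card M = 2 ^ n := by
    intro M hM
    have h := M.card_mul_index
    rw [hM, hG, pow_succ] at h
    exact Nat.eq_of_mul_eq_mul_right two_pos h
  have hgen : ∀ M : Subgroup G, M.index = 2 → M ≠ zpowers a → IsCyclic M →
      ∃ x, x ∉ zpowers a ∧ orderOf x = 2 ^ n := by
    intro M hM hne hc
    obtain ⟨x, hx⟩ := (M.isCyclic_iff_exists_zpowers_eq_top).mp hc
    refine ⟨x, fun h => ?_, by rw [← Nat.card_zpowers, hx, hcard M hM]⟩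
    obtain ⟨y, hy, hya⟩ := hout M hM hne
    rw [← hx] at hy
    exact hya (zpowers_le.2 h hy)
  by_cases hex : ∃ M : Subgroup G, M.index = 2 ∧ M ≠ zpowers a ∧ IsCyclic M
  · obtain ⟨M, hM, hne, hc⟩ := hex
    obtain ⟨x, hx, hxo⟩ := hgen M hM hne hc
    have hn2 : n = 2 := by
      by_contra hne2
      have h := orderOf_dvd_of_pow_eq_one (hx4 x hx).1
      rw [hxo, show (4 : ℕ) = 2 ^ 2 from rfl] at h
      have := (Nat.pow_dvd_pow_iff_le_right (le_refl 2)).1 h
      omega
    subst hn2
    have hall : ∀ K : Subgroup G, K.index = 2 → IsCyclic K := by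
      intro K hK
      by_cases hKa : K = zpowers a
      · rw [hKa]; infer_instance
      obtain ⟨y, hy, hya⟩ := hout K hK hKa
      have h2 : y ^ 2 ≠ 1 := by
        rw [hsq rfl x hx y hya]
        exact fun h => absurd (orderOf_dvd_of_pow_eq_one h) (by rw [hxo]; norm_num)
      have hyo : orderOf y = 2 ^ (1 + 1) :=
        orderOf_eq_prime_pow (by simpa using h2) (by simpa using (hx4 y hya).1)
      have : zpowers y = K := Subgroup.eq_of_le_of_card_ge (zpowers_le.2 hy)
        (by rw [Nat.card_zpowers, hyo, hcard K hK])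
      rw [← this]; infer_instance
    rw [Nat.card_congr (Equiv.subtypeEquivRight fun K => ⟨fun h => h.1, fun h => ⟨h, hall K h⟩⟩)]
    have h := (card_max hP hnc).of_dvd (dvd_pow_self 2 two_ne_zero)
    rw [Nat.ModEq] at h
    exact Nat.odd_iff.2 (by omega)
  · push Not at hex
    have : Nat.card {M : Subgroup G // M.index = 2 ∧ IsCyclic M} = 1 := by
      rw [Nat.card_eq_one_iff_unique]
      refine ⟨⟨fun K L => Subtype.ext ?_⟩, ⟨⟨zpowers a, hai, inferInstance⟩⟩⟩
      have hK : K.1 = zpowers a := by_contra fun h => hex K.1 K.2.1 h K.2.2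
      have hL : L.1 = zpowers a := by_contra fun h => hex L.1 L.2.1 h L.2.2
      rw [hK, hL]
    rw [this]; exact odd_one

theorem map_commutator_index {M : Subgroup G} {i : ℕ} (hM : M.index = i) :
    (⁅M, M⁆ : Subgroup G).index = (_root_.commutator M).index * i := by
  rw [← map_subtype_commutator, index_map_subtype, hM]

theorem mc_of_index {M : Subgroup G} {e : ℕ} (hMc : Nat.card M = 2 ^ e) (he : 3 ≤ e)
    (h : (_root_.commutator M).index = 4) : MC 2 M := by
  refine ⟨rfl, fun hc => ?_, h⟩
  haveI := hc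
  rw [commutator_eq_bot, index_bot, hMc] at h
  have : 2 ^ 3 ≤ 2 ^ e := Nat.pow_le_pow_right two_pos he
  omega

/-- In a `2`-group of maximal class all maximal subgroups are cyclic or of maximal class. -/
theorem max_cases {m : ℕ} (hG : Nat.card G = 2 ^ m) (hm : 4 ≤ m) (hMC : MC 2 G) {M : Subgroup G}
    (hM : M.index = 2) : IsCyclic M ∨ MC 2 M := by
  haveI : Fact (Nat.Prime 2) := ⟨Nat.prime_two⟩
  by_cases hc : IsCyclic M
  · exact Or.inl hc
  obtain ⟨-, hnc, h4⟩ := hMC
  obtain ⟨n, rfl⟩ : ∃ n, m = n + 1 := ⟨m - 1, by omega⟩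
  obtain ⟨a, hao, hai, hx4, -⟩ := mc_data (by omega) hG h4
  have hP : IsPGroup 2 G := IsPGroup.of_card hG
  obtain ⟨x, hx, hxa⟩ : ∃ x ∈ M, x ∉ zpowers a := by
    by_contra h
    push Not at h
    haveI := isCyclic_of_le h
    exact hc inferInstance
  haveI := normal_of_index_eq_two hM
  have ha2 : a ^ 2 ∈ M := hM ▸ M.pow_index_mem a
  have hM' : zpowers (a ^ 4) ≤ ⁅M, M⁆ := by
    rw [zpowers_le, ← inv_mem_iff]
    have h := commutator_mem_commutator hx ha2
    rwa [commutatorElement_def, (hx4 x hxa).2, ← mul_inv_rev, ← pow_add] at h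
  have h4' : Nat.card (zpowers (a ^ 4)) = 2 ^ (n - 2) := by
    rw [Nat.card_zpowers, orderOf_pow_of_dvd (by norm_num) (by
      rw [hao, show (4 : ℕ) = 2 ^ 2 from rfl]; exact pow_dvd_pow 2 (by omega)), hao,
      show (4 : ℕ) = 2 ^ 2 from rfl, Nat.pow_div (by omega) two_pos]
  have hle := Nat.le_of_dvd Nat.card_pos (card_dvd_of_le hM')
  rw [h4', ← map_subtype_commutator, card_map_of_injective M.subtype_injective] at hle
  have hMc : Nat.card M = 2 ^ n := by
    have h := M.card_mul_index
    rw [hM, hG, pow_succ] at h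
    exact Nat.eq_of_mul_eq_mul_right two_pos h
  have hge := four_le_index_commutator (hP.to_subgroup M) hc
  have h := (_root_.commutator M).card_mul_index
  rw [hMc, show 2 ^ n = 2 ^ (n - 2) * 4 by
    rw [show (4 : ℕ) = 2 ^ 2 from rfl, ← pow_add]; congr 1; omega] at h
  refine Or.inr (mc_of_index hMc (by omega) (le_antisymm ?_ hge))
  refine Nat.le_of_mul_le_mul_left ?_ (pow_pos two_pos (n - 2))
  rw [← h]
  exact Nat.mul_le_mul_right _ hle

/-- The maximal subgroups of maximal class are even in number. -/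
theorem mc_max_even {m : ℕ} (hG : Nat.card G = 2 ^ m) (hm : 4 ≤ m) (hnc : ¬ IsCyclic G)
    (hMC : ¬ MC 2 G) : 2 ∣ Nat.card {M : Subgroup G // M.index = 2 ∧ MC 2 M} := by
  classical
  haveI : Fact (Nat.Prime 2) := ⟨Nat.prime_two⟩
  rcases isEmpty_or_nonempty {M : Subgroup G // M.index = 2 ∧ MC 2 M} with hE | ⟨⟨M, hM, -, hMnc, hM4⟩⟩
  · rw [Nat.card_of_isEmpty]; exact dvd_zero 2
  have hP : IsPGroup 2 G := IsPGroup.of_card hG
  obtain ⟨n, rfl⟩ : ∃ n, m = n + 1 := ⟨m - 1, by omega⟩
  have hMc : ∀ K : Subgroup G, K.index = 2 → Nat.card K = 2 ^ n := by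
    intro K hK
    have h := K.card_mul_index
    rw [hK, hG, pow_succ] at h
    exact Nat.eq_of_mul_eq_mul_right two_pos h
  set D := _root_.commutator G with hD
  have hKD : ∀ K : Subgroup G, ⁅K, K⁆ ≤ D := fun K => by
    rw [hD, _root_.commutator_def]; exact commutator_mono le_top le_top
  have h8 : (⁅M, M⁆ : Subgroup G).index = 8 := by rw [map_commutator_index hM, hM4]
  have hDidx : D.index = 8 := by
    obtain ⟨e, he⟩ := hP.index D
    have h1 := four_le_index_commutator hP hnc
    have h2 : D.index ≤ 8 := h8 ▸ Nat.le_of_dvd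
      (Nat.pos_of_ne_zero index_ne_zero_of_finite) (index_dvd_of_le (hKD M))
    rw [← hD, he] at h1
    rw [he] at h2 ⊢
    have he2 : 2 ≤ e := (Nat.pow_le_pow_iff_right (le_refl 2)).1 h1
    have he3 : e ≤ 3 := (Nat.pow_le_pow_iff_right (le_refl 2)).1 (by simpa using h2)
    rcases (show e = 2 ∨ e = 3 by omega) with rfl | rfl
    · exact absurd ⟨rfl, hnc, by rw [← hD, he]; norm_num⟩ hMC
    · norm_num
  have hMD : ⁅M, M⁆ = D := by
    refine Subgroup.eq_of_le_of_card_ge (hKD M) (le_of_eq ?_)
    have e1 := D.card_mul_index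
    have e2 := (⁅M, M⁆ : Subgroup G).card_mul_index
    rw [hDidx, ← e2, h8] at e1
    exact Nat.eq_of_mul_eq_mul_right (by norm_num) e1
  -- the derived subgroup is cyclic
  obtain ⟨d, hd⟩ : ∃ d, D = zpowers d := by
    obtain ⟨a, hao, hai, -, -⟩ := mc_data (n := n - 1) (by omega)
      (by rw [show n - 1 + 1 = n by omega]; exact hMc M hM) hM4
    haveI := normal_of_index_eq_two hai
    obtain ⟨b, hb⟩ : ∃ b, b ∉ zpowers a := by
      by_contra h
      push Not at h
      rw [(eq_top_iff' _).2 h, index_top] at hai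
      norm_num at hai
    refine ⟨M.subtype ⁅b, a⁆, ?_⟩
    rw [← hMD, ← map_subtype_commutator,
      commutator_eq_range hai hb (hP.to_subgroup M) rfl, MonoidHom.map_zpowers]
  haveI hDn : (zpowers d).Normal := hd ▸ inferInstance
  have hdo : orderOf d = 2 ^ (n - 3) * 2 := by
    have h := D.card_mul_index
    rw [hDidx, hd, Nat.card_zpowers, hG,
      show 2 ^ (n + 1) = 2 ^ (n - 3) * 2 * 8 by
        rw [show (8 : ℕ) = 2 ^ 3 from rfl, ← pow_succ, ← pow_add]; congr 1; omega] at h
    exact Nat.eq_of_mul_eq_mul_right (by norm_num) h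
  set N := zpowers (d ^ 2) with hN
  have hrel : ∀ g : G, ∃ r : ℤ, g * d * g⁻¹ = d ^ r := fun g => by
    obtain ⟨r, hr⟩ := mem_zpowers_iff.1 (hDn.conj_mem d (mem_zpowers d) g)
    exact ⟨r, hr.symm⟩
  haveI hNn : N.Normal := ⟨fun x hx g => by
    obtain ⟨i, rfl⟩ := mem_zpowers_iff.1 hx
    obtain ⟨r, hr⟩ := hrel g
    rw [← conj_zpow, ← conj_pow, hr, show (d ^ r) ^ 2 = (d ^ 2) ^ r by
      rw [← zpow_natCast, ← zpow_mul, mul_comm, zpow_mul, zpow_natCast]]
    exact zpow_mem (zpow_mem (mem_zpowers (d ^ 2)) r) i⟩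
  have hdN : d ∉ N := fun h => by
    have h1 := Nat.le_of_dvd Nat.card_pos (card_dvd_of_le (show zpowers d ≤ N from zpowers_le.2 h))
    rw [hN, Nat.card_zpowers, Nat.card_zpowers,
      orderOf_pow_of_dvd two_ne_zero (hdo ▸ dvd_mul_left 2 _), hdo, Nat.mul_div_cancel _ two_pos] at h1
    have := pow_pos (two_pos (α := ℕ)) (n - 3)
    omega
  have hodd : ∀ k : ℤ, d ^ k ∉ N → d ^ (k - 1) ∈ N := by
    intro k hk
    rcases Int.even_or_odd k with ⟨j, rfl⟩ | ⟨j, rfl⟩
    · exact absurd (mem_zpowers_iff.2 ⟨j, by rw [← zpow_natCast, ← zpow_mul]; congr 1; omega⟩) hk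
    · exact mem_zpowers_iff.2 ⟨j, by rw [← zpow_natCast, ← zpow_mul]; congr 1; omega⟩
  -- `D / N` is central
  have hcentral : ∀ g : G, ∀ x ∈ D, ((g * x * g⁻¹ : G) : G ⧸ N) = (x : G ⧸ N) := by
    intro g x hx
    rw [hd] at hx
    obtain ⟨i, rfl⟩ := mem_zpowers_iff.1 hx
    obtain ⟨r, hr⟩ := hrel g
    have hr1 : d ^ r ∉ N := by
      rw [← hr]
      intro h
      refine hdN ?_
      have := hNn.conj_mem _ h g⁻¹
      rwa [inv_inv, show g⁻¹ * (g * d * g⁻¹) * g = d by group] at this
    have hdd : ((d ^ r : G) : G ⧸ N) = (d : G ⧸ N) := by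
      rw [QuotientGroup.eq_iff_div_mem, div_eq_mul_inv, ← zpow_sub_one]
      exact hodd r hr1
    rw [← conj_zpow, hr, QuotientGroup.mk_zpow, hdd, QuotientGroup.mk_zpow]
  have hcD : ∀ x y : G, ⁅x, y⁆ ∈ D := fun x y => commutator_mem_commutator (mem_top x) (mem_top y)
  let φ : G → (G →* G ⧸ N) := fun u => MonoidHom.mk' (fun g => ((⁅g, u⁆ : G) : G ⧸ N)) fun g h => by
    have e : ⁅g * h, u⁆ = g * ⁅h, u⁆ * g⁻¹ * ⁅g, u⁆ := by simp only [commutatorElement_def]; group
    have hc : (g : G ⧸ N) * ((⁅h, u⁆ : G) : G ⧸ N) * (g : G ⧸ N)⁻¹ = ((⁅h, u⁆ : G) : G ⧸ N) := by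
      rw [← QuotientGroup.mk_inv, ← QuotientGroup.mk_mul, ← QuotientGroup.mk_mul, hcentral g _ (hcD h u)]
    have hc2 : ((⁅g, u⁆ : G) : G ⧸ N) * ((⁅h, u⁆ : G) : G ⧸ N) * ((⁅g, u⁆ : G) : G ⧸ N)⁻¹ =
        ((⁅h, u⁆ : G) : G ⧸ N) := by
      rw [← QuotientGroup.mk_inv, ← QuotientGroup.mk_mul, ← QuotientGroup.mk_mul,
        hcentral _ _ (hcD h u)]
    show ((⁅g * h, u⁆ : G) : G ⧸ N) = _
    rw [e, QuotientGroup.mk_mul, QuotientGroup.mk_mul, QuotientGroup.mk_mul, QuotientGroup.mk_inv, hc]
    exact (mul_inv_eq_iff_eq_mul.1 hc2).symm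
  have hφ : ∀ u g : G, g ∈ (φ u).ker ↔ ⁅g, u⁆ ∈ N := fun u g =>
    MonoidHom.mem_ker.trans (QuotientGroup.eq_one_iff _)
  have hφs : ∀ u g : G, g ∈ (φ u).ker ↔ u ∈ (φ g).ker := fun u g => by
    rw [hφ, hφ, ← inv_mem_iff, commutatorElement_inv]
  have hφself : ∀ u : G, u ∈ (φ u).ker := fun u => (hφ u u).2 (by rw [commutatorElement_self]; exact N.one_mem)
  have hφi : ∀ u : G, (φ u).ker.index ≤ 2 := by
    intro u
    rw [index_ker]
    have hle : (φ u).range ≤ zpowers ((d : G) : G ⧸ N) := by
      rintro - ⟨g, rfl⟩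
      obtain ⟨i, hi⟩ := mem_zpowers_iff.1 (hd ▸ hcD g u)
      exact mem_zpowers_iff.2 ⟨i, by rw [← QuotientGroup.mk_zpow, hi]; rfl⟩
    refine le_trans (Nat.le_of_dvd Nat.card_pos (card_dvd_of_le hle)) ?_
    rw [Nat.card_zpowers]
    refine Nat.le_of_dvd two_pos (orderOf_dvd_of_pow_eq_one ?_)
    rw [← QuotientGroup.mk_pow, QuotientGroup.eq_one_iff]
    exact mem_zpowers _
  obtain ⟨u, hu, v, hv, huv⟩ : ∃ u ∈ M, ∃ v ∈ M, u ∉ (φ v).ker := by
    by_contra h
    push Not at h
    refine hdN ((hMD ▸ commutator_le.2 (fun u hu v hv => (hφ v u).1 (h u hu v hv)) : D ≤ N) ?_)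
    rw [hd]; exact mem_zpowers d
  set Z := (φ u).ker ⊓ (φ v).ker with hZ
  have hZi : Z.index ≤ 4 := le_trans (index_inf_le) (Nat.mul_le_mul (hφi u) (hφi v))
  have hNle : ∀ g : G, N ≤ (φ g).ker := fun g x hx => (hφ g x).2 (by
    rw [commutatorElement_def, show x * g * x⁻¹ * g⁻¹ = x * (g * x⁻¹ * g⁻¹) by group]
    exact N.mul_mem hx (hNn.conj_mem _ (N.inv_mem hx) g))
  have hzp : ∀ (H : Subgroup G) (x : G), x ∈ H → zpowers x ≤ H := fun H x h => zpowers_le.2 h
  -- two non-commuting elements generate `M` modulo `N`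
  have hgenM : ∀ L : Subgroup G, u ∈ L → v ∈ L → N ≤ L → L ≤ M → L = M := by
    intro L huL hvL hNL hLM
    by_contra hne
    have hlt : L < M := lt_of_le_of_ne hLM hne
    have h2L := PGroup.mul_card_le_of_lt hP hlt
    haveI : (N.subgroupOf L).Normal := hNn.comap _
    have hNc : Nat.card N = 2 ^ (n - 3) := by
      rw [hN, Nat.card_zpowers, orderOf_pow_of_dvd two_ne_zero (hdo ▸ dvd_mul_left 2 _), hdo,
        Nat.mul_div_cancel _ two_pos]
    have hq : Nat.card (L ⧸ N.subgroupOf L) * Nat.card N = Nat.card L := by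
      rw [card_eq_card_quotient_mul_card_subgroup (N.subgroupOf L),
        Nat.card_congr (subgroupOfEquivOfLe hNL).toEquiv]
    have hq4 : Nat.card (L ⧸ N.subgroupOf L) ≤ 4 := by
      refine Nat.le_of_mul_le_mul_right (c := Nat.card N) ?_ Nat.card_pos
      rw [hq, hNc]
      rw [hMc M hM, show 2 ^ n = 2 * (4 * 2 ^ (n - 3)) by
        rw [show (4 : ℕ) = 2 ^ 2 from rfl, ← pow_add, ← pow_succ']; congr 1; omega] at h2L
      exact Nat.le_of_mul_le_mul_left h2L two_pos
    have hcomm : ∀ x y : L ⧸ N.subgroupOf L, x * y = y * x := by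
      obtain ⟨k, hk⟩ := (hP.to_subgroup L).to_quotient (N.subgroupOf L) |>.exists_card_eq
      rw [hk] at hq4
      have hk2 : k ≤ 2 := (Nat.pow_le_pow_iff_right (le_refl 2)).1 (by simpa using hq4)
      interval_cases k
      · haveI := (Nat.card_eq_one_iff_unique.1 hk).1
        exact fun x y => Subsingleton.elim _ _
      · haveI := isCyclic_of_prime_card (p := 2) (by simpa using hk)
        exact fun x y => IsMulCommutative.is_comm.comm x y
      · exact fun x y => (IsPGroup.isMulCommutative_of_card_eq_prime_sq (p := 2) hk).is_comm.comm x y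
    have h := hcomm (⟨u, huL⟩ : L) (⟨v, hvL⟩ : L)
    rw [← commutatorElement_eq_one_iff_mul_comm, ← QuotientGroup.mk'_apply, ← QuotientGroup.mk'_apply,
      ← map_commutatorElement, QuotientGroup.mk'_apply, QuotientGroup.eq_one_iff, mem_subgroupOf] at h
    exact huv ((hφ v u).2 h)
  have hMker : ∀ w ∈ Z, M ≤ (φ w).ker := by
    intro w hw
    refine (hgenM ((φ w).ker ⊓ M) ⟨(hφs _ _).1 hw.1, hu⟩ ⟨(hφs _ _).1 hw.2, hv⟩
      (le_inf (hNle w) ?_) inf_le_right).ge.trans inf_le_left
    exact le_trans (zpowers_le.2 (D.pow_mem (hd ▸ mem_zpowers d) 2)) (hMD ▸ commutator_le_self M)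
  have hMab : ¬ ∀ x ∈ M, ∀ y ∈ M, ⁅x, y⁆ ∈ N := fun h => huv ((hφ v u).2 (h u hu v hv))
  have hkeq : ∀ (H : Subgroup G) (x : G), x ∉ H → H.index = 2 → H ⊔ zpowers x = ⊤ := fun H x hx hH =>
    PGroup.eq_sup_zpowers_of_card hP le_top (by rw [card_top, ← H.card_mul_index, hH, mul_comm]) (mem_top x) hx
  obtain ⟨w₀, hw₀, hw₀M⟩ : ∃ w ∈ Z, w ∉ M := by
    by_contra h
    push Not at h
    have hZM : Z ≤ M := h
    by_cases heq : Z = M
    · exact hMab fun x hx y hy => (hφ y x).1 (hMker y (heq ▸ hy) hx)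
    have h1 := PGroup.mul_card_le_of_lt hP (lt_of_le_of_ne hZM heq)
    have h2 : Nat.card M ≤ 2 * Nat.card Z := by
      have e1 := M.card_mul_index
      have e2 := Z.card_mul_index
      rw [hM, ← e2] at e1
      have : Nat.card Z * Z.index ≤ Nat.card Z * 4 := Nat.mul_le_mul_left _ hZi
      omega
    obtain ⟨x, hx, hxZ⟩ := SetLike.exists_of_lt (lt_of_le_of_ne hZM heq)
    have hsup := PGroup.eq_sup_zpowers_of_card hP hZM h2 hx hxZ
    refine hMab fun y hy z hz => (hφ z y).1 ?_
    have hxk : ∀ t ∈ M, x ∈ (φ t).ker := fun t ht => by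
      rw [← hsup] at ht
      exact (hφs _ _).1 ((sup_le (fun w hw => (hφs _ _).1 (hMker w hw hx))
        (hzp _ x (hφself x)) : Z ⊔ zpowers x ≤ (φ x).ker) ht)
    rw [← hsup] at hy
    exact (sup_le (fun w hw => (hφs _ _).1 (hMker w hw hz)) (hzp _ x (hxk z hz)) :
      Z ⊔ zpowers x ≤ (φ z).ker) hy
  have hw₀top : (φ w₀).ker = ⊤ :=
    top_le_iff.1 ((hkeq M w₀ hw₀M hM).ge.trans (sup_le (hMker w₀ hw₀) (hzp _ _ (hφself w₀))))
  have hcen : ∀ w ∈ Z, (φ w).ker = ⊤ := fun w hw =>
    top_le_iff.1 ((hkeq M w₀ hw₀M hM).ge.trans (sup_le (hMker w hw)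
      (hzp _ _ ((hφs _ _).1 (hw₀top ▸ mem_top w)))))
  have hZmem : ∀ w ∈ Z, ∀ y : G, w ∈ (φ y).ker := fun w hw y => (hφs _ _).1 (hcen w hw ▸ mem_top y)
  have hKiff : ∀ K : Subgroup G, K.index = 2 → (MC 2 K ↔ ¬ Z ≤ K) := by
    intro K hK
    have hKN : ⁅K, K⁆ ≤ N ↔ Z ≤ K := by
      constructor
      · intro h w hw
        by_contra hwK
        refine hMab fun x _ y _ => (hφ y x).1 ?_
        have hK' : ∀ t ∈ K, (φ t).ker = ⊤ := fun t ht =>
          top_le_iff.1 ((hkeq K w hwK hK).ge.trans (sup_le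
            (fun s hs => (hφ t s).2 (h (commutator_mem_commutator hs ht))) (hzp _ _ (hZmem w hw t))))
        exact (top_le_iff.1 ((hkeq K w hwK hK).ge.trans (sup_le
            (fun s hs => (hφs _ _).1 (hK' s hs ▸ mem_top y)) (hzp _ _ (hZmem w hw y))))).ge (mem_top x)
      · intro hZK
        rw [commutator_le]
        intro y hy z hz
        refine (hφ z y).1 ?_
        rcases hZK.eq_or_lt with h | h
        · exact hZmem y (h ▸ hy) z
        obtain ⟨x, hx, hxZ⟩ := SetLike.exists_of_lt h
        have hsup := PGroup.eq_sup_zpowers_of_card hP hZK (by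
          have e1 := K.card_mul_index
          have e2 := Z.card_mul_index
          rw [hK, ← e2] at e1
          have : Nat.card Z * Z.index ≤ Nat.card Z * 4 := Nat.mul_le_mul_left _ hZi
          omega) hx hxZ
        have hxk : ∀ t ∈ K, x ∈ (φ t).ker := fun t ht => by
          rw [← hsup] at ht
          exact (hφs _ _).1 ((sup_le (fun w hw => hZmem w hw x)
            (hzp _ x (hφself x)) : Z ⊔ zpowers x ≤ (φ x).ker) ht)
        rw [← hsup] at hy
        exact (sup_le (fun w hw => hZmem w hw z) (hzp _ x (hxk z hz)) :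
          Z ⊔ zpowers x ≤ (φ z).ker) hy
    constructor
    · rintro ⟨-, -, hK4⟩ hZK
      refine hdN (hKN.2 hZK ?_)
      have : ⁅K, K⁆ = D := by
        refine Subgroup.eq_of_le_of_card_ge (hKD K) (le_of_eq ?_)
        have e1 := D.card_mul_index
        have e2 := (⁅K, K⁆ : Subgroup G).card_mul_index
        rw [hDidx, ← e2, map_commutator_index hK, hK4] at e1
        exact Nat.eq_of_mul_eq_mul_right (by norm_num) e1
      rw [this, hd]; exact mem_zpowers d
    · intro hZK
      haveI := normal_of_index_eq_two hK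
      have hKDeq : ⁅K, K⁆ = D := by
        have hKn' : ¬ ⁅K, K⁆ ≤ N := fun h => hZK (hKN.1 h)
        -- a subgroup of `D` outside `N` contains a generator
        refine le_antisymm (hKD K) ?_
        obtain ⟨x, hx, hxN⟩ := SetLike.not_le_iff_exists.1 hKn'
        obtain ⟨i, rfl⟩ := mem_zpowers_iff.1 (hd ▸ hKD K hx)
        have hi : Odd i := Int.not_even_iff_odd.1 fun ⟨j, hj⟩ => hxN (mem_zpowers_iff.2
          ⟨j, by rw [hj, ← zpow_natCast, ← zpow_mul]; congr 1; omega⟩)
        have hco : IsCoprime i (orderOf d : ℤ) := by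
          rw [hdo, ← pow_succ]
          push_cast
          exact (((Int.prime_two).coprime_iff_not_dvd.mpr
            (fun h => Int.not_even_iff_odd.2 hi (even_iff_two_dvd.2 h))).symm).pow_right
        obtain ⟨s, t, hst⟩ := hco
        rw [hd, zpowers_le]
        have := zpow_mem hx s
        rwa [← zpow_mul, mul_comm, show s * i = 1 - t * (orderOf d : ℤ) by linarith, zpow_sub, zpow_one,
          zpow_mul', zpow_natCast, pow_orderOf_eq_one, one_zpow, inv_one, mul_one] at this
      refine mc_of_index (hMc K hK) (by omega) ?_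
      have h := map_commutator_index hK
      rw [hKDeq, hDidx] at h
      omega
  haveI := Fintype.ofFinite (Subgroup G)
  haveI hZn : Z.Normal := inferInstanceAs ((φ u).ker ⊓ (φ v).ker).Normal
  obtain ⟨e, he⟩ := hP.index Z
  have he0 : 1 ≤ e := by
    by_contra h
    rw [show e = 0 by omega, pow_zero, index_eq_one] at he
    exact huv ((he ▸ mem_top u : u ∈ Z)).2
  have h1 := card_between (p := 2) Z he he0
  have h2 := (card_max hP hnc).of_dvd (dvd_pow_self 2 two_ne_zero)
  rw [pow_one, Nat.card_eq_fintype_card, Fintype.card_subtype] at h1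
  rw [Nat.card_eq_fintype_card, Fintype.card_subtype] at h2
  rw [Nat.card_eq_fintype_card, Fintype.card_subtype]
  have h3 := Finset.card_filter_add_card_filter_not
    (s := Finset.univ.filter fun K : Subgroup G => K.index = 2) (fun K => Z ≤ K)
  have e1 : ((Finset.univ.filter fun K : Subgroup G => K.index = 2).filter fun K => Z ≤ K) =
      Finset.univ.filter fun K : Subgroup G => Z ≤ K ∧ K.index = 2 := by
    ext K; simp [and_comm]
  have e2 : ((Finset.univ.filter fun K : Subgroup G => K.index = 2).filter fun K => ¬ Z ≤ K) =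
      Finset.univ.filter fun K : Subgroup G => K.index = 2 ∧ MC 2 K := by
    ext K
    simp only [Finset.mem_filter, Finset.mem_univ, true_and]
    exact ⟨fun h => ⟨h.1, (hKiff K h.1).2 h.2⟩, fun h => ⟨h.1, (hKiff K h.1).1 h.2⟩⟩
  rw [e1, e2] at h3
  rw [Nat.ModEq] at h1 h2
  omega

end two

section main

/-- Kulakoff's congruence, with the exceptional groups. -/
theorem kulakoff {p : ℕ} [hp : Fact p.Prime] : ∀ (m : ℕ) (G : Type u) [Group G] [Finite G],
    Nat.card G = p ^ m → ¬ IsCyclic G → ∀ k, 1 ≤ k → k < m →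
      ((k + 1 = m ∨ ¬ MC p G) → sk G p k ≡ 1 + p [MOD p ^ 2]) ∧
        (k + 2 ≤ m → MC p G → sk G p k ≡ 1 [MOD p ^ 2]) := by
  intro m
  induction m using Nat.strong_induction_on with
  | _ m ih =>
    intro G _ _ hG hnc k hk1 hk2
    classical
    haveI := Fintype.ofFinite (Subgroup G)
    have hP : IsPGroup p G := IsPGroup.of_card hG
    by_cases hk : k + 1 = m
    · refine ⟨fun _ => ?_, fun h => by omega⟩
      have e : sk G p k = Nat.card {M : Subgroup G // M.index = p} := by
        refine Nat.card_congr (Equiv.subtypeEquivRight fun M => ?_)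
        have h := M.card_mul_index
        rw [hG, ← hk, pow_succ] at h
        constructor
        · intro e; rw [e] at h; exact Nat.eq_of_mul_eq_mul_left (pow_pos hp.out.pos _) h
        · intro e; rw [e] at h; exact Nat.eq_of_mul_eq_mul_right hp.out.pos h
      rw [e]; exact card_max hP hnc
    have hk3 : k + 2 ≤ m := by omega
    let Mx := Finset.univ.filter fun M : Subgroup G => M.index = p
    let Bad : Subgroup G → Prop := fun M => IsCyclic M ∨ (k + 3 ≤ m ∧ MC p M)
    have hcard : ∀ M : Subgroup G, M.index = p → Nat.card M = p ^ (m - 1) := by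
      intro M hM
      have h := M.card_mul_index
      rw [hM, hG, show p ^ m = p ^ (m - 1) * p by rw [← pow_succ]; congr 1; omega] at h
      exact Nat.eq_of_mul_eq_mul_right hp.out.pos h
    have hM : ∀ M ∈ Mx, sk M p k + p * (if Bad M then 1 else 0) ≡ 1 + p [MOD p ^ 2] := by
      intro M hM
      simp only [Mx, Finset.mem_filter, Finset.mem_univ, true_and] at hM
      by_cases hc : IsCyclic M
      · rw [if_pos (Or.inl hc), sk_of_isCyclic (hcard M hM) (by omega), mul_one]
      have h := ih (m - 1) (by omega) M (hcard M hM) hc k hk1 (by omega)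
      by_cases hb : Bad M
      · rw [if_pos hb, mul_one]
        obtain hb | ⟨hb1, hb2⟩ := hb
        · exact absurd hb hc
        · exact (h.2 (by omega) hb2).add_right p
      · rw [if_neg hb, mul_zero, add_zero]
        refine h.1 ?_
        by_cases hk' : k + 1 = m - 1
        · exact Or.inl hk'
        · exact Or.inr fun hmc => hb (Or.inr ⟨by omega, hmc⟩)
    set B := (Mx.filter Bad).card with hB
    have hN : Mx.card ≡ 1 + p [MOD p ^ 2] := by
      have h := card_max hP hnc
      rwa [Nat.card_eq_fintype_card, Fintype.card_subtype] at h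
    have hsum := Nat.ModEq.sum (s := Mx) hM
    rw [Finset.sum_add_distrib, Finset.sum_const, smul_eq_mul, ← Finset.mul_sum,
      ← Finset.card_filter, ← hB] at hsum
    have hmax := sum_over_maximal (p := p) hG hnc hk3
    rw [← Finset.sum_subtype Mx (by simp [Mx]) (fun M => sk M p k)] at hmax
    have key : sk G p k + p * B ≡ 1 + p [MOD p ^ 2] := by
      refine Nat.ModEq.add_right_cancel' p ?_
      have h1 : sk G p k + p * B + p ≡ Mx.card * (1 + p) [MOD p ^ 2] := by
        rw [add_right_comm]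
        exact (hmax.symm.add_right _).trans hsum
      refine h1.trans ((hN.mul_right _).trans ?_)
      rw [show (1 + p) * (1 + p) = 1 + p + p + p ^ 2 * 1 by ring]
      exact Nat.ModEq.symm (by rw [Nat.ModEq, Nat.add_mul_mod_self_left])
    have hBcard : B = Nat.card {M : Subgroup G // M.index = p ∧ IsCyclic M} +
        (if k + 3 ≤ m then Nat.card {M : Subgroup G // M.index = p ∧ MC p M} else 0) := by
      rw [hB, Nat.card_eq_fintype_card, Fintype.card_subtype]
      split_ifs with hk4
      · rw [Nat.card_eq_fintype_card, Fintype.card_subtype,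
          ← Finset.card_union_of_disjoint (Finset.disjoint_filter.2 fun M _ h1 h2 => h2.2.2.1 h1.2)]
        refine congrArg Finset.card (Finset.ext fun M => ?_)
        simp [Mx, Bad, hk4, and_or_left]
      · rw [add_zero]
        refine congrArg Finset.card (Finset.ext fun M => ?_)
        simp [Mx, Bad, hk4]
    refine ⟨fun h => ?_, fun _ hmc => ?_⟩
    · have hnmc := h.resolve_left hk
      have hB0 : p ∣ B := by
        rw [hBcard]
        refine dvd_add (cyclic_max_dvd hG (by omega) hnc hnmc) ?_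
        split_ifs with hk4
        · by_cases hp2 : p = 2
          · subst hp2; exact mc_max_even hG (by omega) hnc hnmc
          · rw [Nat.card_eq_zero.2 (Or.inl ⟨fun M => hp2 M.2.2.1⟩)]; exact dvd_zero p
        · exact dvd_zero p
      obtain ⟨t, ht⟩ := hB0
      rw [ht, ← mul_assoc, ← sq, Nat.ModEq, Nat.add_mul_mod_self_left] at key
      exact key
    · obtain ⟨rfl, -, -⟩ := id hmc
      have hB1 : Odd B := by
        rw [hBcard]
        have hc := cyclic_max_odd hG (by omega) hmc
        split_ifs with hk4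
        · have h2 := (card_max hP hnc).of_dvd (dvd_pow_self 2 two_ne_zero)
          have e : Nat.card {M : Subgroup G // M.index = 2} =
              Nat.card {M : Subgroup G // M.index = 2 ∧ IsCyclic M} +
              Nat.card {M : Subgroup G // M.index = 2 ∧ MC 2 M} := by
            simp only [Nat.card_eq_fintype_card, Fintype.card_subtype]
            rw [← Finset.card_union_of_disjoint (Finset.disjoint_filter.2 fun M _ h1 h2 => h2.2.2.1 h1.2)]
            refine congrArg Finset.card (Finset.ext fun M => ?_)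
            simp only [Finset.mem_union, Finset.mem_filter, Finset.mem_univ, true_and]
            exact ⟨fun h => (max_cases hG (by omega) hmc h).imp (⟨h, ·⟩) (⟨h, ·⟩),
              fun h => h.elim And.left And.left⟩
          rw [e, Nat.ModEq] at h2
          exact Nat.odd_iff.2 (by omega)
        · rwa [add_zero]
      obtain ⟨t, ht⟩ := hB1
      rw [ht, show 2 * (2 * t + 1) = 2 + 2 ^ 2 * t by ring, ← add_assoc, Nat.ModEq,
        Nat.add_mul_mod_self_left] at key
      exact Nat.ModEq.add_right_cancel' 2 key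

end main

end Cfsg.Agent.Kulakoff
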