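import Cfsg.Agent.EqLemmas
import Cfsg.Agent.S0713

/-!
# Subgroups generated by two elements of large prime order (owner: helper75)

Basic lemmas for `S4150`: transitivity and primitivity of a group generated by two elements of prime
order whose degrees are large, cycles inverted by even permutations.
-/

namespace Cfsg.Agent.PrimeCycles

open Equiv Equiv.Perm

variable {α : Type*} [Fintype α] [DecidableEq α]

theorem sign_eq_one_of_odd_order {σ : Perm α} (h : Odd (orderOf σ)) : sign σ = 1 := by
  rcases Int.units_eq_one_or (sign σ) with h1 | h1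
  · exact h1
  · exfalso
    have h2 := congrArg sign (pow_orderOf_eq_one σ)
    rw [map_pow, map_one, h1, h.neg_one_pow] at h2
    exact absurd h2 (by decide)

theorem apply_eq_of_pow_apply_eq {x : Perm α} {p k : ℕ} (hp : p.Prime) (hx : orderOf x = p)
    (hk : 0 < k) (hkp : k < p) {z : α} (h : (x ^ k) z = z) : x z = z := by
  obtain ⟨m, hm⟩ := exists_pow_eq_self_of_coprime (x := x) (n := k)
    (by rw [hx]; exact (Nat.coprime_comm.1 (hp.coprime_iff_not_dvd.2
      (fun hd => absurd (Nat.le_of_dvd hk hd) (not_le.2 hkp)))))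
  rw [← hm]
  exact pow_apply_eq_self_of_apply_eq_self h m

theorem isPretransitive_closure {x y : Perm α} {p : ℕ} (hp : p.Prime) (hx : orderOf x = p)
    (hy : y.IsCycle) (hcover : ∀ z, z ∈ x.support ∨ z ∈ y.support)
    (hcard : Fintype.card α < p + y.support.card) :
    MulAction.IsPretransitive (Subgroup.closure ({x, y} : Set (Perm α))) α := by
  have hxm : x ∈ Subgroup.closure ({x, y} : Set (Perm α)) := Subgroup.subset_closure (by simp)
  have hym : y ∈ Subgroup.closure ({x, y} : Set (Perm α)) := Subgroup.subset_closure (by simp)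
  obtain ⟨a, ha, -⟩ := id hy
  refine (MulAction.isPretransitive_iff_base a).2 fun z => ?_
  have hQ : ∀ w ∈ y.support, ∃ g : Subgroup.closure ({x, y} : Set (Perm α)), g • a = w := by
    intro w hw
    obtain ⟨i, hi⟩ := hy.exists_zpow_eq ha (mem_support.1 hw)
    exact ⟨⟨y ^ i, zpow_mem hym i⟩, hi⟩
  by_cases hz : z ∈ y.support
  · exact hQ z hz
  have hzx : z ∈ x.support := (hcover z).resolve_right hz
  obtain ⟨i, hi⟩ : ∃ i : ℕ, (x ^ i) z ∈ y.support := by
    by_contra hall
    push Not at hall
    have hsub : (Finset.range p).image (fun i => (x ^ i) z) ⊆ y.supportᶜ := fun w hw => by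
      obtain ⟨i, -, rfl⟩ := Finset.mem_image.1 hw
      exact Finset.mem_compl.2 (hall i)
    have key : ∀ i j : ℕ, i < j → j < p → (x ^ i) z ≠ (x ^ j) z := by
      intro i j hij hj h
      refine mem_support.1 hzx (apply_eq_of_pow_apply_eq hp hx (k := j - i) (by omega) (by omega) ?_)
      have : (x ^ i) ((x ^ (j - i)) z) = (x ^ i) z := by
        rw [← Perm.mul_apply, ← pow_add, show i + (j - i) = j by omega, h]
      exact (x ^ i).injective this
    have hinj : Set.InjOn (fun i => (x ^ i) z) (Finset.range p : Set ℕ) := by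
      intro i hi j hj h
      simp only [Finset.coe_range, Set.mem_Iio] at hi hj
      rcases Nat.lt_trichotomy i j with hlt | hlt | hlt
      · exact absurd h (key i j hlt hj)
      · exact hlt
      · exact absurd h.symm (key j i hlt hi)
    have := Finset.card_le_card hsub
    rw [Finset.card_image_of_injOn hinj, Finset.card_range, Finset.card_compl] at this
    have := y.support.card_le_univ
    omega
  obtain ⟨g, hg⟩ := hQ _ hi
  refine ⟨⟨x ^ i, pow_mem hxm i⟩⁻¹ * g, ?_⟩
  rw [mul_smul, hg]
  exact inv_smul_eq_iff.2 rfl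

theorem isPreprimitive_of_big_cycle {H : Subgroup (Perm α)} [MulAction.IsPretransitive H α]
    {y : Perm α} (hy : y ∈ H) (hyc : y.IsCycle) (hq : y.support.card.Prime)
    (hbig : Fintype.card α < 2 * y.support.card) : MulAction.IsPreprimitive H α := by
  classical
  set s : Set α := ((y.support : Set α))ᶜ with hs
  have htr := Equiv.Perm.isPretransitive_of_isCycle_mem hyc hy
  have hprim : MulAction.IsPreprimitive (fixingSubgroup H s) (SubMulAction.ofFixingSubgroup H s) := by
    apply MulAction.IsPreprimitive.of_prime_card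
    convert hq using 1
    rw [Nat.card_eq_fintype_card, Fintype.card_subtype]
    congr 1
    ext x
    simp [SubMulAction.mem_ofFixingSubgroup_iff, hs]
  refine MulAction.IsPreprimitive.of_card_lt
    (f := SubMulAction.ofFixingSubgroup_equivariantMap H s) ?_
  have hr : Set.range (SubMulAction.ofFixingSubgroup_equivariantMap H s) = (y.support : Set α) := by
    ext z
    constructor
    · rintro ⟨⟨w, hw⟩, rfl⟩
      rw [SubMulAction.mem_ofFixingSubgroup_iff, hs, Set.mem_compl_iff, not_not] at hw
      exact hw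
    · intro hz
      exact ⟨⟨z, by rw [SubMulAction.mem_ofFixingSubgroup_iff]; simpa [hs] using hz⟩, rfl⟩
  rw [hr, Set.ncard_coe_finset, Nat.card_eq_fintype_card]
  exact hbig

theorem mem_support_of_fixes_compl {g : Perm α} {S : Finset α} (h : ∀ z ∉ S, g z = z) {z : α}
    (hz : z ∈ S) : g z ∈ S := by
  by_contra hc
  exact hc (by rw [g.injective (h _ hc)]; exact hz)

theorem mem_zpowers_of_commute {x g : Perm α} (hx : x.IsCycle)
    (hg : ∀ z ∉ x.support, g z = z) (hc : Commute g x) : g ∈ Subgroup.zpowers x := by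
  obtain ⟨a, ha, -⟩ := id hx
  have ha' : a ∈ x.support := mem_support.2 ha
  obtain ⟨j, hj⟩ := hx.exists_zpow_eq ha (mem_support.1 (mem_support_of_fixes_compl hg ha'))
  refine ⟨j, ?_⟩
  ext z
  by_cases hz : z ∈ x.support
  · obtain ⟨k, rfl⟩ := hx.exists_zpow_eq ha (mem_support.1 hz)
    calc (x ^ j) ((x ^ k) a) = (x ^ k) ((x ^ j) a) := by
          rw [← Perm.mul_apply, ← Perm.mul_apply, ← zpow_add, ← zpow_add, add_comm]
      _ = (x ^ k) (g a) := by rw [hj]
      _ = g ((x ^ k) a) := by
          rw [← Perm.mul_apply, ← Perm.mul_apply, (hc.zpow_right k).eq]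
  · rw [hg z hz]
    exact zpow_apply_eq_self_of_apply_eq_self (notMem_support.1 hz) j

/-- An element inverting a cycle of length `≡ 3 [MOD 4]` and fixing the other points is odd. -/
theorem sign_of_inverts {x g : Perm α} (hx : x.IsCycle) (hn : x.support.card % 4 = 3)
    (hg : ∀ z ∉ x.support, g z = z) (hinv : g * x * g⁻¹ = x⁻¹) : sign g = -1 := by
  obtain ⟨a, ha, -⟩ := id hx
  have ha' : a ∈ x.support := mem_support.2 ha
  have hconj : ∀ (k : ℤ) z, g ((x ^ k) z) = (x ^ (-k)) (g z) := by
    intro k z
    have : g * x ^ k * g⁻¹ = x ^ (-k) := by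
      rw [← conj_zpow, hinv, inv_zpow, zpow_neg]
    rw [← Perm.mul_apply, ← Perm.mul_apply, ← this]
    group
  obtain ⟨j, hj⟩ := hx.exists_zpow_eq ha (mem_support.1 (mem_support_of_fixes_compl hg ha'))
  have hga : g (g a) = a := by
    conv_lhs => rw [← hj]
    rw [hconj, ← hj, ← Perm.mul_apply, ← zpow_add, neg_add_cancel, zpow_zero, Perm.one_apply]
  have hg2 : g * g = 1 := by
    ext z
    by_cases hz : z ∈ x.support
    · obtain ⟨k, rfl⟩ := hx.exists_zpow_eq ha (mem_support.1 hz)
      rw [Perm.mul_apply, hconj, hconj, neg_neg, hga, Perm.one_apply]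
    · rw [Perm.mul_apply, hg z hz, hg z hz, Perm.one_apply]
  have hord : orderOf x = x.support.card := hx.orderOf
  -- at most one point of the cycle is fixed
  have hfix : ∀ z ∈ x.support, ∀ w ∈ x.support, g z = z → g w = w → z = w := by
    intro z hz w hw hgz hgw
    obtain ⟨k, rfl⟩ := hx.exists_zpow_eq (mem_support.1 hz) (mem_support.1 hw)
    rw [hconj, hgz] at hgw
    have h2 : (x ^ (k + k)) z = z := by
      conv_rhs => rw [← Perm.one_apply (α := α) z, ← zpow_zero x, ← add_neg_cancel k, zpow_add,
        Perm.mul_apply, hgw]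
      rw [← Perm.mul_apply, ← zpow_add]
    have h3 : x ^ (k + k) = 1 := by
      ext w
      by_cases hw : w ∈ x.support
      · obtain ⟨i, rfl⟩ := hx.exists_zpow_eq (mem_support.1 hz) (mem_support.1 hw)
        rw [← Perm.mul_apply, ← zpow_add, add_comm, zpow_add, Perm.mul_apply, h2, Perm.one_apply]
      · exact zpow_apply_eq_self_of_apply_eq_self (notMem_support.1 hw) _
    have h4 : x ^ k = 1 := by
      rw [← orderOf_dvd_iff_zpow_eq_one] at h3 ⊢
      refine Int.dvd_of_dvd_mul_right_of_gcd_one (a := (orderOf x : ℤ)) (b := 2) (c := k)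
        (by rw [two_mul]; exact h3) ?_
      rw [Int.gcd_def, Int.natAbs_natCast, hord]
      show Nat.gcd _ 2 = 1
      exact Nat.coprime_two_right.2 (Nat.odd_iff.2 (by omega))
    rw [h4, Perm.one_apply]
  have hsub : g.support ⊆ x.support := fun z hz => by
    by_contra hc
    exact mem_support.1 hz (hg z hc)
  have hge : x.support.card ≤ g.support.card + 1 := by
    have h1 : (x.support \ g.support).card ≤ 1 := Finset.card_le_one.2 fun z hz w hw => by
      rw [Finset.mem_sdiff, notMem_support] at hz hw
      exact hfix z hz.1 w hw.1 hz.2 hw.2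
    have := Finset.le_card_sdiff g.support x.support
    omega
  have hle := Finset.card_le_card hsub
  have hall : ∀ b ∈ g.cycleType, b = 2 := by
    intro b hb
    have h1 : b ∣ 2 := (dvd_of_mem_cycleType hb).trans (orderOf_dvd_of_pow_eq_one (by rw [pow_two, hg2]))
    have h2 := two_le_of_mem_cycleType hb
    have := Nat.le_of_dvd two_pos h1
    omega
  have hsum : g.cycleType.sum = Multiset.card g.cycleType * 2 := by
    conv_lhs => rw [Multiset.eq_replicate_of_mem hall, Multiset.sum_replicate, smul_eq_mul]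
  rw [sign_of_cycleType, hsum]
  have hs := sum_cycleType g
  rw [hsum] at hs
  refine Odd.neg_one_pow ?_
  rw [Nat.odd_iff]
  omega

/-- An even permutation normalizing a cycle of prime length `p ≡ 3 [MOD 4]` and fixing the other
points centralizes it as soon as its action has order dividing `2`. -/
theorem mem_zpowers_of_sq {x g : Perm α} (hx : x.IsCycle) (hp : x.support.card.Prime)
    (hn : x.support.card % 4 = 3) (hg : ∀ z ∉ x.support, g z = z) (hgs : sign g = 1) {r : ℕ}
    (hr : g * x * g⁻¹ = x ^ r) (hr2 : r * r ≡ 1 [MOD x.support.card]) :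
    g ∈ Subgroup.zpowers x := by
  have : Fact x.support.card.Prime := ⟨hp⟩
  have hord : orderOf x = x.support.card := hx.orderOf
  have h1 : ((r : ZMod x.support.card) - 1) * ((r : ZMod x.support.card) + 1) = 0 := by
    have := (ZMod.natCast_eq_natCast_iff _ _ _).2 hr2
    push_cast at this
    linear_combination this
  rcases mul_eq_zero.1 h1 with h2 | h2
  · refine mem_zpowers_of_commute hx hg ?_
    have h3 : x ^ r = x := by
      conv_rhs => rw [← pow_one x]
      rw [pow_eq_pow_iff_modEq, hord, ← ZMod.natCast_eq_natCast_iff, Nat.cast_one]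
      exact sub_eq_zero.1 h2
    rw [h3, mul_inv_eq_iff_eq_mul] at hr
    exact hr
  · exfalso
    have h3 : x ^ r = x⁻¹ := by
      rw [eq_inv_iff_mul_eq_one, ← pow_succ, ← orderOf_dvd_iff_pow_eq_one, hord,
        ← ZMod.natCast_eq_zero_iff]
      push_cast
      exact h2
    rw [sign_of_inverts hx hn hg (hr.trans h3)] at hgs
    exact absurd hgs (by decide)

/-- Multiple transitivity from a cycle of prime length. -/
theorem isMultiplyPretransitive_three {H : Subgroup (Perm α)} (hG : MulAction.IsPreprimitive H α)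
    {x : Perm α} (hx : x ∈ H) (hxc : x.IsCycle) (hp : x.support.card.Prime)
    (hcard : Fintype.card α = x.support.card + 2) : MulAction.IsMultiplyPretransitive H α 3 := by
  classical
  set s : Set α := ((x.support : Set α))ᶜ with hs
  have hscard : s.ncard = 1 + 1 := by
    rw [hs, Set.ncard_compl, Set.ncard_coe_finset, Nat.card_eq_fintype_card]
    omega
  have htr := Equiv.Perm.isPretransitive_of_isCycle_mem hxc hx
  have hprim : MulAction.IsPreprimitive (fixingSubgroup H s) (SubMulAction.ofFixingSubgroup H s) := by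
    apply MulAction.IsPreprimitive.of_prime_card
    convert hp using 1
    rw [Nat.card_eq_fintype_card, Fintype.card_subtype]
    congr 1
    ext x
    simp [SubMulAction.mem_ofFixingSubgroup_iff, hs]
  have hmp := hG.isMultiplyPreprimitive hscard (by
    rw [Nat.card_eq_fintype_card]; have := hp.two_le; omega) hprim
  exact hmp.isMultiplyPretransitive

/-- An element of `H` sending three given distinct points to three others. -/
theorem exists_map_three {H : Subgroup (Perm α)} (h3 : MulAction.IsMultiplyPretransitive H α 3)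
    {a b c a' b' c' : α} (hab : a ≠ b) (hac : a ≠ c) (hbc : b ≠ c)
    (hab' : a' ≠ b') (hac' : a' ≠ c') (hbc' : b' ≠ c') :
    ∃ g ∈ H, g a = a' ∧ g b = b' ∧ g c = c' := by
  have hinj : ∀ {u v w : α}, u ≠ v → u ≠ w → v ≠ w → Function.Injective ![u, v, w] := by
    intro u v w h1 h2 h3 i j h
    fin_cases i <;> fin_cases j <;> simp_all [Ne.symm]
  obtain ⟨g, hg⟩ := h3.exists_smul_eq (⟨_, hinj hab hac hbc⟩ : Fin 3 ↪ α) ⟨_, hinj hab' hac' hbc'⟩
  refine ⟨g, g.2, ?_, ?_, ?_⟩
  · simpa [Subgroup.smul_def] using congrArg (fun e : Fin 3 ↪ α => e 0) hg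
  · simpa [Subgroup.smul_def] using congrArg (fun e : Fin 3 ↪ α => e 1) hg
  · simpa [Subgroup.smul_def] using congrArg (fun e : Fin 3 ↪ α => e 2) hg

/-- A Sylow subgroup of prime order equal to its normalizer has a normal complement. -/
theorem exists_normal_complement_of_prime {K : Type*} [Group K] [Finite K] {p : ℕ} [hp : Fact p.Prime]
    {x : K} (hx : orderOf x = p) (hp2 : ¬ p * p ∣ Nat.card K)
    (hN : ∀ g : K, g * x * g⁻¹ ∈ Subgroup.zpowers x → g ∈ Subgroup.zpowers x) :
    ∃ M : Subgroup K, M.Normal ∧ Nat.card M * p = Nat.card K ∧ ¬ p ∣ Nat.card M := by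
  have hdvd : p ∣ Nat.card K := hx ▸ orderOf_dvd_natCard x
  have hfac : (Nat.card K).factorization p = 1 := by
    have h1 : p ^ 1 ∣ Nat.card K := by rwa [pow_one]
    have h2 : ¬ p ^ 2 ∣ Nat.card K := by rwa [pow_two]
    rw [hp.out.pow_dvd_iff_le_factorization Nat.card_pos.ne'] at h1 h2
    omega
  let P : Sylow p K := Sylow.ofCard (Subgroup.zpowers x) (by rw [Nat.card_zpowers, hx, hfac, pow_one])
  have hP : Subgroup.normalizer (P : Subgroup K) ≤ Subgroup.centralizer (P : Set K) := by
    intro g hg
    have hg' : g ∈ Subgroup.normalizer (Subgroup.zpowers x : Set K) := hg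
    have h1 := hN g ((Subgroup.mem_normalizer_iff.1 hg' x).1 (Subgroup.mem_zpowers x))
    rw [Subgroup.mem_centralizer_iff]
    intro y hy
    obtain ⟨i, rfl⟩ := Subgroup.mem_zpowers_iff.1 (show y ∈ Subgroup.zpowers x from hy)
    obtain ⟨j, rfl⟩ := Subgroup.mem_zpowers_iff.1 h1
    rw [← zpow_add, ← zpow_add, add_comm]
  refine ⟨(MonoidHom.transferSylow P hP).ker, inferInstance, ?_,
    MonoidHom.not_dvd_card_ker_transferSylow P hP⟩
  have := (MonoidHom.ker_transferSylow_isComplement' P hP).card_mul_card
  rwa [show Nat.card P = p by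
    rw [show (P : Subgroup K) = Subgroup.zpowers x from rfl, Nat.card_zpowers, hx]] at this

end Cfsg.Agent.PrimeCycles
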