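import Cfsg.Agent.Lib.PGroup.Basic

/-!
# Coprime elements fixing all small elements of a p-group (owner: helper75)

* `IsSmall p x`: `x ^ p = 1`, or `p = 2` and `x ^ 4 = 1`
* `commute_of_commute_small`: a `p'`-element normalizing the `p`-group `D` and centralizing its small
  elements centralizes `D` (all primes, including 2)
-/

set_option autoImplicit false

namespace Cfsg.Agent.ClassIndex

open Subgroup
open scoped commutatorElement

variable {G : Type*} [Group G]

/-- order dividing `p`, or `4` for `p = 2` -/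
def IsSmall (p : ℕ) (x : G) : Prop := x ^ p = 1 ∨ (p = 2 ∧ x ^ 4 = 1)

theorem commute_of_disp_commute [Finite G] {p : ℕ} [Fact p.Prime] {y x : G}
    (hy : Nat.Coprime (orderOf y) p) {D : Subgroup G} (hD : IsPGroup p D)
    (hu : x⁻¹ * (y * x * y⁻¹) ∈ D) (hc : Commute y (x⁻¹ * (y * x * y⁻¹))) : Commute y x := by
  set u := x⁻¹ * (y * x * y⁻¹) with hudef
  have hpow : ∀ n : ℕ, y ^ n * x * (y ^ n)⁻¹ = x * u ^ n := by
    intro n
    induction n with
    | zero => simp
    | succ n ih =>
      calc y ^ (n + 1) * x * (y ^ (n + 1))⁻¹ = y * (y ^ n * x * (y ^ n)⁻¹) * y⁻¹ := by rw [pow_succ']; group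
        _ = (y * x * y⁻¹) * (y * u ^ n * y⁻¹) := by rw [ih]; group
        _ = x * u * u ^ n := by rw [(hc.pow_right n).eq, mul_inv_cancel_right, hudef, mul_inv_cancel_left]
        _ = x * u ^ (n + 1) := by rw [pow_succ', mul_assoc]
  have h := hpow (orderOf y)
  rw [pow_orderOf_eq_one, one_mul, inv_one, mul_one] at h
  have h2 : orderOf u ∣ orderOf y := orderOf_dvd_of_pow_eq_one (mul_left_cancel (h.symm.trans (mul_one x).symm))
  obtain ⟨j, hj⟩ := IsPGroup.iff_orderOf.mp hD ⟨u, hu⟩
  rw [← Subgroup.orderOf_coe (⟨u, hu⟩ : D)] at hj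
  have h3 : orderOf u = 1 := Nat.eq_one_of_dvd_coprimes (hy.pow_right j) h2 (hj ▸ dvd_rfl)
  have h4 : x = y * x * y⁻¹ := inv_mul_eq_one.mp (orderOf_eq_one_iff.mp h3)
  show y * x = x * y
  calc y * x = y * x * y⁻¹ * y := (inv_mul_cancel_right _ _).symm
    _ = x * y := by rw [← h4]

theorem commute_of_commute_small [Finite G] {p : ℕ} [hp : Fact p.Prime] {y : G}
    (hy : Nat.Coprime (orderOf y) p) : ∀ (D : Subgroup G), IsPGroup p D →
      y ∈ normalizer (D : Set G) → (∀ x ∈ D, IsSmall p x → Commute y x) → ∀ x ∈ D, Commute y x := by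
  intro D
  induction h : Nat.card D using Nat.strong_induction_on generalizing D with
  | _ m ih =>
    subst h
    intro hD hyD hsmall
    by_contra hcon
    push Not at hcon
    -- proper invariant subgroups are centralized
    have hsub : ∀ N : Subgroup G, N < D → y ∈ normalizer (N : Set G) → ∀ x ∈ N, Commute y x := by
      intro N hN hyN
      refine ih (Nat.card N) ?_ N rfl (hD.to_le hN.le) hyN (fun x hx => hsmall x (hN.le hx))
      rcases (Subgroup.card_le_of_le hN.le).lt_or_eq with h | h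
      · exact h
      · exact absurd (Subgroup.eq_of_le_of_card_ge hN.le h.ge) hN.ne
    have hmemD : ∀ x ∈ D, x⁻¹ * (y * x * y⁻¹) ∈ D := fun x hx =>
      D.mul_mem (D.inv_mem hx) ((mem_normalizer_iff.mp hyD x).mp hx)
    -- the displacements generate D
    set W := closure {u : G | ∃ x ∈ D, u = x⁻¹ * (y * x * y⁻¹)} with hW
    have hWD : W ≤ D := (closure_le D).mpr (by rintro _ ⟨x, hx, rfl⟩; exact hmemD x hx)
    have hyW : y ∈ normalizer (W : Set G) := by
      rw [mem_normalizer_iff_map_conj_eq]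
      refine Subgroup.eq_of_le_of_card_ge ?_ (by rw [Subgroup.card_map_of_injective (MulAut.conj y).injective])
      rw [hW, MonoidHom.map_closure, closure_le]
      rintro _ ⟨_, ⟨x, hx, rfl⟩, rfl⟩
      refine subset_closure ⟨y * x * y⁻¹, (mem_normalizer_iff.mp hyD x).mp hx, ?_⟩
      show y * (x⁻¹ * (y * x * y⁻¹)) * y⁻¹ = _
      group
    have hWeq : W = D := by
      by_contra hne
      obtain ⟨x, hx, hxy⟩ := hcon
      exact hxy (commute_of_disp_commute hy hD (hmemD x hx)
        (hsub W (lt_of_le_of_ne hWD hne) hyW _ (subset_closure ⟨x, hx, rfl⟩)))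
    -- normal proper invariant subgroups are central
    have hcentral : ∀ N : Subgroup G, N < D → y ∈ normalizer (N : Set G) → D ≤ normalizer (N : Set G) →
        D ≤ centralizer (N : Set G) := by
      intro N hN hyN hDN
      rw [← hWeq, hW, closure_le]
      rintro _ ⟨x, hx, rfl⟩ n hn
      have h1 : Commute y n := hsub N hN hyN n hn
      have hn' : x * n * x⁻¹ ∈ N := (mem_normalizer_iff.mp (hDN hx) n).mp hn
      have h2 : Commute y (x * n * x⁻¹) := hsub N hN hyN _ hn'
      calc n * (x⁻¹ * (y * x * y⁻¹)) = x⁻¹ * ((x * n * x⁻¹) * y) * x * y⁻¹ := by group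
        _ = x⁻¹ * (y * (x * n * x⁻¹)) * x * y⁻¹ := by rw [h2.eq]
        _ = x⁻¹ * (y * x * y⁻¹) * (y * n * y⁻¹) := by group
        _ = x⁻¹ * (y * x * y⁻¹) * n := by rw [h1.eq, mul_inv_cancel_right]
    -- the Frattini subgroup
    set F := (frattini D).map D.subtype with hF
    have hDne : Nontrivial D := by
      obtain ⟨x, hx, hxy⟩ := hcon
      exact ⟨⟨⟨x, hx⟩, 1, fun h0 => hxy (by
        have : x = 1 := congrArg Subtype.val h0
        rw [this]; exact Commute.one_right y)⟩⟩
    have hFlt : F < D := by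
      refine lt_of_le_of_ne (map_subtype_le _) fun he => ?_
      have h2 : (frattini D).map D.subtype = (⊤ : Subgroup D).map D.subtype := by
        rw [← MonoidHom.range_eq_map, range_subtype]; exact he
      have h3 := map_injective D.subtype_injective h2
      haveI := hDne
      obtain ⟨M, hM, -⟩ := (IsCoatomic.eq_top_or_exists_le_coatom (⊥ : Subgroup D)).resolve_left bot_ne_top
      exact hM.1 (top_le_iff.mp (h3 ▸ frattini_le_coatom hM))
    have hnormF : ∀ g ∈ normalizer (D : Set G), g ∈ normalizer (F : Set G) := by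
      intro g hg
      rw [mem_normalizer_iff_map_conj_eq] at hg ⊢
      let e : MulAut D :=
        ((MulAut.conj g).subgroupMap D).trans (MulEquiv.subgroupCongr hg)
      have he : (frattini D).map e.toMonoidHom = frattini D :=
        characteristic_iff_map_eq.mp inferInstance e
      rw [hF, map_map]
      conv_rhs => rw [← he, map_map]
      rfl
    have hFc := hcentral F hFlt (hnormF y hyD) (fun d hd => hnormF d (le_normalizer hd))
    have hpowF : ∀ x ∈ D, x ^ p ∈ F := fun x hx =>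
      ⟨⟨x, hx⟩ ^ p, PGroup.pow_mem_frattini hD _, rfl⟩
    have hcomF : ∀ a ∈ D, ∀ b ∈ D, ⁅a, b⁆ ∈ F := fun a ha b hb =>
      ⟨⁅(⟨a, ha⟩ : D), ⟨b, hb⟩⁆, PGroup.commutator_le_frattini hD
        (Subgroup.commutator_mem_commutator (mem_top _) (mem_top _)), rfl⟩
    have hFy : ∀ f ∈ F, Commute y f := hsub F hFlt (hnormF y hyD)
    obtain ⟨x, hx, hxy⟩ := hcon
    set u := x⁻¹ * (y * x * y⁻¹) with hu
    have huD : u ∈ D := hmemD x hx
    have hcc : ∀ f ∈ F, ∀ d ∈ D, Commute f d := fun f hf d hd => hFc hd f hf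
    -- y fixes x ^ p
    have hxp : (x * u) ^ p = x ^ p := by
      have : x * u = MulAut.conj y x := by rw [hu, mul_inv_cancel_left, MulAut.conj_apply]
      rw [this, ← map_pow, MulAut.conj_apply, (hFy _ (hpowF x hx)).eq, mul_inv_cancel_right]
    have hcux := hcomF u huD x hx
    have hx' : Commute x ⁅u, x⁆ := (hcc _ hcux x hx).symm
    have hu' : Commute u ⁅u, x⁆ := (hcc _ hcux u huD).symm
    have hcp : ⁅u, x⁆ ^ p = 1 := by
      have h1 : (u * x * u⁻¹) ^ p = x ^ p := by
        rw [conj_pow, (hcc _ (hpowF x hx) u huD).symm.eq, mul_inv_cancel_right]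
      have h2 : u * x * u⁻¹ = ⁅u, x⁆ * x := by rw [commutatorElement_def]; group
      rw [h2, hx'.symm.mul_pow] at h1
      exact mul_eq_right.mp h1
    refine hxy (commute_of_disp_commute hy hD huD (hsmall u huD ?_))
    by_cases hp2 : p = 2
    · subst hp2
      right
      refine ⟨rfl, ?_⟩
      rw [PGroup.mul_pow_eq hx' hu', Nat.choose_self, pow_one] at hxp
      have hu2 : u ^ 2 = (x ^ 2)⁻¹ * ⁅u, x⁆⁻¹ * x ^ 2 := by
        calc u ^ 2 = (x ^ 2)⁻¹ * ⁅u, x⁆⁻¹ * (⁅u, x⁆ * x ^ 2 * u ^ 2) := by group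
          _ = _ := by rw [hxp]
      rw [show u ^ 4 = (u ^ 2) ^ 2 from pow_mul u 2 2, hu2,
        show ((x ^ 2)⁻¹ * ⁅u, x⁆⁻¹ * x ^ 2) ^ 2 = (x ^ 2)⁻¹ * (⁅u, x⁆ ^ 2)⁻¹ * x ^ 2 by simp [pow_two, mul_assoc], hcp]
      simp
    · left
      rw [PGroup.mul_pow_prime_eq hp.out hp2 hx' hu' hcp] at hxp
      exact mul_eq_left.mp hxp

end Cfsg.Agent.ClassIndex
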