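import Cfsg.Agent.Lib.Frobenius.RepAux

/-!
# A relative Frobenius kernel theorem (owner: helper75)

`L ≤ G`, `K` normal in `L`, and no element of `L ∖ K` is conjugate into `L ∖ K` by an element outside
`L`. Then `exists_relative_kernel`: there is a normal subgroup `N` of `G` with `N ∩ L = K` and
`|G : N| = |L : K|`.
-/

namespace Cfsg.Agent.TIKernel

open Module Cfsg.Agent.Frobenius
open scoped BigOperators

universe u

variable {G : Type u} [Group G] [Finite G] {L : Subgroup G} (K : Subgroup L) [K.Normal]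

/-- No element of `L ∖ K` is conjugate into `L` by an element outside `L`. -/
def IsTIDiff : Prop :=
  ∀ x : L, x ∉ K → ∀ g : G, g⁻¹ * (x : G) * g ∈ L → g ∈ L

/-- The elements with no conjugate in `L ∖ K`. -/
def kerSet : Set G := {x | ∀ g : G, ∀ hx : g⁻¹ * x * g ∈ L, (⟨_, hx⟩ : L) ∈ K}

theorem one_mem_kerSet : (1 : G) ∈ kerSet K := fun g hx => by
  have : (⟨_, hx⟩ : L) = 1 := Subtype.ext (by simp)
  rw [this]; exact one_mem K

theorem inv_mem_kerSet {x : G} (hx : x ∈ kerSet K) : x⁻¹ ∈ kerSet K := fun g hg => by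
  have h1 : g⁻¹ * x * g ∈ L := by
    have := L.inv_mem hg
    simpa [mul_assoc] using this
  have : (⟨_, hg⟩ : L) = (⟨_, h1⟩ : L)⁻¹ := Subtype.ext (by simp [mul_assoc])
  rw [this]; exact K.inv_mem (hx g h1)

theorem conj_mem_kerSet {x : G} (hx : x ∈ kerSet K) (a : G) : a * x * a⁻¹ ∈ kerSet K := fun g hg => by
  have h1 : (a⁻¹ * g)⁻¹ * x * (a⁻¹ * g) ∈ L := by
    have : (a⁻¹ * g)⁻¹ * x * (a⁻¹ * g) = g⁻¹ * (a * x * a⁻¹) * g := by group
    rw [this]; exact hg
  have h2 := hx (a⁻¹ * g) h1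
  have : (⟨_, hg⟩ : L) = ⟨_, h1⟩ := Subtype.ext (by simp [mul_assoc])
  rw [this]; exact h2

variable {K}

theorem mem_kerSet_iff_of_mem (hS : IsTIDiff K) (x : L) : (x : G) ∈ kerSet K ↔ x ∈ K := by
  constructor
  · intro h
    have h1 := h 1 (by simp)
    have e : (⟨(1 : G)⁻¹ * (x : G) * 1, by simp⟩ : L) = x := Subtype.ext (by simp)
    rwa [e] at h1
  · intro hx g hg
    by_contra hne
    have hback : g⁻¹⁻¹ * ((⟨_, hg⟩ : L) : G) * g⁻¹ = x := by
      show g⁻¹⁻¹ * (g⁻¹ * (x : G) * g) * g⁻¹ = x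
      group
    have hgL : g ∈ L := inv_mem_iff.mp (hS _ hne g⁻¹ (by rw [hback]; exact x.2))
    refine hne ?_
    have : (⟨_, hg⟩ : L) = (⟨g, hgL⟩ : L)⁻¹ * x * (⟨g, hgL⟩ : L)⁻¹⁻¹ := Subtype.ext (by simp)
    rw [this]; exact (inferInstance : K.Normal).conj_mem x hx _

theorem conj_equiv_aux (hS : IsTIDiff K) {q₁ q₂ : G ⧸ L} {l₁ l₂ : L} (h₁ : l₁ ∉ K)
    (h : q₁.out * (l₁ : G) * q₁.out⁻¹ = q₂.out * (l₂ : G) * q₂.out⁻¹) : q₁ = q₂ ∧ l₁ = l₂ := by
  have hmem : q₁.out⁻¹ * q₂.out ∈ L := by
    refine hS l₁ h₁ _ ?_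
    have : (q₁.out⁻¹ * q₂.out)⁻¹ * (l₁ : G) * (q₁.out⁻¹ * q₂.out) = l₂ := by
      calc _ = q₂.out⁻¹ * (q₁.out * (l₁ : G) * q₁.out⁻¹) * q₂.out := by group
        _ = l₂ := by rw [h]; group
    rw [this]; exact l₂.2
  have hq : q₁ = q₂ := by
    have := (QuotientGroup.eq (a := q₁.out) (b := q₂.out)).mpr hmem
    rwa [QuotientGroup.out_eq', QuotientGroup.out_eq'] at this
  subst hq
  exact ⟨rfl, Subtype.ext (mul_left_cancel (mul_right_cancel h))⟩

theorem conj_out_not_mem (hS : IsTIDiff K) (q : G ⧸ L) {l : L} (hl : l ∉ K) :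
    q.out * (l : G) * q.out⁻¹ ∉ kerSet K := fun h => hl (by
  have := conj_mem_kerSet K h q.out⁻¹
  rw [show q.out⁻¹ * (q.out * (l : G) * q.out⁻¹) * q.out⁻¹⁻¹ = l by group] at this
  exact (mem_kerSet_iff_of_mem hS l).mp this)

/-- Elements outside the kernel set correspond to pairs (coset, element of `L ∖ K`). -/
noncomputable def pairsEquiv (hS : IsTIDiff K) :
    (G ⧸ L) × {l : L // l ∉ K} ≃ {x : G // x ∉ kerSet K} :=
  Equiv.ofBijective (fun z => ⟨z.1.out * (z.2.1 : G) * z.1.out⁻¹, conj_out_not_mem hS z.1 z.2.2⟩) <| by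
    constructor
    · rintro ⟨q₁, l₁, h₁⟩ ⟨q₂, l₂, h₂⟩ h
      obtain ⟨rfl, rfl⟩ := conj_equiv_aux hS h₁ (congrArg Subtype.val h)
      rfl
    · rintro ⟨x, hx⟩
      simp only [kerSet, Set.mem_ofPred_eq, not_forall] at hx
      obtain ⟨g, hg, hne⟩ := hx
      obtain ⟨v, hv⟩ := QuotientGroup.mk_out_eq_mul L g
      refine ⟨((g : G ⧸ L), ⟨v⁻¹ * ⟨_, hg⟩ * v⁻¹⁻¹, fun h => hne ?_⟩), Subtype.ext ?_⟩
      · have := (inferInstance : K.Normal).conj_mem _ h v
        simpa [mul_assoc] using this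
      · simp only [hv]
        simp [mul_assoc]

theorem card_kerSet_add (hS : IsTIDiff K) :
    Nat.card (kerSet K) + L.index * Nat.card {l : L // l ∉ K} = Nat.card G := by
  classical
  rw [Subgroup.index_eq_card, ← Nat.card_prod, Nat.card_congr (pairsEquiv hS), ← Nat.card_sum]
  exact Nat.card_congr (Equiv.sumCompl (fun x => x ∈ kerSet K))

theorem card_diff_add : Nat.card {l : L // l ∉ K} + Nat.card K = Nat.card L := by
  classical
  rw [add_comm, ← Nat.card_sum]
  exact Nat.card_congr (Equiv.sumCompl (fun x => x ∈ K))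

theorem card_kerSet_mul (hS : IsTIDiff K) : Nat.card (kerSet K) * K.index = Nat.card G := by
  have h1 := card_kerSet_add hS
  have h2 := card_diff_add (K := K)
  have h3 := L.index_mul_card
  have h4 : Nat.card K * K.index = Nat.card L := K.card_mul_index
  have h5 : Nat.card (kerSet K) = L.index * Nat.card K := by
    rw [← h3, ← h2, mul_add] at h1
    omega
  rw [h5, mul_assoc, h4, h3]

theorem pow_mem_kerSet (hS : IsTIDiff K) {x y : G} (hx : x ∈ kerSet K) (hy : y ∈ Subgroup.zpowers x) :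
    y ∈ kerSet K := by
  intro g hg
  by_contra hne
  obtain ⟨i, rfl⟩ := Subgroup.mem_zpowers_iff.1 hy
  have hxL : g⁻¹ * x * g ∈ L := by
    refine hS ⟨_, hg⟩ hne (g⁻¹ * x * g) ?_
    have : (g⁻¹ * x * g)⁻¹ * (g⁻¹ * x ^ i * g) * (g⁻¹ * x * g) = g⁻¹ * x ^ i * g := by
      calc _ = g⁻¹ * (x⁻¹ * x ^ i * x) * g := by group
        _ = _ := by rw [mul_assoc x⁻¹, (Commute.self_zpow x i).eq.symm, inv_mul_cancel_left]
    rw [this]; exact hg
  have := K.zpow_mem (hx g hxL) i
  apply hne
  have e : (⟨_, hg⟩ : L) = (⟨_, hxL⟩ : L) ^ i := Subtype.ext (by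
    rw [Subgroup.coe_zpow]
    show g⁻¹ * x ^ i * g = (g⁻¹ * x * g) ^ i
    simpa using (conj_zpow (a := g⁻¹) (b := x) (i := i)).symm)
  rw [e]; exact this

/-- An irreducible representation of `L ⧸ K` extends to `G`, trivially on the kernel set. -/
theorem exists_extension (hS : IsTIDiff K) {W : Type u} [AddCommGroup W]
    [Module ℂ W] [FiniteDimensional ℂ W] (φ : Representation ℂ (L ⧸ K) W)
    [Representation.IsIrreducible φ] :
    ∃ (U : Type u) (_ : AddCommGroup U) (_ : Module ℂ U) (_ : FiniteDimensional ℂ U)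
      (τ : Representation ℂ G U), finrank ℂ U = finrank ℂ W ∧
      (∀ l : L, τ.character (l : G) = φ.character (l : L ⧸ K)) ∧
      ∀ x ∈ kerSet K, τ x = 1 := by
  classical
  have := Fintype.ofFinite G
  let φ' : Representation ℂ L W := φ.comp (QuotientGroup.mk' K)
  let triv : Representation ℂ G W := 1
  let triv' : Representation ℂ L W := 1
  let ρ : Representation ℂ G ((G ⧸ L → W) × W) :=
    { toFun := fun g => LinearMap.prodMap (indRep φ' g) (triv g)
      map_one' := by simp [LinearMap.prodMap_one]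
      map_mul' := fun a b => by simp [LinearMap.prodMap_mul] }
  let σ : Representation ℂ G (G ⧸ L → W) := indRep triv'
  let d : ℂ := (finrank ℂ W : ℂ)
  let θ : G → ℂ := fun g => ρ.character g - σ.character g
  have hφK : ∀ l : L, l ∈ K → φ'.character l = d := fun l hl => by
    show φ.character (l : L ⧸ K) = d
    rw [(QuotientGroup.eq_one_iff l).mpr hl, Representation.char_one]
  have hθ : ∀ g, θ g = (∑ q : G ⧸ L, if g⁻¹ • q = q then φ'.character (indCocycle L g q) - d else 0)
      + d := by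
    intro g
    have hρ : ρ.character g = (indRep φ').character g + d := by
      show LinearMap.trace ℂ _ (LinearMap.prodMap (indRep φ' g) (triv g)) = _
      rw [LinearMap.trace_prodMap']
      show _ + LinearMap.trace ℂ W 1 = _
      rw [LinearMap.trace_one]
      rfl
    have ht : ∀ x : L, triv'.character x = d := fun x => by
      show LinearMap.trace ℂ W 1 = _
      rw [LinearMap.trace_one]
    simp only [θ, σ, hρ, char_indRep, ht]
    rw [add_sub_right_comm, ← Finset.sum_sub_distrib]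
    congr 1
    refine Finset.sum_congr rfl fun q _ => ?_
    split_ifs <;> simp
  have hcoc : ∀ (g : G) (q : G ⧸ L), g⁻¹ • q = q → (indCocycle L g q : G) = q.out⁻¹ * g * q.out := by
    intro g q h
    rw [indCocycle_coe, h]
  have hθK : ∀ g ∈ kerSet K, θ g = d := by
    intro g hg
    rw [hθ, add_eq_right]
    refine Finset.sum_eq_zero fun q _ => ?_
    split_ifs with h
    · rw [hφK, sub_self]
      have e := hcoc g q h
      have hm : q.out⁻¹ * g * q.out ∈ L := e ▸ (indCocycle L g q).2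
      have : indCocycle L g q = ⟨_, hm⟩ := Subtype.ext e
      rw [this]; exact hg _ hm
    · rfl
  have hθL : ∀ l : L, θ l = φ'.character l := by
    intro l
    by_cases hl : l ∈ K
    · rw [hθK _ ((mem_kerSet_iff_of_mem hS l).mpr hl), hφK l hl]
    rw [hθ]
    have hfix1 : (l : G)⁻¹ • ((1 : G) : G ⧸ L) = ((1 : G) : G ⧸ L) := by
      show (((l : G)⁻¹ * 1 : G) : G ⧸ L) = _
      rw [QuotientGroup.eq]
      simpa using l.2
    rw [Finset.sum_eq_single ((1 : G) : G ⧸ L), if_pos hfix1]
    · obtain ⟨v, hv⟩ := QuotientGroup.mk_out_eq_mul L (1 : G)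
      have hc : indCocycle L (l : G) ((1 : G) : G ⧸ L) = v⁻¹ * l * (v⁻¹)⁻¹ := by
        apply Subtype.ext
        rw [indCocycle_coe, hfix1, hv]
        simp [mul_assoc]
      rw [hc, Representation.char_conj, sub_add_cancel]
    · intro q _ hq
      refine if_neg fun he => hq ?_
      have e := hcoc _ q he
      have hm : q.out⁻¹ * (l : G) * q.out ∈ L := e ▸ (indCocycle L (l : G) q).2
      have hc := (QuotientGroup.eq (a := q.out) (b := (1 : G))).mpr (by
        simpa using L.inv_mem (hS l hl _ hm))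
      rwa [QuotientGroup.out_eq'] at hc
    · simp
  have hθc : ∀ (g a : G), θ (a * g * a⁻¹) = θ g := fun g a => by
    simp only [θ, Representation.char_conj]
  have hnorm : ∑ g : G, θ g * θ g⁻¹ = (Nat.card G : ℂ) := by
    rw [← (Equiv.sumCompl (fun x => x ∈ kerSet K)).sum_comp, Fintype.sum_sum_type,
      ← (pairsEquiv hS).sum_comp, Fintype.sum_prod_type]
    have hK : ∀ x : {x // x ∈ kerSet K}, θ x * θ (x : G)⁻¹ = d * d := fun x => by
      rw [hθK _ x.2, hθK _ (inv_mem_kerSet K x.2)]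
    have hH' : ∀ (q : G ⧸ L) (l : {l : L // l ∉ K}),
        θ (pairsEquiv hS (q, l) : G) * θ (pairsEquiv hS (q, l) : G)⁻¹ =
          φ'.character l.1 * φ'.character l.1⁻¹ := by
      intro q l
      have e : ((pairsEquiv hS (q, l) : {x // x ∉ kerSet K}) : G) =
          q.out * ((l.1 : L) : G) * q.out⁻¹ := rfl
      rw [e, conj_inv, hθc, hθc, hθL, ← Subgroup.coe_inv, hθL]
    simp only [Equiv.sumCompl_apply_inl, Equiv.sumCompl_apply_inr, hK, hH', Finset.sum_const,
      Finset.card_univ, nsmul_eq_mul, Fintype.card_eq_nat_card]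
    have hd : ∑ z : L ⧸ K, φ.character z * φ.character z⁻¹ = (K.index : ℂ) := by
      rw [sum_char_mul_char, Representation.IsIrreducible.finrank_intertwiningMap_self, Nat.cast_one,
        mul_one, ← Subgroup.index_eq_card]
    have hL : ∑ l : L, φ'.character l * φ'.character l⁻¹ = (Nat.card K : ℂ) * (K.index : ℂ) := by
      rw [← hd, Finset.mul_sum, ← Finset.sum_fiberwise Finset.univ (fun l : L => (l : L ⧸ K))]
      refine Finset.sum_congr rfl fun z _ => ?_
      rw [Finset.sum_congr rfl (fun l hl => show φ'.character l * φ'.character l⁻¹ =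
        φ.character z * φ.character z⁻¹ by
          rw [← (Finset.mem_filter.mp hl).2]; rfl),
        Finset.sum_const, nsmul_eq_mul]
      congr 2
      obtain ⟨w, rfl⟩ := QuotientGroup.mk_surjective z
      rw [← Fintype.card_subtype, Fintype.card_eq_nat_card]
      refine Nat.card_congr ⟨fun l => ⟨w⁻¹ * l.1, (QuotientGroup.eq).mp l.2.symm⟩,
        fun k => ⟨w * k.1, ?_⟩, fun l => by simp, fun k => by simp⟩
      rw [QuotientGroup.mk_mul, (QuotientGroup.eq_one_iff k.1).mpr k.2, mul_one]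
    rw [← (Equiv.sumCompl (fun l : L => l ∉ K)).sum_comp, Fintype.sum_sum_type] at hL
    have h1 : ∑ a : {l : L // ¬ l ∉ K}, φ'.character a.1 * φ'.character a.1⁻¹ = (Nat.card K : ℂ) * (d * d) := by
      rw [Finset.sum_congr rfl (fun a _ => by
        rw [hφK _ (not_not.mp a.2), hφK _ (K.inv_mem (not_not.mp a.2))] :
        ∀ a ∈ (Finset.univ : Finset {l : L // ¬ l ∉ K}), φ'.character a.1 * φ'.character a.1⁻¹ = d * d),
        Finset.sum_const, Finset.card_univ, nsmul_eq_mul, Fintype.card_eq_nat_card,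
        Nat.card_congr (Equiv.subtypeEquivRight (fun x : L => not_not (a := x ∈ K)))]
    simp only [Equiv.sumCompl_apply_inl, Equiv.sumCompl_apply_inr, h1] at hL
    rw [eq_sub_of_add_eq hL]
    have e1 := card_kerSet_mul hS
    have e2 := card_kerSet_add hS
    have e3 := card_diff_add (K := K)
    have e4 := L.index_mul_card
    have e5 : Nat.card K * K.index = Nat.card L := K.card_mul_index
    have e6 : Nat.card (kerSet K) = L.index * Nat.card K := by
      rw [← e4, ← e3, mul_add] at e2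
      omega
    rw [← e4, ← e5, show Nat.card {x // x ∈ kerSet K} = Nat.card (kerSet K) from rfl, e6,
      ← Subgroup.index_eq_card]
    push_cast
    ring
  have hW : 0 < finrank ℂ W := by
    rw [pos_iff_ne_zero]
    intro h0
    have : Subsingleton W := Module.finrank_zero_iff.1 h0
    exact (bot_ne_top (α := Subrepresentation φ))
      (Subrepresentation.toSubmodule_injective (Subsingleton.elim _ _))
  obtain ⟨U, i1, i2, i3, τ, hτ⟩ := exists_rep_of_virtual_norm_one (finrank ℂ (G ⧸ L → W)) ρ σ rfl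
    (by rw [Module.finrank_prod]; omega) hnorm
  have hτ' : ∀ g, τ.character g = θ g := hτ
  have hU : finrank ℂ U = finrank ℂ W := by
    have := hτ' 1
    rw [Representation.char_one, hθK 1 (one_mem_kerSet K)] at this
    exact Nat.cast_injective this
  refine ⟨U, i1, i2, i3, τ, hU, fun l => (hτ' _).trans (hθL l), fun x hx => ?_⟩
  refine apply_eq_one_of_char_pow τ x fun y hy => ?_
  rw [hU, hτ']
  exact hθK y (pow_mem_kerSet hS hx hy)

/-- **Relative Frobenius theorem.** -/
theorem exists_relative_kernel (hS : IsTIDiff K) :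
    ∃ N : Subgroup G, N.Normal ∧ (∀ l : L, (l : G) ∈ N ↔ l ∈ K) ∧ Nat.card N * K.index = Nat.card G := by
  classical
  let N := Subgroup.closure (kerSet K)
  have hnorm : N.Normal := by
    refine ⟨fun n hn g => ?_⟩
    have h : N ≤ N.comap (MulAut.conj g).toMonoidHom := (Subgroup.closure_le _).2 fun x hx =>
      Subgroup.mem_comap.2 (Subgroup.subset_closure (conj_mem_kerSet K hx g))
    exact h hn
  have hiff : ∀ l : L, (l : G) ∈ N ↔ l ∈ K := by
    intro l
    refine ⟨fun hN => ?_, fun hl => Subgroup.subset_closure ((mem_kerSet_iff_of_mem hS l).mpr hl)⟩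
    by_contra hl
    have hl' : (l : L ⧸ K) ≠ 1 := fun e => hl ((QuotientGroup.eq_one_iff l).mp e)
    obtain ⟨V, _, _, _, φ, hirr, hφ⟩ := exists_irreducible_apply_ne_one hl'
    obtain ⟨U, _, _, _, τ, hU, hτL, hτK⟩ := exists_extension hS φ
    have hker : N ≤ τ.ker := (Subgroup.closure_le _).2 fun x hx => hτK x hx
    apply hφ
    have := Fintype.ofFinite (L ⧸ K)
    refine apply_eq_one_of_char_pow φ _ fun y hy => ?_
    obtain ⟨i, rfl⟩ := Subgroup.mem_zpowers_iff.1 hy
    have hy' : ((l ^ i : L) : G) ∈ N := by simpa using N.zpow_mem hN i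
    rw [show (l : L ⧸ K) ^ i = ((l ^ i : L) : L ⧸ K) from rfl, ← hτL, ← hU, Representation.character,
      show τ ((l ^ i : L) : G) = 1 from hker hy', LinearMap.trace_one]
  refine ⟨N, hnorm, hiff, ?_⟩
  have e1 := card_kerSet_mul hS
  have hge : Nat.card (kerSet K) ≤ Nat.card N :=
    Nat.card_mono (Set.toFinite _) (Subgroup.subset_closure (k := kerSet K))
  -- N L has at most |G| elements
  have hle : Nat.card N * K.index ≤ Nat.card G := by
    let f : N × (L ⧸ K) → G := fun z => (z.1 : G) * ((z.2.out : L) : G)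
    have hf : Function.Injective f := by
      rintro ⟨n₁, q₁⟩ ⟨n₂, q₂⟩ h
      have h' : (n₁ : G) * ((q₁.out : L) : G) = (n₂ : G) * ((q₂.out : L) : G) := h
      have h2 : ((q₁.out * q₂.out⁻¹ : L) : G) ∈ N := by
        have : ((q₁.out * q₂.out⁻¹ : L) : G) = (n₁ : G)⁻¹ * (n₂ : G) := by
          calc ((q₁.out * q₂.out⁻¹ : L) : G) = (n₁ : G)⁻¹ * ((n₁ : G) * ((q₁.out : L) : G)) * ((q₂.out : L) : G)⁻¹ := by
                simp [mul_assoc]
            _ = _ := by rw [h']; group
        rw [this]; exact N.mul_mem (N.inv_mem n₁.2) n₂.2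
      have hq : q₁ = q₂ := by
        have h3 := (QuotientGroup.eq_one_iff (N := K) _).mpr ((hiff _).mp h2)
        rw [QuotientGroup.mk_mul, QuotientGroup.mk_inv, QuotientGroup.out_eq', QuotientGroup.out_eq',
          mul_inv_eq_one] at h3
        exact h3
      subst hq
      exact Prod.ext (Subtype.ext (mul_right_cancel h')) rfl
    have := Nat.card_le_card_of_injective f hf
    rwa [Nat.card_prod, ← Subgroup.index_eq_card] at this
  exact le_antisymm hle (e1 ▸ Nat.mul_le_mul_right _ hge)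

end Cfsg.Agent.TIKernel
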