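import Cfsg.Agent.Lib.ClassIndex.PrimeCycles
import Cfsg.Agent.Lib.Perm.Normalizing

/-!
# Transitive groups of degree 13 with an 11-cycle (owner: helper75)

`alternating_le_thirteen`: such a group of even permutations contains the alternating group.
-/

namespace Cfsg.Agent.TwinDegree

open Equiv Equiv.Perm PrimeCycles

variable {α : Type*} [Fintype α] [DecidableEq α] {H : Subgroup (Perm α)}

theorem le_of_five_cycle (hG : MulAction.IsPreprimitive H α) (hcard : Fintype.card α = 13)
    {f : Perm α} (hf : f ∈ H) (h5 : orderOf f = 5) (hs : f.support.card < 10) :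
    alternatingGroup α ≤ H := by
  have hc : f.IsCycle := isCycle_of_prime_order (h5 ▸ by norm_num) (by rw [h5]; omega)
  exact S0713.result H hG (p := 5) (by norm_num) (by omega) (by omega) hc (hc.orderOf ▸ h5) hf

theorem pow_mul_conj {w f : Perm α} {r : ℕ} (h : w * f * w⁻¹ = f ^ r) (i : ℕ) :
    w ^ i * f * (w ^ i)⁻¹ = f ^ (r ^ i) := by
  induction i with
  | zero => simp
  | succ i ih =>
    rw [pow_succ', mul_inv_rev, show w * w ^ i * f * ((w ^ i)⁻¹ * w⁻¹) =
      w * (w ^ i * f * (w ^ i)⁻¹) * w⁻¹ by group, ih, ← conj_pow, h, ← pow_mul, pow_succ, mul_comm]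

/-- The orbit of a moved point under an element of order 5. -/
theorem orbit_five {f : Perm α} (h5 : orderOf f = 5) {z : α} (hz : z ∈ f.support) :
    ((Finset.range 5).image (fun i => (f ^ i) z)).card = 5 ∧
      (Finset.range 5).image (fun i => (f ^ i) z) ⊆ f.support := by
  constructor
  · rw [Finset.card_image_of_injOn, Finset.card_range]
    have key : ∀ i j : ℕ, i < j → j < 5 → (f ^ i) z ≠ (f ^ j) z := by
      intro i j hij hj h
      refine mem_support.1 hz (apply_eq_of_pow_apply_eq (by norm_num) h5 (k := j - i) (by omega) (by omega) ?_)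
      have : (f ^ i) ((f ^ (j - i)) z) = (f ^ i) z := by
        rw [← Perm.mul_apply, ← pow_add, show i + (j - i) = j by omega, h]
      exact (f ^ i).injective this
    intro i hi j hj h
    simp only [Finset.coe_range, Set.mem_Iio] at hi hj
    rcases Nat.lt_trichotomy i j with hlt | hlt | hlt
    · exact absurd h (key i j hlt hj)
    · exact hlt
    · exact absurd h.symm (key j i hlt hi)
  · intro w hw
    obtain ⟨i, -, rfl⟩ := Finset.mem_image.1 hw
    exact pow_apply_mem_support.2 hz

/-- A permutation commuting with an element of type `5²` has its tenth power fixing its support. -/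
theorem pow_ten_apply {f v : Perm α} (h5 : orderOf f = 5) (hs : f.support.card = 10)
    (hc : Commute v f) {z : α} (hz : z ∈ f.support) : (v ^ 10) z = z := by
  have hv : ∀ w ∈ f.support, v w ∈ f.support := by
    intro w hw
    rw [mem_support] at hw ⊢
    intro h
    apply hw
    apply v.injective
    rw [← Perm.mul_apply, hc.eq, Perm.mul_apply, h]
  let O : α → Finset α := fun z => (Finset.range 5).image (fun i => (f ^ i) z)
  have hfv : ∀ (i : ℕ) w, v ((f ^ i) w) = (f ^ i) (v w) := fun i w => by
    rw [← Perm.mul_apply, (hc.pow_right i).eq, Perm.mul_apply]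
  have hmem : ∀ u w, u ∈ O w ↔ ∃ i, (f ^ i) w = u := by
    intro u w
    constructor
    · intro h
      obtain ⟨i, -, hi⟩ := Finset.mem_image.1 h
      exact ⟨i, hi⟩
    · rintro ⟨i, rfl⟩
      refine Finset.mem_image.2 ⟨i % 5, Finset.mem_range.2 (Nat.mod_lt _ (by norm_num)), ?_⟩
      rw [← h5, pow_mod_orderOf]
  -- `v²` preserves the orbit of `z`
  obtain ⟨i, hi⟩ : ∃ i, (f ^ i) z = (v * v) z := by
    rw [← hmem, Perm.mul_apply]
    by_cases h1 : v z ∈ O z
    · obtain ⟨j, hj⟩ := (hmem _ _).1 h1
      refine (hmem _ _).2 ⟨j + j, ?_⟩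
      conv_rhs => rw [← hj, hfv, ← hj]
      rw [pow_add, Perm.mul_apply]
    · have hdisj : Disjoint (O z) (O (v z)) := by
        rw [Finset.disjoint_left]
        intro u hu hu'
        obtain ⟨j, rfl⟩ := (hmem _ _).1 hu
        obtain ⟨k, hk⟩ := (hmem _ _).1 hu'
        refine h1 ((hmem _ _).2 ⟨4 * k + j, ?_⟩)
        have h55 : (f ^ (5 * k)) (v z) = v z := by
          rw [pow_mul, show f ^ 5 = 1 by rw [← h5, pow_orderOf_eq_one], one_pow, Perm.one_apply]
        rw [pow_add, Perm.mul_apply, ← hk, ← Perm.mul_apply, ← pow_add,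
          show 4 * k + k = 5 * k by ring, h55]
      have hunion : O z ∪ O (v z) = f.support := by
        refine Finset.eq_of_subset_of_card_le
          (Finset.union_subset (orbit_five h5 hz).2 (orbit_five h5 (hv z hz)).2) ?_
        rw [Finset.card_union_of_disjoint hdisj, (orbit_five h5 hz).1, (orbit_five h5 (hv z hz)).1, hs]
      have h2 : v (v z) ∈ O z ∪ O (v z) := hunion ▸ hv _ (hv z hz)
      rcases Finset.mem_union.1 h2 with h2 | h2
      · exact h2
      · exfalso
        obtain ⟨j, hj⟩ := (hmem _ _).1 h2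
        exact h1 ((hmem _ _).2 ⟨j, v.injective (by rw [hfv, hj])⟩)
  have hpow : ∀ n : ℕ, ((v * v) ^ n) z = (f ^ (i * n)) z := by
    intro n
    induction n with
    | zero => simp
    | succ n ih =>
      rw [pow_succ', Perm.mul_apply, ih, Perm.mul_apply, hfv, hfv,
        ← Perm.mul_apply v v, ← hi, ← Perm.mul_apply, ← pow_add, Nat.mul_succ]
  have := hpow 5
  rwa [← pow_two, ← pow_mul, mul_comm i, pow_mul f 5, show f ^ 5 = 1 by
    rw [← h5, pow_orderOf_eq_one], one_pow, Perm.one_apply] at this

theorem le_of_order_five (hG : MulAction.IsPreprimitive H α) (hcard : Fintype.card α = 13)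
    (h3 : MulAction.IsMultiplyPretransitive H α 3) {f : Perm α} (hf : f ∈ H) (h5 : orderOf f = 5) :
    alternatingGroup α ≤ H := by
  classical
  haveI : Fact (Nat.Prime 5) := ⟨by norm_num⟩
  by_contra hnot
  have hten : ∀ g ∈ H, orderOf g = 5 → g.support.card = 10 := by
    intro g hg hg5
    have h1 : 10 ≤ g.support.card := by
      by_contra h
      exact hnot (le_of_five_cycle hG hcard hg hg5 (by omega))
    have h2 : g.cycleType.sum = Multiset.card g.cycleType * 5 := by
      have hall : ∀ b ∈ g.cycleType, b = 5 := fun b hb => by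
        have := (Nat.dvd_prime (by norm_num)).1 (hg5 ▸ dvd_of_mem_cycleType hb)
        have := two_le_of_mem_cycleType hb
        omega
      conv_lhs => rw [Multiset.eq_replicate_of_mem hall, Multiset.sum_replicate, smul_eq_mul]
    rw [sum_cycleType] at h2
    have h4 := g.support.card_le_univ
    rw [hcard] at h4
    omega
  have hs10 := hten f hf h5
  obtain ⟨a, b, c, hab, hac, hbc, hfix⟩ := Finset.card_eq_three.1
    (show f.supportᶜ.card = 3 by rw [Finset.card_compl, hs10, hcard])
  have hS : ∀ z, f z = z ↔ z = a ∨ z = b ∨ z = c := by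
    intro z
    rw [← notMem_support, ← Finset.mem_compl, hfix]
    simp
  let K : Subgroup (Perm α) := H ⊓ fixingSubgroup (Perm α) ({a, b, c} : Set α)
  have hK : ∀ g, g ∈ K ↔ g ∈ H ∧ g a = a ∧ g b = b ∧ g c = c := by
    intro g
    simp [K, mem_fixingSubgroup_iff]
  have hfK : f ∈ K := (hK f).2 ⟨hf, (hS a).2 (Or.inl rfl), (hS b).2 (Or.inr (Or.inl rfl)),
    (hS c).2 (Or.inr (Or.inr rfl))⟩
  have hZ : Nat.card (Subgroup.zpowers f) = 5 := by rw [Nat.card_zpowers, h5]
  have hZp : IsPGroup 5 (Subgroup.zpowers f) := IsPGroup.of_card (n := 1) (by rw [pow_one, hZ])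
  obtain ⟨z0, hz0⟩ : f.support.Nonempty := Finset.card_pos.1 (by omega)
  have hmax : ∀ R : Subgroup (Perm α), IsPGroup 5 R → R ≤ K →
      Nat.card R ≤ Nat.card (Subgroup.zpowers f) := by
    intro R hR hRK
    rw [hZ]
    have hmove : ∀ g ∈ R, g ≠ 1 → ∀ z ∈ f.support, g z ≠ z := by
      intro g hgR hg1 z hz hgz
      obtain ⟨k, hk⟩ := hR ⟨g, hgR⟩
      obtain ⟨j, hjle, hj⟩ := (Nat.dvd_prime_pow (by norm_num : Nat.Prime 5)).1
        (orderOf_dvd_of_pow_eq_one (show g ^ 5 ^ k = 1 from congrArg Subtype.val hk))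
      rcases Nat.eq_zero_or_pos j with rfl | hjp
      · rw [pow_zero, orderOf_eq_one_iff] at hj; exact hg1 hj
      set g' := g ^ 5 ^ (j - 1) with hg'
      have hd : 5 ^ (j - 1) ∣ orderOf g := hj ▸ pow_dvd_pow 5 (by omega)
      have hg'5 : orderOf g' = 5 := by
        rw [hg', orderOf_pow_of_dvd (by positivity) hd, hj, Nat.pow_div (by omega) (by norm_num),
          show j - (j - 1) = 1 by omega, pow_one]
      have hg'K := K.pow_mem (hRK hgR) (5 ^ (j - 1))
      obtain ⟨hH, ha, hb, hc⟩ := (hK _).1 hg'K
      have hsub : g'.support ⊆ ({a, b, c, z} : Finset α)ᶜ := by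
        intro w hw
        simp only [Finset.mem_compl, Finset.mem_insert, Finset.mem_singleton]
        rintro (rfl | rfl | rfl | rfl)
        · exact mem_support.1 hw ha
        · exact mem_support.1 hw hb
        · exact mem_support.1 hw hc
        · exact mem_support.1 hw (pow_apply_eq_self_of_apply_eq_self hgz _)
      have h4 : ({a, b, c, z} : Finset α).card = 4 := by
        have hz' : f z ≠ z := mem_support.1 hz
        rw [Ne, hS] at hz'
        push Not at hz'
        simp [hab, hac, hbc, Ne.symm hz'.1, Ne.symm hz'.2.1, Ne.symm hz'.2.2]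
      have := Finset.card_le_card hsub
      rw [Finset.card_compl, h4, hcard, hten g' hH hg'5] at this
      omega
    have hRsupp : ∀ g : R, (g : Perm α) z0 ∈ f.support := by
      intro g
      obtain ⟨-, ha, hb, hc⟩ := (hK _).1 (hRK g.2)
      have hz := mem_support.1 hz0
      rw [Ne, hS] at hz
      rw [mem_support, Ne, hS]
      rintro (h | h | h)
      · exact hz (Or.inl ((g : Perm α).injective (h.trans ha.symm)))
      · exact hz (Or.inr (Or.inl ((g : Perm α).injective (h.trans hb.symm))))
      · exact hz (Or.inr (Or.inr ((g : Perm α).injective (h.trans hc.symm))))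
    have hinj : Function.Injective (fun g : R => (⟨(g : Perm α) z0, hRsupp g⟩ : f.support)) := by
      intro g h hgh
      have e : (g : Perm α) z0 = (h : Perm α) z0 := congrArg Subtype.val hgh
      by_contra hne
      refine hmove ((g : Perm α)⁻¹ * h) (R.mul_mem (R.inv_mem g.2) h.2) ?_ z0 hz0 ?_
      · intro h1
        exact hne (Subtype.ext (inv_mul_eq_one.1 h1))
      · rw [Perm.mul_apply, ← e, Perm.inv_def, Equiv.symm_apply_apply]
    have hle := Nat.card_le_card_of_injective _ hinj
    rw [Nat.card_eq_fintype_card (α := f.support), Fintype.card_coe, hs10] at hle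
    obtain ⟨n, hn⟩ := IsPGroup.iff_card.1 hR
    rw [hn] at hle ⊢
    rcases Nat.lt_or_ge n 2 with h | h
    · interval_cases n <;> norm_num
    · have := Nat.pow_le_pow_right (show 5 > 0 by norm_num) h
      omega
  obtain ⟨g, hgH, hga, hgb, hgc⟩ := exists_map_three h3 hab hac hbc hbc hab.symm hac.symm
  have hQK : (Subgroup.zpowers f).map (MulAut.conj g).toMonoidHom ≤ K := by
    rw [MonoidHom.map_zpowers, Subgroup.zpowers_le]
    show g * f * g⁻¹ ∈ K
    have hinv : ∀ u w : α, g u = w → f u = u → (g * f * g⁻¹) w = w := by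
      intro u w h hu
      rw [← h, Perm.mul_apply, Perm.mul_apply, Perm.inv_def, Equiv.symm_apply_apply, hu]
    exact (hK _).2 ⟨H.mul_mem (H.mul_mem hgH hf) (H.inv_mem hgH),
      hinv c a hgc ((hS c).2 (Or.inr (Or.inr rfl))), hinv a b hga ((hS a).2 (Or.inl rfl)),
      hinv b c hgb ((hS b).2 (Or.inr (Or.inl rfl)))⟩
  obtain ⟨k, hk, hkQ⟩ := Perm.exists_conj_of_pgroups_max hZp
    (hZp.map (MulAut.conj g).toMonoidHom) (Subgroup.zpowers_le.mpr hfK) hQK
    (Nat.card_congr ((Subgroup.zpowers f).equivMapOfInjective _ (MulEquiv.injective _)).toEquiv).symm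
    hmax
  obtain ⟨hkH, hka, hkb, hkc⟩ := (hK k).1 hk
  set w := k * g with hw
  have hwa : w a = b := by rw [hw, Perm.mul_apply, hga, hkb]
  have hwb : w b = c := by rw [hw, Perm.mul_apply, hgb, hkc]
  have hwc : w c = a := by rw [hw, Perm.mul_apply, hgc, hka]
  obtain ⟨r, hr⟩ : ∃ r : ℕ, w * f * w⁻¹ = f ^ r := by
    have hm : w * f * w⁻¹ ∈ Subgroup.zpowers f := by
      rw [← hkQ]
      exact ⟨g * f * g⁻¹, ⟨f, Subgroup.mem_zpowers f, rfl⟩, by simp [hw, mul_assoc]⟩
    obtain ⟨r, hr⟩ := mem_powers_iff_mem_zpowers.2 hm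
      |> (Submonoid.mem_powers_iff _ _).1
    exact ⟨r, hr.symm⟩
  have hr5 : ¬ 5 ∣ r := fun hd => by
    have : f ^ r = 1 := orderOf_dvd_iff_pow_eq_one.1 (h5 ▸ hd)
    rw [this, conj_eq_one_iff] at hr
    rw [hr, orderOf_one] at h5
    omega
  have hcomm : Commute (w ^ 4) f := by
    have h := pow_mul_conj hr 4
    have h1 : f ^ r ^ 4 = f := by
      conv_rhs => rw [← pow_one f]
      rw [pow_eq_pow_iff_modEq, h5, Nat.ModEq, Nat.pow_mod]
      have : r % 5 = 1 ∨ r % 5 = 2 ∨ r % 5 = 3 ∨ r % 5 = 4 := by omega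
      rcases this with e | e | e | e <;> rw [e]
    rw [h1, mul_inv_eq_iff_eq_mul] at h
    exact h
  set v := (w ^ 4) ^ 10 with hv
  have hv3 : ∀ u, u = a ∨ u = b ∨ u = c → v u = w u := by
    intro u hu
    have h3 : (w ^ 3) u = u := by
      rcases hu with rfl | rfl | rfl <;>
        simp [pow_succ, Perm.mul_apply, hwa, hwb, hwc]
    rw [hv, ← pow_mul, show 4 * 10 = 1 + 3 * 13 by norm_num, pow_add, pow_one, Perm.mul_apply,
      pow_mul, pow_apply_eq_self_of_apply_eq_self h3]
  have hsupp : v.support = {a, b, c} := by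
    ext u
    simp only [mem_support, Finset.mem_insert, Finset.mem_singleton]
    constructor
    · intro hu
      by_contra hn
      exact hu (pow_ten_apply h5 hs10 hcomm (mem_support.2 fun h => hn ((hS u).1 h)))
    · intro hu
      rw [hv3 u hu]
      rcases hu with rfl | rfl | rfl
      · rw [hwa]; exact hab.symm
      · rw [hwb]; exact hbc.symm
      · rw [hwc]; exact hac
  refine hnot (alternatingGroup_le_of_isPreprimitive_of_isThreeCycle_mem hG (g := v) ?_ ?_)
  · rw [← card_support_eq_three_iff, hsupp]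
    simp [hab, hac, hbc]
  · exact H.pow_mem (H.pow_mem (H.mul_mem hkH hgH) _) _

/-- A group of order `132` cannot have a self-normalizing subgroup of order `11`. -/
theorem not_selfNormalizing {K : Type*} [Group K] [Finite K] (hK : Nat.card K = 132) {x : K}
    (hx : orderOf x = 11) (hN : ∀ g : K, g * x * g⁻¹ ∈ Subgroup.zpowers x → g ∈ Subgroup.zpowers x) :
    False := by
  classical
  haveI : Fact (Nat.Prime 11) := ⟨by norm_num⟩
  obtain ⟨M, hMn, hM, -⟩ := exists_normal_complement_of_prime hx (by rw [hK]; norm_num) hN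
  have hM12 : Nat.card M = 12 := by omega
  haveI := Fintype.ofFinite M
  haveI : Fact (Nat.Prime 3) := ⟨by norm_num⟩
  obtain ⟨t, ht⟩ := exists_prime_orderOf_dvd_card' (G := M) 3 (by rw [hM12]; norm_num)
  haveI : Fact (Nat.Prime 2) := ⟨by norm_num⟩
  obtain ⟨s, hs⟩ := exists_prime_orderOf_dvd_card' (G := M) 2 (by rw [hM12]; norm_num)
  let S := {u : M // orderOf u = 3}
  have hcard : Nat.card S < 11 := by
    have hlt : Nat.card S + 2 ≤ 12 := by
      rw [← hM12, Nat.card_eq_fintype_card, Nat.card_eq_fintype_card,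
        Fintype.card_subtype]
      have hsub : (Finset.univ.filter fun u : M => orderOf u = 3) ⊆ ({1, s} : Finset M)ᶜ := by
        intro u hu
        rw [Finset.mem_filter] at hu
        simp only [Finset.mem_compl, Finset.mem_insert, Finset.mem_singleton]
        rintro (rfl | rfl)
        · simp [orderOf_one] at hu
        · omega
      have hne : (1 : M) ≠ s := fun h => by rw [← h, orderOf_one] at hs; omega
      have h2 : ({1, s} : Finset M).card = 2 := Finset.card_pair hne
      have := Finset.card_le_card hsub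
      rw [Finset.card_compl, h2] at this
      have := Finset.card_le_univ ({1, s} : Finset M)
      omega
    omega
  let σ : MulAut M := MulAut.conjNormal x
  let τ : Perm S := Equiv.subtypeEquiv σ.toEquiv (fun u => by
    show _ ↔ orderOf (σ u) = 3
    rw [MulEquiv.orderOf_eq])
  have hτpow : ∀ (n : ℕ) (u : S), (((τ ^ n) u : S) : M) = (σ ^ n) (u : M) := by
    intro n
    induction n with
    | zero => simp
    | succ n ih =>
      intro u
      rw [pow_succ', pow_succ', Perm.mul_apply, MulAut.mul_apply, ← ih]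
      rfl
  have hτ : τ = 1 := by
    have h11 : τ ^ 11 = 1 := by
      ext u
      rw [Perm.one_apply, hτpow 11 u, ← map_pow, show x ^ 11 = 1 by rw [← hx, pow_orderOf_eq_one],
        map_one, MulAut.one_apply]
    rcases (Nat.dvd_prime (by norm_num)).1 (orderOf_dvd_of_pow_eq_one h11) with h | h
    · exact orderOf_eq_one_iff.1 h
    · exfalso
      haveI := Fintype.ofFinite S
      have hd := orderOf_dvd_natCard τ
      rw [h, Nat.card_perm, Nat.Prime.dvd_factorial (by norm_num)] at hd
      omega
  have hfix : σ t = t := congrArg Subtype.val (congrArg (fun e : Perm S => e ⟨t, ht⟩) hτ)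
  have hcomm : x * (t : K) * x⁻¹ = t := by
    rw [← MulAut.conjNormal_apply (H := M) x t]
    exact congrArg Subtype.val hfix
  have hmem : (t : K) ∈ Subgroup.zpowers x := by
    refine hN t ?_
    rw [mul_inv_eq_iff_eq_mul] at hcomm
    rw [← hcomm, mul_inv_cancel_right]
    exact Subgroup.mem_zpowers x
  have hd := Subgroup.orderOf_dvd_natCard (Subgroup.zpowers x) hmem
  rw [Nat.card_zpowers, hx, Subgroup.orderOf_coe, ht] at hd
  norm_num at hd

theorem alternating_le_thirteen (hcard : Fintype.card α = 13) (hH : H ≤ alternatingGroup α)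
    [MulAction.IsPretransitive H α] {x : Perm α} (hx : x ∈ H) (hxc : x.IsCycle)
    (hx11 : x.support.card = 11) : alternatingGroup α ≤ H := by
  classical
  haveI : Fact (Nat.Prime 11) := ⟨by norm_num⟩
  haveI : Fact (Nat.Prime 5) := ⟨by norm_num⟩
  have hp : x.support.card.Prime := by rw [hx11]; norm_num
  have hG := isPreprimitive_of_big_cycle hx hxc hp (by omega)
  have h3 := isMultiplyPretransitive_three hG hx hxc hp (by omega)
  by_contra hnot
  have h5 : ∀ g ∈ H, orderOf g ≠ 5 := fun g hg h5 => hnot (le_of_order_five hG hcard h3 hg h5)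
  have hx0 : orderOf x = 11 := hxc.orderOf.trans hx11
  obtain ⟨a, b, hab, hfixx⟩ := Finset.card_eq_two.1
    (show x.supportᶜ.card = 2 by rw [Finset.card_compl, hx11, hcard])
  have hS : ∀ z, x z = z ↔ z = a ∨ z = b := by
    intro z
    rw [← notMem_support, ← Finset.mem_compl, hfixx]
    simp
  -- elements fixing `a`, `b` and normalizing `⟨x⟩`
  have hnorm : ∀ g ∈ H, g a = a → g b = b → g * x * g⁻¹ ∈ Subgroup.zpowers x →
      g ∈ Subgroup.zpowers x := by
    intro g hg hga hgb hgx
    have hgfix : ∀ z ∉ x.support, g z = z := by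
      intro z hz
      rw [notMem_support, hS] at hz
      rcases hz with rfl | rfl <;> assumption
    obtain ⟨r, hr⟩ := mem_powers_iff_mem_zpowers.2 hgx
      |> (Submonoid.mem_powers_iff _ _).1
    have hr' : g * x * g⁻¹ = x ^ r := hr.symm
    have hr11 : ¬ 11 ∣ r := fun hd => by
      have : x ^ r = 1 := orderOf_dvd_iff_pow_eq_one.1 (hx0 ▸ hd)
      rw [this, conj_eq_one_iff] at hr'
      rw [hr', orderOf_one] at hx0
      omega
    have hcop : Nat.Coprime 5 (orderOf g) := by
      refine (Nat.Prime.coprime_iff_not_dvd (by norm_num)).2 fun hd => ?_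
      refine h5 _ (H.pow_mem hg (orderOf g / 5)) ?_
      exact orderOf_pow_orderOf_div (orderOf_pos g).ne' hd
    obtain ⟨m, hm⟩ := exists_pow_eq_self_of_coprime (x := g) hcop
    rw [← hm]
    refine Subgroup.pow_mem _ (mem_zpowers_of_sq hxc hp (by omega) ?_ ?_
      (pow_mul_conj hr' 5) ?_) m
    · intro z hz
      exact pow_apply_eq_self_of_apply_eq_self (hgfix z hz) 5
    · exact mem_alternatingGroup.1 (Subgroup.pow_mem _ (hH hg) 5)
    · rw [hx11, Nat.ModEq, ← pow_add, Nat.pow_mod]
      have : r % 11 ≠ 0 := fun h => hr11 (Nat.dvd_of_mod_eq_zero h)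
      have : r % 11 < 11 := Nat.mod_lt _ (by norm_num)
      interval_cases h : r % 11 <;> first | omega | rfl | norm_num
  -- the stabilizers of one and of two points
  let Hab : Subgroup (Perm α) := H ⊓ fixingSubgroup (Perm α) ({a, b} : Set α)
  let Ha : Subgroup (Perm α) := H ⊓ fixingSubgroup (Perm α) ({a} : Set α)
  have hHab : ∀ g, g ∈ Hab ↔ g ∈ H ∧ g a = a ∧ g b = b := fun g => by
    simp [Hab, mem_fixingSubgroup_iff]
  have hHa : ∀ g, g ∈ Ha ↔ g ∈ H ∧ g a = a := fun g => by simp [Ha, mem_fixingSubgroup_iff]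
  have hxab : x ∈ Hab := (hHab x).2 ⟨hx, (hS a).2 (Or.inl rfl), (hS b).2 (Or.inr rfl)⟩
  have hno2 : ∀ K : Subgroup (Perm α), ¬ 11 * 11 ∣ Nat.card K := by
    intro K hd
    have h := hd.trans (Subgroup.card_subgroup_dvd_card K)
    rw [Nat.card_perm, Nat.card_eq_fintype_card, hcard] at h
    norm_num [Nat.factorial] at h
  have hab11 : Nat.card Hab = 11 := by
    obtain ⟨M, hMn, hM, hM11⟩ := exists_normal_complement_of_prime (K := Hab) (x := ⟨x, hxab⟩)
      (p := 11) (by rw [← Subgroup.orderOf_coe]; exact hx0) (hno2 _) (fun g hg => by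
        obtain ⟨i, hi⟩ := Subgroup.mem_zpowers_iff.1 hg
        have hi' : x ^ i = (g : Perm α) * x * (g : Perm α)⁻¹ := congrArg Subtype.val hi
        obtain ⟨hgH, hga, hgb⟩ := (hHab _).1 g.2
        obtain ⟨j, hj⟩ := Subgroup.mem_zpowers_iff.1 (hnorm g hgH hga hgb ⟨i, hi'⟩)
        exact ⟨j, Subtype.ext hj⟩)
    haveI := hMn
    -- the complement fixes every point
    have hMfix : ∀ z : α, ∀ g ∈ M, g • z = z := by
      intro z
      by_cases hz : z ∈ x.support
      · have horb : Nat.card (MulAction.orbit Hab z) = 11 := by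
          have e : MulAction.orbit Hab z = (x.support : Set α) := by
            ext u
            constructor
            · rintro ⟨⟨g, hg⟩, rfl⟩
              obtain ⟨-, hga, hgb⟩ := (hHab g).1 hg
              exact Finset.mem_coe.2 (mem_support_of_fixes_compl (g := g) (fun w hw => by
                rw [notMem_support, hS] at hw
                rcases hw with rfl | rfl <;> assumption) hz)
            · intro hu
              obtain ⟨i, hi⟩ := hxc.exists_zpow_eq (mem_support.1 hz) (mem_support.1 hu)
              exact ⟨⟨x ^ i, zpow_mem hxab i⟩, hi⟩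
          rw [e, Nat.card_coe_set_eq, Set.ncard_coe_finset, hx11]
        have hst : Nat.card (MulAction.stabilizer Hab z) * 11 = Nat.card Hab := by
          rw [← horb, mul_comm, Nat.card_congr (MulAction.orbitEquivQuotientStabilizer Hab z),
            ← Subgroup.index_eq_card, Subgroup.index_mul_card]
        have heq : Nat.card (MulAction.stabilizer Hab z) = Nat.card M := by omega
        have hle : MulAction.stabilizer Hab z ≤ M := by
          intro k hk
          have h1 : orderOf (k : Hab ⧸ M) ∣ Nat.card M := by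
            refine (orderOf_map_dvd (QuotientGroup.mk' M) k).trans ?_
            rw [← heq]
            exact Subgroup.orderOf_dvd_natCard _ hk
          have h2 : orderOf (k : Hab ⧸ M) ∣ 11 := by
            have h := orderOf_dvd_natCard (k : Hab ⧸ M)
            have hi : M.index = 11 := by
              have h' := M.card_mul_index
              rw [← hM] at h'
              exact Nat.eq_of_mul_eq_mul_left Nat.card_pos h'
            rwa [← Subgroup.index_eq_card, hi] at h
          rcases (Nat.dvd_prime (by norm_num)).1 h2 with h | h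
          · exact (QuotientGroup.eq_one_iff k).1 (orderOf_eq_one_iff.1 h)
          · exact absurd (h ▸ h1) hM11
        have := Subgroup.eq_of_le_of_card_ge hle heq.ge
        intro g hg
        rw [← this] at hg
        exact hg
      · intro g _
        obtain ⟨-, hga, hgb⟩ := (hHab _).1 g.2
        rw [notMem_support, hS] at hz
        show (g : Perm α) z = z
        rcases hz with rfl | rfl <;> assumption
    have hMbot : M = ⊥ := by
      rw [Subgroup.eq_bot_iff_forall]
      intro g hg
      exact Subtype.ext (Equiv.Perm.ext fun z => hMfix z g hg)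
    rw [hMbot, Subgroup.card_bot, one_mul] at hM
    exact hM.symm
  have ha132 : Nat.card Ha = 132 := by
    have horb : MulAction.orbit Ha b = ({a}ᶜ : Set α) := by
      ext u
      constructor
      · rintro ⟨⟨g, hg⟩, rfl⟩
        show g b ≠ a
        intro h
        exact hab (g.injective (((hHa g).1 hg).2.trans h.symm))
      · intro hu
        have hua : u ≠ a := hu
        obtain ⟨c, hc⟩ : ∃ c, c ∉ ({a, b, u} : Finset α) := by
          by_contra h
          push Not at h
          have := Finset.card_le_card (fun z _ => h z : Finset.univ ⊆ ({a, b, u} : Finset α))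
          have : ({a, b, u} : Finset α).card ≤ 3 := Finset.card_le_three
          simp only [Finset.card_univ, hcard] at *
          omega
        simp only [Finset.mem_insert, Finset.mem_singleton, not_or] at hc
        obtain ⟨g, hg, hga, hgb, -⟩ := exists_map_three h3 hab (Ne.symm hc.1) (Ne.symm hc.2.1)
          hua.symm (Ne.symm hc.1) (Ne.symm hc.2.2)
        exact ⟨⟨g, (hHa g).2 ⟨hg, hga⟩⟩, hgb⟩
    have hst : (MulAction.stabilizer Ha b).map Ha.subtype = Hab := by
      ext g
      constructor
      · rintro ⟨⟨g, hg⟩, hgb, rfl⟩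
        exact (hHab g).2 ⟨((hHa g).1 hg).1, ((hHa g).1 hg).2, hgb⟩
      · intro hg
        obtain ⟨h1, h2, h3⟩ := (hHab g).1 hg
        exact ⟨⟨g, (hHa g).2 ⟨h1, h2⟩⟩, h3, rfl⟩
    have h := (MulAction.stabilizer Ha b).index_mul_card
    rw [Subgroup.index_eq_card, ← Nat.card_congr (MulAction.orbitEquivQuotientStabilizer Ha b), horb,
      Nat.card_coe_set_eq, Set.ncard_compl, Set.ncard_singleton, Nat.card_eq_fintype_card, hcard,
      ← Subgroup.card_map_of_injective Ha.subtype_injective, hst, hab11] at h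
    exact h.symm
  have hxa : x ∈ Ha := (hHa x).2 ⟨hx, (hS a).2 (Or.inl rfl)⟩
  refine not_selfNormalizing ha132 (x := ⟨x, hxa⟩) (by rw [← Subgroup.orderOf_coe]; exact hx0) ?_
  intro g hg
  obtain ⟨i, hi⟩ := Subgroup.mem_zpowers_iff.1 hg
  have hi' : x ^ i = (g : Perm α) * x * (g : Perm α)⁻¹ := congrArg Subtype.val hi
  obtain ⟨hgH, hga⟩ := (hHa _).1 g.2
  have hgb : (g : Perm α) b = b := by
    have h1 : ((g : Perm α) * x * (g : Perm α)⁻¹) b = b := by
      rw [← hi']
      exact zpow_apply_eq_self_of_apply_eq_self ((hS b).2 (Or.inr rfl)) i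
    rw [Perm.mul_apply, Perm.mul_apply] at h1
    have h2 : x ((g : Perm α)⁻¹ b) = (g : Perm α)⁻¹ b := by
      rw [Perm.inv_def] at h1 ⊢
      exact (Equiv.eq_symm_apply _).2 h1
    rcases (hS _).1 h2 with h | h
    · exfalso
      rw [Perm.inv_def, Equiv.symm_apply_eq, hga] at h
      exact hab h.symm
    · rw [Perm.inv_def, Equiv.symm_apply_eq] at h
      exact h.symm
  obtain ⟨j, hj⟩ := Subgroup.mem_zpowers_iff.1 (hnorm g hgH hga hgb ⟨i, hi'⟩)
  exact ⟨j, Subtype.ext hj⟩

end Cfsg.Agent.TwinDegree
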